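import Cfsg.Agent.Lib.SUPres.Std

/-!
An alternating group and one small special unitary block, glued: the resulting weak Phan system.
-/

set_option autoImplicit false
set_option linter.unusedSectionVars false

namespace Cfsg.Agent.Lib.SUPres

open Matrix Equiv Cfsg.Agent.Lib.Schur.UnitMult Cfsg.Agent.Lib.UnitaryMax

universe u

theorem le23 : 2 ≤ 3 := Nat.le_succ 2

theorem le34 : 3 ≤ 4 := Nat.le_succ 3

variable {F : Type*} [Field F] [Fintype F] {n m k q : ℕ}

/-- The `i`-th point. -/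
def pt {a m : ℕ} (h : a ≤ m) (i : Fin a) : Fin m := Fin.castLE h i

theorem pt_inj {a m : ℕ} (h : a ≤ m) {i j : Fin a} : pt h i = pt h j ↔ i = j :=
  (Fin.castLE_injective h).eq_iff

theorem even_swaps {α : Type*} [Fintype α] [DecidableEq α] {a b c d : α} (h : a ≠ b) (h' : c ≠ d) :
    swap a b * swap c d ∈ alternatingGroup α :=
  Perm.mem_alternatingGroup.2 (by simp [Perm.sign_swap h, Perm.sign_swap h'])

/-- The three-cycle on the first three points. -/
def cyc3 (h : 3 ≤ m) : alternatingGroup (Fin m) :=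
  ⟨swap (pt h 0) (pt h 1) * swap (pt h 1) (pt h 2), even_swaps (by simp [pt_inj]) (by simp [pt_inj])⟩

theorem cyc3_apply (h : 3 ≤ m) (i : Fin 3) : (cyc3 h).1 (pt h i) = pt h (i + 1) := by
  fin_cases i <;> simp [cyc3, swap_apply_def, pt_inj]

theorem cyc3_off (h : 3 ≤ m) {x : Fin m} (hx : ∀ i, pt h i ≠ x) : (cyc3 h).1 x = x := by
  simp [cyc3, swap_apply_def, (hx 0).symm, (hx 1).symm, (hx 2).symm]

/-- The double transposition exchanging the two first pairs. -/
def dbl (h : 4 ≤ m) : alternatingGroup (Fin m) :=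
  ⟨swap (pt h 0) (pt h 2) * swap (pt h 1) (pt h 3), even_swaps (by simp [pt_inj]) (by simp [pt_inj])⟩

theorem dbl_mul_self (h : 4 ≤ m) : dbl h * dbl h = 1 := by
  apply Subtype.ext
  ext x
  by_cases h0 : x = pt h 0
  · subst h0; simp [dbl, swap_apply_def, pt_inj]
  by_cases h1 : x = pt h 1
  · subst h1; simp [dbl, swap_apply_def, pt_inj]
  by_cases h2 : x = pt h 2
  · subst h2; simp [dbl, swap_apply_def, pt_inj]
  by_cases h3 : x = pt h 3
  · subst h3; simp [dbl, swap_apply_def, pt_inj]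
  simp [dbl, swap_apply_def, h0, h1, h2, h3]

theorem dbl_apply (h : 4 ≤ m) : (dbl h).1 (pt h 0) = pt h 2 ∧ (dbl h).1 (pt h 1) = pt h 3 := by
  simp [dbl, swap_apply_def, pt_inj]

/-- The embedding of the first points. -/
def ptEmb {a m : ℕ} (h : a ≤ m) : Fin a ↪ Fin m := Fin.castLEEmb h

theorem ptEmb_apply {a m : ℕ} (h : a ≤ m) (i : Fin a) : ptEmb h i = pt h i := rfl

theorem ptEmb_trans {a b m : ℕ} (h : a ≤ b) (h' : b ≤ m) : (ptEmb h).trans (ptEmb h') = ptEmb (h.trans h') := by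
  ext i; rfl

theorem exists_perm {α : Type*} [Fintype α] [DecidableEq α] {a : ℕ} (f g : Fin a ↪ α) :
    ∃ π : Perm α, ∀ i, π (f i) = g i := by
  classical
  refine ⟨((Equiv.ofInjective f f.injective).symm.trans (Equiv.ofInjective g g.injective)).extendSubtype,
    fun i => ?_⟩
  rw [Equiv.extendSubtype_apply_of_mem _ _ ⟨i, rfl⟩]
  simp

/-- Setwise stabiliser of the first pair. -/
def Fixes2 (hn : 4 ≤ n) (g : alternatingGroup (Fin n)) : Prop :=
  ({g.1 (pt hn 0), g.1 (pt hn 1)} : Set (Fin n)) = {pt hn 0, pt hn 1}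

section

variable (hF : Fintype.card F = q ^ 2) (hn : 4 ≤ n) (hk : 3 ≤ k) (hkn : k ≤ n)
variable {G : Type u} [Group G] (ρ : alternatingGroup (Fin n) →* G) (β : Cfsg.SU k F q →* G)

/-- The block on the first two coordinates. -/
noncomputable def psi : Cfsg.SU 2 F q →* G := β.comp (embSU hF (ptEmb (le23.trans hk)))

/-- Its translates. -/
noncomputable def phi (π : alternatingGroup (Fin n)) : Cfsg.SU 2 F q →* G :=
  (MulAut.conj (ρ π)).toMonoidHom.comp (psi hF hk β)

/-- The translates of the block on the first three coordinates. -/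
noncomputable def Phi (π : alternatingGroup (Fin n)) : Cfsg.SU 3 F q →* G :=
  (MulAut.conj (ρ π)).toMonoidHom.comp (β.comp (embSU hF (ptEmb hk)))

theorem phi_apply (π : alternatingGroup (Fin n)) (x : Cfsg.SU 2 F q) :
    phi hF hk ρ β π x = ρ π * psi hF hk β x * (ρ π)⁻¹ := rfl

theorem Phi_apply (π : alternatingGroup (Fin n)) (x : Cfsg.SU 3 F q) :
    Phi hF hk ρ β π x = ρ π * β (embSU hF (ptEmb hk) x) * (ρ π)⁻¹ := rfl

/-- The gluing relations. -/
structure Rels : Prop where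
  cyc : ρ (cyc3 (le34.trans hn)) = β (permSU (cyc3 hk))
  norm : ∀ g, Fixes2 hn g → ∀ x, ρ g * psi hF hk β x * (ρ g)⁻¹ ∈ (psi hF hk β).range
  comm : ∀ x y, Commute (psi hF hk β x) (ρ (dbl hn) * psi hF hk β y * (ρ (dbl hn))⁻¹)

/-- A compatible map to the special unitary group. -/
structure Over (pr : G →* Cfsg.SU n F q) : Prop where
  alt : ∀ π, pr (ρ π) = permSU π
  blk : ∀ a, pr (β a) = embSU hF (ptEmb hkn) a

variable {hF hn hk hkn ρ β}

theorem Phi_injective {pr : G →* Cfsg.SU n F q} (O : Over hF hkn ρ β pr) (π : alternatingGroup (Fin n)) :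
    Function.Injective (Phi hF hk ρ β π) := by
  intro x y h
  have := congrArg pr h
  simp only [Phi_apply, map_mul, map_inv, O.alt, O.blk] at this
  exact embSU_injective hF _ (embSU_injective hF _ (mul_left_cancel (mul_right_cancel this)))

theorem phi_eq_Phi (π : alternatingGroup (Fin n)) (x : Cfsg.SU 2 F q) :
    Phi hF hk ρ β π (embSU hF (ptEmb le23) x) = phi hF hk ρ β π x := by
  rw [Phi_apply, phi_apply, psi, MonoidHom.comp_apply, ← MonoidHom.comp_apply (embSU hF (ptEmb hk)),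
    embSU_trans, ptEmb_trans]

theorem phi_injective {pr : G →* Cfsg.SU n F q} (O : Over hF hkn ρ β pr) (π : alternatingGroup (Fin n)) :
    Function.Injective (phi hF hk ρ β π) := by
  intro x y h
  rw [← phi_eq_Phi, ← phi_eq_Phi] at h
  exact embSU_injective hF _ (Phi_injective O π h)

theorem range_phi_le_of_pair (R : Rels hF hn hk ρ β) {π π' : alternatingGroup (Fin n)}
    (h : ({π.1 (pt hn 0), π.1 (pt hn 1)} : Set (Fin n)) = {π'.1 (pt hn 0), π'.1 (pt hn 1)}) :
    (phi hF hk ρ β π).range ≤ (phi hF hk ρ β π').range := by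
  rintro _ ⟨x, rfl⟩
  have hg : Fixes2 hn (π'⁻¹ * π) := by
    have := congrArg (fun s => ⇑((π'.1)⁻¹) '' s) h
    simpa [Fixes2, Set.image_insert_eq, Perm.mul_apply] using this
  obtain ⟨y, hy⟩ := R.norm _ hg x
  refine ⟨y, ?_⟩
  rw [phi_apply, phi_apply, hy, map_mul, map_inv]
  group

theorem range_phi_eq (R : Rels hF hn hk ρ β) {π π' : alternatingGroup (Fin n)}
    (h : ({π.1 (pt hn 0), π.1 (pt hn 1)} : Set (Fin n)) = {π'.1 (pt hn 0), π'.1 (pt hn 1)}) :
    (phi hF hk ρ β π).range = (phi hF hk ρ β π').range :=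
  le_antisymm (range_phi_le_of_pair R h) (range_phi_le_of_pair R h.symm)

theorem range_phi_commute (R : Rels hF hn hk ρ β) (π π' : alternatingGroup (Fin n))
    (h : ∀ a ∈ ({π.1 (pt hn 0), π.1 (pt hn 1)} : Set (Fin n)),
      a ∉ ({π'.1 (pt hn 0), π'.1 (pt hn 1)} : Set (Fin n))) :
    ∀ x ∈ (phi hF hk ρ β π).range, ∀ y ∈ (phi hF hk ρ β π').range, x * y = y * x := by
  simp only [Set.mem_insert_iff, Set.mem_singleton_iff, forall_eq_or_imp, forall_eq, not_or] at h
  obtain ⟨⟨h00, h01⟩, h10, h11⟩ := h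
  have hp : π.1 (pt hn 0) ≠ π.1 (pt hn 1) := by simp [pt_inj]
  have hp' : π'.1 (pt hn 0) ≠ π'.1 (pt hn 1) := by simp [pt_inj]
  have hinj : Function.Injective ![π.1 (pt hn 0), π.1 (pt hn 1), π'.1 (pt hn 0), π'.1 (pt hn 1)] := by
    intro a b hab
    fin_cases a <;> fin_cases b <;>
      simp [h00, h01, h10, h11, Ne.symm h00, Ne.symm h01, Ne.symm h10, Ne.symm h11, hp, hp', pt_inj] at hab ⊢
  obtain ⟨τ₀, hτ₀⟩ := exists_perm (ptEmb hn) ⟨_, hinj⟩
  obtain ⟨τ, hτ, h2, h3⟩ : ∃ τ : alternatingGroup (Fin n),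
      ({τ.1 (pt hn 0), τ.1 (pt hn 1)} : Set (Fin n)) = {π.1 (pt hn 0), π.1 (pt hn 1)} ∧
        τ.1 (pt hn 2) = π'.1 (pt hn 0) ∧ τ.1 (pt hn 3) = π'.1 (pt hn 1) := by
    have e0 : τ₀ (pt hn 0) = π.1 (pt hn 0) := hτ₀ 0
    have e1 : τ₀ (pt hn 1) = π.1 (pt hn 1) := hτ₀ 1
    have e2 : τ₀ (pt hn 2) = π'.1 (pt hn 0) := hτ₀ 2
    have e3 : τ₀ (pt hn 3) = π'.1 (pt hn 1) := hτ₀ 3
    rcases Int.units_eq_one_or (Perm.sign τ₀) with hs | hs
    · exact ⟨⟨τ₀, Perm.mem_alternatingGroup.2 hs⟩, by simp [e0, e1], e2, e3⟩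
    · refine ⟨⟨τ₀ * swap (pt hn 0) (pt hn 1), Perm.mem_alternatingGroup.2 ?_⟩, ?_, ?_, ?_⟩
      · simp [hs, Perm.sign_swap (show pt hn 0 ≠ pt hn 1 by simp [pt_inj])]
      · simp [e0, e1, Set.pair_comm]
      · simp [swap_apply_def, pt_inj, e2]
      · simp [swap_apply_def, pt_inj, e3]
  rw [← range_phi_eq R hτ, ← range_phi_eq R (π := τ * dbl hn) (π' := π') (by
    simp [(dbl_apply hn).1, (dbl_apply hn).2, h2, h3])]
  rintro _ ⟨x, rfl⟩ _ ⟨y, rfl⟩
  have hc := (R.comm x y).map (MulAut.conj (ρ τ)).toMonoidHom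
  have e : phi hF hk ρ β (τ * dbl hn) y = (MulAut.conj (ρ τ)).toMonoidHom
      (ρ (dbl hn) * psi hF hk β y * (ρ (dbl hn))⁻¹) := by
    rw [phi_apply, map_mul]
    show _ = ρ τ * (ρ (dbl hn) * psi hF hk β y * (ρ (dbl hn))⁻¹) * (ρ τ)⁻¹
    group
  rw [e]
  exact hc.eq

/-- The negative of the reversal permutation matrix on three coordinates. -/
theorem exists_rev : ∃ r : Cfsg.SU 3 F q, ∀ (f : Fin 2 ↪ Fin 3) (x : Cfsg.SU 2 F q),
    r * embSU hF f x * r⁻¹ = embSU hF (f.trans (swap (0 : Fin 3) 2).toEmbedding) x := by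
  set P : Matrix (Fin 3) (Fin 3) F := pMat F (swap (0 : Fin 3) 2)
  have hdet : (-P).det = 1 := by
    rw [det_neg, show P.det = _ from det_monoMat _ _, Perm.sign_swap (by decide)]
    simp [pow_succ]
  have hmem : ∀ u v, Cfsg.hermForm 3 F q ((-P) *ᵥ u) ((-P) *ᵥ v) = Cfsg.hermForm 3 F q u v := by
    intro u v
    show ∑ i, ((-P) *ᵥ u) i * ((-P) *ᵥ v) i ^ q = ∑ i, u i * v i ^ q
    rw [← Equiv.sum_comp (swap (0 : Fin 3) 2)]
    refine Finset.sum_congr rfl fun i _ => ?_
    rw [neg_mulVec, neg_mulVec, Pi.neg_apply, Pi.neg_apply, q_neg hF, neg_mul_neg]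
    simp [P, pMat, monoMat_mulVec]
  let r : Cfsg.SU 3 F q := ⟨⟨-P, hdet⟩, hmem⟩
  have hPP : P * P = 1 := by rw [← pMat_mul, Equiv.swap_mul_self, pMat_one]
  have hinv : r⁻¹ = r := inv_eq_of_mul_eq_one_right (su_ext (by
    rw [mat_mul]; show -P * -P = 1; rw [neg_mul_neg, hPP]))
  refine ⟨r, fun f x => su_ext ?_⟩
  rw [hinv, mat_mul, mat_mul, mat_embSU]
  show -P * (1 + sel F f * (mat x - 1) * (sel F f)ᵀ) * -P = _
  have e1 : (sel F f)ᵀ * P = (sel F (f.trans (swap (0 : Fin 3) 2).toEmbedding))ᵀ := by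
    rw [← sel_pMat_symm, swap_inv]
  rw [neg_mul, neg_mul_neg, Matrix.mul_add, Matrix.add_mul, Matrix.mul_one, hPP,
    show P * (sel F f * (mat x - 1) * (sel F f)ᵀ) * P = (P * sel F f) * (mat x - 1) * ((sel F f)ᵀ * P) by
      simp only [Matrix.mul_assoc], pMat_sel, e1]
  rfl

theorem Phi_blocks (R : Rels hF hn hk ρ β) (π : alternatingGroup (Fin n)) :
    (Cfsg.suBlock 3 F q {0, 1}).map (Phi hF hk ρ β π) = (phi hF hk ρ β π).range ∧
      (Cfsg.suBlock 3 F q {1, 2}).map (Phi hF hk ρ β π) =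
        (phi hF hk ρ β (π * cyc3 (le34.trans hn))).range := by
  have key : ∀ x, Phi hF hk ρ β π (embSU hF (((ptEmb le23)).trans (cyc3 le_rfl).1.toEmbedding) x) =
      phi hF hk ρ β (π * cyc3 (le34.trans hn)) x := by
    intro x
    rw [← conj_embSU, map_mul, map_mul, map_inv, phi_eq_Phi]
    have e : Phi hF hk ρ β π (permSU (cyc3 (m := 3) le_rfl)) =
        ρ π * ρ (cyc3 (le34.trans hn)) * (ρ π)⁻¹ := by
      rw [Phi_apply, R.cyc, embSU_permSU hF (ptEmb hk) (cyc3 le_rfl) (cyc3 hk)]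
      · intro i
        have e3 : ∀ j : Fin 3, pt (le_refl 3) j = j := fun j => rfl
        have := cyc3_apply (le_refl 3) i
        rw [e3, e3] at this
        rw [this, ptEmb_apply, ptEmb_apply, cyc3_apply]
      · intro i hi
        exact cyc3_off hk fun j e => hi (by simp [← e, ptEmb_apply])
    rw [e, phi_apply, phi_apply, map_mul]
    group
  constructor
  · rw [suBlock_eq hF (ptEmb le23) (by ext i; fin_cases i <;> simp [Fin.exists_fin_two, ptEmb_apply, pt]),
      MonoidHom.map_range]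
    exact congrArg MonoidHom.range (MonoidHom.ext (phi_eq_Phi π))
  · rw [suBlock_eq hF ((ptEmb le23).trans (cyc3 (m := 3) le_rfl).1.toEmbedding) (by
      ext i; fin_cases i <;> simp [Fin.exists_fin_two, cyc3, ptEmb_apply, pt, swap_apply_def]), MonoidHom.map_range]
    exact congrArg MonoidHom.range (MonoidHom.ext key)

theorem isStandard (R : Rels hF hn hk ρ β) {pr : G →* Cfsg.SU n F q} (O : Over hF hkn ρ β pr)
    (π : alternatingGroup (Fin n)) :
    Cfsg.IsStandardUnitaryPair (Phi hF hk ρ β π).range (phi hF hk ρ β π).range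
        (phi hF hk ρ β (π * cyc3 (le34.trans hn))).range F q ∧
      Cfsg.IsStandardUnitaryPair (Phi hF hk ρ β π).range
        (phi hF hk ρ β (π * cyc3 (le34.trans hn))).range (phi hF hk ρ β π).range F q := by
  obtain ⟨b1, b2⟩ := Phi_blocks R π
  refine ⟨Or.inl ⟨MonoidHom.ofInjective (Phi_injective O π), ?_, ?_⟩, ?_⟩
  · rw [← b1]; rfl
  · rw [← b2]; rfl
  obtain ⟨r, hr⟩ := exists_rev (F := F) (q := q) (hF := hF)
  refine Or.inl ⟨(MulAut.conj r).trans (MonoidHom.ofInjective (Phi_injective O π)), ?_, ?_⟩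
  all_goals
    rw [show (Phi hF hk ρ β π).range.subtype.comp
        ((MulAut.conj r).trans (MonoidHom.ofInjective (Phi_injective O π))).toMonoidHom =
        (Phi hF hk ρ β π).comp (MulAut.conj r).toMonoidHom from rfl, ← Subgroup.map_map]
  · rw [← b2]
    refine congrArg _ ?_
    rw [suBlock_eq hF (ptEmb le23) (by ext i; fin_cases i <;> simp [Fin.exists_fin_two, ptEmb_apply, pt]),
      suBlock_eq hF ((ptEmb le23).trans (swap (0 : Fin 3) 2).toEmbedding)
        (by ext i; fin_cases i <;> simp [Fin.exists_fin_two, ptEmb_apply, pt, swap_apply_def]),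
      MonoidHom.map_range]
    exact congrArg MonoidHom.range (MonoidHom.ext (hr _))
  · rw [← b1]
    refine congrArg _ ?_
    rw [suBlock_eq hF (ptEmb le23) (s := ({0, 1} : Set (Fin 3))) (by
        ext i; fin_cases i <;> simp [Fin.exists_fin_two, ptEmb_apply, pt]),
      suBlock_eq hF ((ptEmb le23).trans (cyc3 (m := 3) le_rfl).1.toEmbedding) (s := ({1, 2} : Set (Fin 3))) (by
        ext i; fin_cases i <;> simp [Fin.exists_fin_two, cyc3, ptEmb_apply, pt, swap_apply_def]),
      MonoidHom.map_range]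
    rw [show ((MulAut.conj r).toMonoidHom.comp (embSU (q := q) hF ((ptEmb le23).trans
        (cyc3 (m := 3) le_rfl).1.toEmbedding))) = embSU hF (((ptEmb le23).trans
        (cyc3 (m := 3) le_rfl).1.toEmbedding).trans (swap (0 : Fin 3) 2).toEmbedding) from MonoidHom.ext (hr _)]
    exact range_embSU_eq hF _ (by
      ext i; fin_cases i <;> simp [Fin.exists_fin_two, cyc3, ptEmb_apply, pt, swap_apply_def])

end

/-- A subgroup containing the consecutive three-cycles contains all even permutations. -/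
theorem eq_top_of_cycles (hn : 3 ≤ n) (K : Subgroup (alternatingGroup (Fin n)))
    (h : ∀ i : ℕ, ∀ hi : i + 2 < n, ∀ π : alternatingGroup (Fin n),
      (π.1 ⟨i, by omega⟩ = ⟨i + 1, by omega⟩) → (π.1 ⟨i + 1, by omega⟩ = ⟨i + 2, hi⟩) →
        (π.1 ⟨i + 2, hi⟩ = ⟨i, by omega⟩) → (∀ x : Fin n, (x : ℕ) < i ∨ i + 2 < x → π.1 x = x) → π ∈ K) :
    K = ⊤ := by
  -- the three-cycle at `i`
  have cyc : ∀ i : ℕ, ∀ hi : i + 2 < n, ∃ c ∈ K, (c.1 ⟨i + 2, hi⟩ = ⟨i, by omega⟩) ∧
      (c.1 ⟨i, by omega⟩ = ⟨i + 1, by omega⟩) ∧ (c.1 ⟨i + 1, by omega⟩ = ⟨i + 2, hi⟩) ∧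
      ∀ x : Fin n, (x : ℕ) < i ∨ i + 2 < x → c.1 x = x := by
    intro i hi
    let c : alternatingGroup (Fin n) := ⟨swap (⟨i, by omega⟩ : Fin n) ⟨i + 1, by omega⟩ *
      swap (⟨i + 1, by omega⟩ : Fin n) ⟨i + 2, hi⟩, even_swaps (by simp) (by simp)⟩
    have e1 : c.1 ⟨i + 2, hi⟩ = ⟨i, by omega⟩ := by simp [c, swap_apply_def]
    have e2 : c.1 ⟨i, by omega⟩ = ⟨i + 1, by omega⟩ := by simp [c, swap_apply_def]
    have e3 : c.1 ⟨i + 1, by omega⟩ = ⟨i + 2, hi⟩ := by simp [c, swap_apply_def]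
    have e4 : ∀ x : Fin n, (x : ℕ) < i ∨ i + 2 < x → c.1 x = x := by
      intro x hx
      have h0 : x ≠ ⟨i, by omega⟩ := fun e => by simp [e] at hx
      have h1 : x ≠ ⟨i + 1, by omega⟩ := fun e => by simp [e] at hx
      have h2 : x ≠ ⟨i + 2, hi⟩ := fun e => by simp [e] at hx
      simp [c, swap_apply_def, h0, h1, h2]
    exact ⟨c, h i hi c e2 e3 e1 e4, e1, e2, e3, e4⟩
  -- the first `m` points form one orbit of the elements of `K` fixing the others
  have orb : ∀ m, m ≤ n → ∀ a : Fin n, (a : ℕ) < m → 3 ≤ m → ∃ g ∈ K, (g.1 a : ℕ) = m - 1 ∧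
      ∀ x : Fin n, m ≤ (x : ℕ) → g.1 x = x := by
    intro m
    induction m with
    | zero => intros; omega
    | succ m ih =>
      intro hm a ha h3
      rcases Nat.lt_or_ge m 3 with h2 | h2
      · obtain ⟨c, hc, e1, e2, e3, e4⟩ := cyc 0 (by omega)
        have hfix : ∀ x : Fin n, m + 1 ≤ (x : ℕ) → c.1 x = x := fun x hx => e4 x (Or.inr (by omega))
        rcases (show (a : ℕ) = 0 ∨ (a : ℕ) = 1 ∨ (a : ℕ) = 2 by omega) with h | h | h
        · refine ⟨c * c, mul_mem hc hc, ?_, fun x hx => ?_⟩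
          · rw [show a = ⟨0, by omega⟩ from Fin.ext h]
            show (c.1 (c.1 _) : ℕ) = _
            rw [e2, e3]; show 2 = m + 1 - 1; omega
          · show c.1 (c.1 x) = x
            rw [hfix x hx, hfix x hx]
        · refine ⟨c, hc, ?_, hfix⟩
          rw [show a = ⟨0 + 1, by omega⟩ from Fin.ext h, e3]; show 2 = m + 1 - 1; omega
        · exact ⟨1, one_mem _, by simp [h]; omega, fun x _ => rfl⟩
      · rcases Nat.lt_or_ge (a : ℕ) m with ham | ham
        · obtain ⟨g, hg, e, efix⟩ := ih (by omega) a ham h2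
          obtain ⟨c, hc, e1, e2, e3, e4⟩ := cyc (m - 2) (by omega)
          refine ⟨c * g, mul_mem hc hg, ?_, fun x hx => ?_⟩
          · show (c.1 (g.1 a) : ℕ) = _
            rw [show g.1 a = ⟨m - 2 + 1, by omega⟩ from Fin.ext (by simp [e]; omega), e3]
            show m - 2 + 2 = m + 1 - 1; omega
          · show c.1 (g.1 x) = x
            rw [efix x (by omega), e4 x (Or.inr (by omega))]
        · exact ⟨1, one_mem _, by simp; omega, fun x _ => rfl⟩
  have all : ∀ m, m ≤ n → ∀ π : alternatingGroup (Fin n), (∀ x : Fin n, m ≤ (x : ℕ) → π.1 x = x) → π ∈ K := by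
    intro m
    induction m with
    | zero =>
      intro _ π hπ
      rw [show π = 1 from Subtype.ext (Equiv.ext fun x => hπ x (Nat.zero_le _))]
      exact one_mem _
    | succ m ih =>
      intro hm π hπ
      rcases Nat.lt_or_ge m 2 with h2 | h2
      · refine ih (by omega) π fun x hx => ?_
        rcases Nat.lt_or_ge m (x : ℕ) with hx' | hx'
        · exact hπ x hx'
        -- a permutation of at most one point
        have hsupp : π.1.support.card ≤ 2 := by
          refine (Finset.card_le_card (t := Finset.univ.filter fun y : Fin n => (y : ℕ) < 2) fun y hy => ?_).trans ?_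
          · simp only [Finset.mem_filter, Finset.mem_univ, true_and]
            by_contra hy2
            exact Perm.mem_support.1 hy (hπ y (by omega))
          · calc _ ≤ (Finset.range 2).card := Finset.card_le_card_of_injOn (fun y : Fin n => (y : ℕ))
                  (by intro y hy; simp at hy ⊢; omega) Fin.val_injective.injOn
              _ = 2 := Finset.card_range 2
        rcases Nat.lt_or_ge π.1.support.card 2 with h | h
        · exact Equiv.ext_iff.1 ((Perm.card_support_le_one (f := π.1)).1 (by omega)) x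
        · have := Perm.mem_alternatingGroup.1 π.2
          rw [(Perm.card_support_eq_two.1 (le_antisymm hsupp h)).sign_eq] at this
          exact absurd this (by decide)
      · set x : Fin n := ⟨m, by omega⟩
        obtain ⟨g, hg, e, efix⟩ := orb (m + 1) hm (π.1 x) (by
          by_contra hc
          have h' := hπ (π.1 x) (by omega)
          have := congrArg Fin.val (π.1.injective h')
          simp [x] at this hc
          omega) (by omega)
        have hgp : g * π ∈ K := ih (by omega) _ fun y hy => by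
          show g.1 (π.1 y) = y
          rcases eq_or_lt_of_le hy with h | h
          · rw [show y = x from Fin.ext h.symm]
            exact Fin.ext (by simp [e, x])
          · rw [hπ y h, efix y h]
        exact (Subgroup.mul_mem_cancel_left K hg).1 hgp
  rw [eq_top_iff]
  exact fun π _ => all n le_rfl π fun x hx => absurd x.2 (by omega)

end Cfsg.Agent.Lib.SUPres
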