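import Mathlib
import Cfsg.Agent.Lib.ShortPres.Main
import Cfsg.Agent.Lib.Presentation.WordTable
import Cfsg.Agent.Lib.SUPres.Glue

/-!
The alternating group of degree five on two generators and three relators, by a coset table.
-/

set_option autoImplicit false

namespace Cfsg.Agent.Lib.SUPres.AltFive

open Equiv Cfsg.Agent.Lib.BoundedPresentation

abbrev A5 := alternatingGroup (Fin 5)

/-- The generator of order two. -/
def gx : A5 := ⟨swap 0 1 * swap 2 3, even_swaps (by decide) (by decide)⟩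

/-- The generator of order three. -/
def gy : A5 := ⟨swap 0 2 * swap 2 4, even_swaps (by decide) (by decide)⟩

def relW : List (List ℕ) := [[0, 0], [1, 1, 1], [0, 1, 0, 1, 0, 1, 0, 1, 0, 1]]

def words : List (List ℕ) := [
  [], [0], [1], [0, 1],
  [1, 0], [1, 1], [0, 1, 0], [0, 1, 1],
  [1, 0, 1], [1, 1, 0], [0, 1, 0, 1], [0, 1, 1, 0],
  [1, 0, 1, 0], [1, 0, 1, 1], [1, 1, 0, 1], [0, 1, 0, 1, 0],
  [0, 1, 0, 1, 1], [0, 1, 1, 0, 1], [1, 0, 1, 0, 1], [1, 0, 1, 1, 0],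
  [1, 1, 0, 1, 0], [1, 1, 0, 1, 1], [0, 1, 0, 1, 0, 1], [0, 1, 0, 1, 1, 0],
  [0, 1, 1, 0, 1, 0], [0, 1, 1, 0, 1, 1], [1, 0, 1, 0, 1, 1], [1, 0, 1, 1, 0, 1],
  [1, 1, 0, 1, 0, 1], [0, 1, 0, 1, 0, 1, 1], [0, 1, 0, 1, 1, 0, 1], [0, 1, 1, 0, 1, 0, 1],
  [1, 0, 1, 0, 1, 1, 0], [1, 0, 1, 1, 0, 1, 0], [1, 0, 1, 1, 0, 1, 1], [1, 1, 0, 1, 0, 1, 1],
  [0, 1, 0, 1, 0, 1, 1, 0], [0, 1, 0, 1, 1, 0, 1, 0], [0, 1, 0, 1, 1, 0, 1, 1], [0, 1, 1, 0, 1, 0, 1, 1],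
  [1, 0, 1, 0, 1, 1, 0, 1], [1, 0, 1, 1, 0, 1, 0, 1], [1, 1, 0, 1, 0, 1, 1, 0], [0, 1, 0, 1, 0, 1, 1, 0, 1],
  [0, 1, 0, 1, 1, 0, 1, 0, 1], [0, 1, 1, 0, 1, 0, 1, 1, 0], [1, 0, 1, 0, 1, 1, 0, 1, 0], [1, 0, 1, 0, 1, 1, 0, 1, 1],
  [1, 0, 1, 1, 0, 1, 0, 1, 1], [1, 1, 0, 1, 0, 1, 1, 0, 1], [0, 1, 0, 1, 0, 1, 1, 0, 1, 0], [0, 1, 0, 1, 0, 1, 1, 0, 1, 1],
  [0, 1, 0, 1, 1, 0, 1, 0, 1, 1], [0, 1, 1, 0, 1, 0, 1, 1, 0, 1], [1, 0, 1, 1, 0, 1, 0, 1, 1, 0], [1, 1, 0, 1, 0, 1, 1, 0, 1, 0],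
  [0, 1, 0, 1, 1, 0, 1, 0, 1, 1, 0], [0, 1, 1, 0, 1, 0, 1, 1, 0, 1, 0], [1, 0, 1, 1, 0, 1, 0, 1, 1, 0, 1], [0, 1, 0, 1, 1, 0, 1, 0, 1, 1, 0, 1]]

def steps : List WordTable.Step := [
  (0, 0, 1, 0, 3, 0), (1, 0, 0, 0, 0, 1), (0, 1, 2, 0, 3, 0), (1, 1, 3, 0, 3, 0), (2, 0, 4, 0, 3, 0),
  (4, 0, 2, 2, 0, 1), (2, 1, 5, 0, 3, 0), (5, 1, 0, 0, 1, 2), (3, 0, 6, 0, 3, 0), (6, 0, 3, 3, 0, 1),
  (3, 1, 7, 0, 3, 0), (7, 1, 1, 1, 1, 2), (4, 1, 8, 0, 3, 0), (5, 0, 9, 0, 3, 0), (9, 0, 5, 5, 0, 1),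
  (6, 1, 10, 0, 3, 0), (7, 0, 11, 0, 3, 0), (11, 0, 7, 7, 0, 1), (8, 0, 12, 0, 3, 0), (12, 0, 8, 8, 0, 1),
  (8, 1, 13, 0, 3, 0), (13, 1, 4, 4, 1, 2), (9, 1, 14, 0, 3, 0), (10, 0, 15, 0, 3, 0), (15, 0, 10, 10, 0, 1),
  (10, 1, 16, 0, 3, 0), (16, 1, 6, 6, 1, 2), (11, 1, 17, 0, 3, 0), (12, 1, 18, 0, 3, 0), (13, 0, 19, 0, 3, 0),
  (19, 0, 13, 13, 0, 1), (14, 0, 20, 0, 3, 0), (20, 0, 14, 14, 0, 1), (14, 1, 21, 0, 3, 0), (21, 1, 9, 9, 1, 2),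
  (15, 1, 22, 0, 3, 0), (22, 0, 21, 0, 2, 6), (21, 0, 22, 21, 0, 0), (16, 0, 23, 0, 3, 0), (23, 0, 16, 16, 0, 1),
  (17, 0, 24, 0, 3, 0), (24, 0, 17, 17, 0, 1), (17, 1, 25, 0, 3, 0), (25, 1, 11, 11, 1, 2), (18, 0, 25, 11, 2, 8),
  (25, 0, 18, 18, 0, 1), (18, 1, 26, 0, 3, 0), (26, 1, 12, 12, 1, 2), (19, 1, 27, 0, 3, 0), (20, 1, 28, 0, 3, 0),
  (22, 1, 29, 0, 3, 0), (29, 1, 15, 15, 1, 2), (23, 1, 30, 0, 3, 0), (24, 1, 31, 0, 3, 0), (26, 0, 32, 0, 3, 0),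
  (32, 0, 26, 26, 0, 1), (27, 0, 33, 0, 3, 0), (33, 0, 27, 27, 0, 1), (27, 1, 34, 0, 3, 0), (34, 1, 19, 19, 1, 2),
  (28, 0, 34, 19, 2, 8), (34, 0, 28, 28, 0, 1), (28, 1, 35, 0, 3, 0), (35, 1, 20, 20, 1, 2), (29, 0, 36, 0, 3, 0),
  (36, 0, 29, 29, 0, 1), (30, 0, 37, 0, 3, 0), (37, 0, 30, 30, 0, 1), (30, 1, 38, 0, 3, 0), (38, 1, 23, 23, 1, 2),
  (31, 0, 38, 23, 2, 8), (38, 0, 31, 31, 0, 1), (31, 1, 39, 0, 3, 0), (39, 1, 24, 24, 1, 2), (32, 1, 40, 0, 3, 0),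
  (33, 1, 41, 0, 3, 0), (35, 0, 42, 0, 3, 0), (42, 0, 35, 35, 0, 1), (36, 1, 43, 0, 3, 0), (37, 1, 44, 0, 3, 0),
  (39, 0, 45, 0, 3, 0), (45, 0, 39, 39, 0, 1), (40, 0, 46, 0, 3, 0), (46, 1, 45, 24, 2, 7), (46, 0, 40, 40, 0, 1),
  (40, 1, 47, 0, 3, 0), (47, 1, 32, 32, 1, 2), (41, 0, 47, 32, 2, 8), (47, 0, 41, 41, 0, 1), (41, 1, 48, 0, 3, 0),
  (48, 1, 33, 33, 1, 2), (42, 1, 49, 0, 3, 0), (43, 0, 50, 0, 3, 0), (50, 1, 42, 20, 2, 7), (49, 1, 50, 42, 1, 1),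
  (50, 0, 43, 43, 0, 1), (43, 1, 51, 0, 3, 0), (51, 1, 36, 36, 1, 2), (44, 0, 51, 36, 2, 8), (51, 0, 44, 44, 0, 1),
  (44, 1, 52, 0, 3, 0), (52, 1, 37, 37, 1, 2), (45, 1, 53, 0, 3, 0), (53, 1, 46, 45, 1, 1), (48, 0, 54, 0, 3, 0),
  (54, 0, 48, 48, 0, 1), (49, 0, 55, 0, 3, 0), (55, 1, 54, 33, 2, 7), (55, 0, 49, 49, 0, 1), (52, 0, 56, 0, 3, 0),
  (56, 0, 52, 52, 0, 1), (53, 0, 57, 0, 3, 0), (57, 1, 56, 37, 2, 7), (57, 0, 53, 53, 0, 1), (54, 1, 58, 0, 3, 0),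
  (58, 1, 55, 54, 1, 1), (56, 1, 59, 0, 3, 0), (59, 0, 58, 50, 2, 6), (59, 1, 57, 56, 1, 1), (58, 0, 59, 57, 2, 8)]

theorem checked : WordTable.check relW words steps 60 2 = true := by decide +kernel

theorem bound {G : Type*} [Group G] (a b : G) (ha : a ^ 2 = 1) (hb : b ^ 3 = 1) (hab : (a * b) ^ 5 = 1)
    (hgen : Subgroup.closure ({a, b} : Set G) = ⊤) : Finite G ∧ Nat.card G ≤ 60 := by
  let f : ℕ → G := fun i => if i = 0 then a else b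
  refine WordTable.finite_and_card_le f (n := 60) (k := 2) (by norm_num) ?_ ?_ ?_ checked
  · intro w hw
    simp only [relW, List.mem_cons, List.not_mem_nil, or_false] at hw
    rcases hw with rfl | rfl | rfl
    · rw [← ha]; simp [WordTable.eval, f, pow_succ]
    · rw [← hb]; simp [WordTable.eval, f, pow_succ, mul_assoc]
    · rw [← hab]; simp [WordTable.eval, f, pow_succ, mul_assoc]
  · rw [eq_top_iff, ← hgen, Subgroup.closure_le]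
    rintro x (rfl | rfl)
    · exact Subgroup.subset_closure ⟨0, by simp, by simp [f]⟩
    · exact Subgroup.subset_closure ⟨1, by simp, by simp [f]⟩
  · intro g hg
    rw [isOfFinOrder_iff_pow_eq_one]
    interval_cases g
    · exact ⟨2, by norm_num, by simpa [f] using ha⟩
    · exact ⟨3, by norm_num, by simpa [f] using hb⟩

theorem card_five : Nat.card A5 = 60 := by
  show Nat.card (alternatingGroup (Fin 5)) = 60
  have h := two_mul_nat_card_alternatingGroup (α := Fin 5)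
  rw [Nat.card_perm, Nat.card_fin, show Nat.factorial 5 = 120 from rfl] at h
  omega

theorem closure_gens : Subgroup.closure (Set.range ![gx, gy]) = ⊤ := by
  set K := Subgroup.closure (Set.range ![gx, gy])
  have hx : gx ∈ K := Subgroup.subset_closure ⟨0, rfl⟩
  have hy : gy ∈ K := Subgroup.subset_closure ⟨1, rfl⟩
  have hw : ∀ l : List (Fin 2), (l.map ![gx, gy]).prod ∈ K := fun l => by
    refine K.list_prod_mem fun z hz => ?_
    obtain ⟨j, -, rfl⟩ := List.mem_map.1 hz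
    exact Subgroup.subset_closure ⟨j, rfl⟩
  refine eq_top_of_cycles (n := 5) (by norm_num) K fun i hi π g0 g1 g2 goff => ?_
  rcases (show i = 0 ∨ i = 1 ∨ i = 2 by omega) with rfl | rfl | rfl
  · suffices π = (([0, 1, 1, 0, 1, 0, 1] : List (Fin 2)).map ![gx, gy]).prod by rw [this]; exact hw _
    refine Subtype.ext (Equiv.ext fun x => ?_)
    fin_cases x
    · exact g0.trans (by decide +kernel +revert)
    · exact g1.trans (by decide +kernel +revert)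
    · exact g2.trans (by decide +kernel +revert)
    · exact (goff _ (by decide)).trans (by decide +kernel)
    · exact (goff _ (by decide)).trans (by decide +kernel)
  · suffices π = (([0, 1, 0, 1, 0, 1, 1] : List (Fin 2)).map ![gx, gy]).prod by rw [this]; exact hw _
    refine Subtype.ext (Equiv.ext fun x => ?_)
    fin_cases x
    · exact (goff _ (by decide)).trans (by decide +kernel)
    · exact g0.trans (by decide +kernel +revert)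
    · exact g1.trans (by decide +kernel +revert)
    · exact g2.trans (by decide +kernel +revert)
    · exact (goff _ (by decide)).trans (by decide +kernel)
  · suffices π = (([0, 1, 0, 1, 0, 1, 1, 0, 1, 0] : List (Fin 2)).map ![gx, gy]).prod by rw [this]; exact hw _
    refine Subtype.ext (Equiv.ext fun x => ?_)
    fin_cases x
    · exact (goff _ (by decide)).trans (by decide +kernel)
    · exact (goff _ (by decide)).trans (by decide +kernel)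
    · exact g0.trans (by decide +kernel +revert)
    · exact g1.trans (by decide +kernel +revert)
    · exact g2.trans (by decide +kernel +revert)

theorem gens_rels : gx ^ 2 = 1 ∧ gy ^ 3 = 1 ∧ (gx * gy) ^ 5 = 1 := by decide +kernel

theorem pres_five : Pres ![gx, gy] 3 := by
  classical
  refine ⟨{FreeGroup.of 0 ^ 2, FreeGroup.of 1 ^ 3, (FreeGroup.of 0 * FreeGroup.of 1) ^ 5}, Finset.card_le_three,
    ?_, fun G _ y hy => ?_⟩
  · simp only [Finset.forall_mem_insert, Finset.mem_singleton, forall_eq, map_pow, map_mul,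
      FreeGroup.lift_apply_of]
    exact gens_rels
  simp only [Finset.forall_mem_insert, Finset.mem_singleton, forall_eq, map_pow, map_mul,
    FreeGroup.lift_apply_of] at hy
  obtain ⟨h1, h2, h3⟩ := hy
  obtain ⟨r1, r2, r3⟩ := gens_rels
  set D := Subgroup.closure (Set.range fun k => (![gx, gy] k, y k)) with hD
  let a : D := ⟨(gx, y 0), Subgroup.subset_closure ⟨0, rfl⟩⟩
  let b : D := ⟨(gy, y 1), Subgroup.subset_closure ⟨1, rfl⟩⟩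
  have htop : Subgroup.closure ({a, b} : Set D) = ⊤ := by
    apply Subgroup.map_injective D.subtype_injective
    rw [MonoidHom.map_closure, Set.image_pair, ← MonoidHom.range_eq_map, Subgroup.range_subtype]
    show Subgroup.closure ({(gx, y 0), (gy, y 1)} : Set (A5 × G)) = Subgroup.closure (Set.range fun k => (![gx, gy] k, y k))
    congr 1
    ext z
    simp [a, b, Fin.exists_fin_two, eq_comm]
  obtain ⟨hf, hc⟩ := bound a b (Subtype.ext (Prod.ext r1 h1)) (Subtype.ext (Prod.ext r2 h2))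
    (Subtype.ext (Prod.ext r3 h3)) htop
  exact ShortPres.exists_hom_of_card closure_gens y (Set.toFinite _) (hc.trans_eq card_five.symm)

end Cfsg.Agent.Lib.SUPres.AltFive
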