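import Cfsg.Agent.Lib.SUPres.Std
import Cfsg.Agent.Lib.Schur.UnitTriples
import Cfsg.Agent.S0754

/-!
For `q ≥ 3` the special unitary group is generated by the coordinate subgroups on two coordinates, for any `q` by
those on three coordinates.
-/

set_option autoImplicit false
set_option linter.unusedSectionVars false

namespace Cfsg.Agent.Lib.SUPres

open Matrix Cfsg.Agent.Lib.Forms Cfsg.Agent.Lib.FormMax Cfsg.Agent.Lib.UnitaryMax
open Cfsg.Agent.Lib.Schur.UnitMult

variable {F : Type*} [Field F] [Fintype F] {n q : ℕ}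

/-- The element `(a, b; -b^q, a^q)`. -/
theorem exists_pair_elt (hF : Fintype.card F = q ^ 2) {a b : F} (hab : a * a ^ q + b * b ^ q = 1) :
    ∃ g ∈ suGL 2 F q, ∀ v : Fin 2 → F, ((g : Matrix (Fin 2) (Fin 2) F) *ᵥ v) 0 = a * v 0 + b * v 1 ∧
      ((g : Matrix (Fin 2) (Fin 2) F) *ᵥ v) 1 = -(b ^ q) * v 0 + a ^ q * v 1 := by
  set M : Matrix (Fin 2) (Fin 2) F := !![a, b; -(b ^ q), a ^ q]
  have hd : M.det = 1 := by
    rw [Matrix.det_fin_two]; simp [M]; linear_combination hab
  have hM : ∀ v : Fin 2 → F, (M *ᵥ v) 0 = a * v 0 + b * v 1 ∧ (M *ᵥ v) 1 = -(b ^ q) * v 0 + a ^ q * v 1 := by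
    intro v; constructor <;> simp [M, Matrix.mulVec, dotProduct, Fin.sum_univ_two]
  refine ⟨glMk M hd, glMk_mem M hd fun x y => ?_, fun v => by rw [glMk_val]; exact hM v⟩
  obtain ⟨x0, x1⟩ := hM x
  obtain ⟨y0, y1⟩ := hM y
  show ∑ i, (M *ᵥ x) i * (M *ᵥ y) i ^ q = ∑ i, x i * y i ^ q
  rw [Fin.sum_univ_two, Fin.sum_univ_two, x0, x1, y0, y1]
  simp only [q_add hF, mul_pow, q_neg hF, pow_q_pow_q hF]
  linear_combination (x 0 * y 0 ^ q + x 1 * y 1 ^ q) * hab

/-- Generation by two coordinates. -/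
theorem suGL_le_of_pairs (hF : Fintype.card F = q ^ 2) (hq : 3 ≤ q) (hn : 3 ≤ n) {N : Subgroup (GL (Fin n) F)}
    (hN : ∀ i j : Fin n, i ≠ j → SUS F q ({i, j} : Finset (Fin n)) ≤ N) : suGL n F q ≤ N := by
  classical
  set H := N ⊓ suGL n F q
  have hH : H ≤ suGL n F q := inf_le_right
  have hP : ∀ i j : Fin n, i ≠ j → SUS F q ({i, j} : Finset (Fin n)) ≤ H := fun i j h g hg => ⟨hN i j h hg, hg.1⟩
  suffices H = suGL n F q by rw [← this]; exact inf_le_left
  refine eq_suGL hF hn (by omega) hH ?_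
  suffices ∀ (s : ℕ) (v : Fin n → F), (Finset.univ.filter fun k => v k ≠ 0).card = s →
      Cfsg.hermForm n F q v v = 0 → v ∈ root q H from fun v hv => this _ v rfl hv
  -- moving a vector by an element of a pair block
  have move : ∀ (i j : Fin n) (hij : i ≠ j) (a b : F), a * a ^ q + b * b ^ q = 1 → ∀ v : Fin n → F,
      ∃ g ∈ H, ((g : Matrix (Fin n) (Fin n) F) *ᵥ v) i = a * v i + b * v j ∧
        ((g : Matrix (Fin n) (Fin n) F) *ᵥ v) j = -(b ^ q) * v i + a ^ q * v j ∧
        ∀ k, k ≠ i → k ≠ j → ((g : Matrix (Fin n) (Fin n) F) *ᵥ v) k = v k := by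
    intro i j hij a b hab v
    obtain ⟨g2, hg2, e⟩ := exists_pair_elt hF hab
    let f : Fin 2 ↪ Fin n := ⟨![i, j], by
      intro x y h; fin_cases x <;> fin_cases y <;> simp [hij, hij.symm] at h ⊢⟩
    have hf : Finset.univ.map f = {i, j} := by
      ext k
      simp only [Finset.mem_map, Finset.mem_univ, true_and, Fin.exists_fin_two, Finset.mem_insert,
        Finset.mem_singleton]
      exact or_congr ⟨fun e => e.symm, fun e => e.symm⟩ ⟨fun e => e.symm, fun e => e.symm⟩
    have hg : embGL F f g2 ∈ SUS F q ({i, j} : Finset (Fin n)) := hf ▸ (map_suGL hF f).le ⟨g2, hg2, rfl⟩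
    obtain ⟨e0, e1⟩ := e (v ∘ f)
    refine ⟨_, hP i j hij hg, ?_, ?_, fun k hki hkj => apply_off hF hg v (by simp [hki, hkj])⟩
    · show _ = _
      rw [embGL_val, embMat_mulVec, Pi.add_apply, show i = f 0 from rfl, sel_mulVec_apply, Pi.sub_apply,
        Function.comp_apply, add_sub_cancel, e0]
      rfl
    · show _ = _
      rw [embGL_val, embMat_mulVec, Pi.add_apply, show j = f 1 from rfl, sel_mulVec_apply, Pi.sub_apply,
        Function.comp_apply, add_sub_cancel, e1]
      rfl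
  intro s
  induction s using Nat.strong_induction_on with
  | _ s ih =>
  intro v hs hv
  set S := Finset.univ.filter fun k => v k ≠ 0 with hS
  -- a pair of non-zero norm sum reduces the support
  have red : ∀ w : Fin n → F, Cfsg.hermForm n F q w w = 0 → (Finset.univ.filter fun k => w k ≠ 0).card ≤ s →
      ∀ i j : Fin n, i ≠ j → w i ≠ 0 → w j ≠ 0 → w i * w i ^ q + w j * w j ^ q ≠ 0 → w ∈ root q H := by
    intro w hw hws i j hij hi hj hne
    have hfix : (w i * w i ^ q + w j * w j ^ q) ^ q = w i * w i ^ q + w j * w j ^ q := by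
      rw [q_add hF, mul_pow, mul_pow, pow_q_pow_q hF, pow_q_pow_q hF]; ring
    obtain ⟨z, hz⟩ : ∃ z : F, z * z ^ q = w i * w i ^ q + w j * w j ^ q := by
      have h := Cfsg.Agent.S0754.result hF _ hne hfix
      obtain ⟨⟨c, hc⟩⟩ : Nonempty {x : F // x ^ (q + 1) = w i * w i ^ q + w j * w j ^ q} :=
        (Nat.card_ne_zero.1 (by omega)).1
      exact ⟨c, by rw [← pow_succ']; exact hc⟩
    have hz0 : z ≠ 0 := fun e => hne (by rw [← hz, e, zero_mul])
    obtain ⟨g, hg, e1, e2, e3⟩ := move i j hij (w i ^ q * (z ^ q)⁻¹) (w j ^ q * (z ^ q)⁻¹) (by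
      rw [mul_pow, mul_pow, pow_q_pow_q hF, pow_q_pow_q hF, inv_pow, pow_q_pow_q hF]
      field_simp
      linear_combination -hz) w
    set u := (g : Matrix (Fin n) (Fin n) F) *ᵥ w
    have hj0 : u j = 0 := by
      rw [e2, mul_pow, mul_pow, pow_q_pow_q hF, pow_q_pow_q hF]
      ring
    have hlt : (Finset.univ.filter fun k => u k ≠ 0).card < s := by
      refine lt_of_lt_of_le (Finset.card_lt_card ⟨fun k hk => ?_, fun hsub => ?_⟩) hws
      · simp only [Finset.mem_filter, Finset.mem_univ, true_and] at hk ⊢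
        by_cases hki : k = i
        · exact hki ▸ hi
        · by_cases hkj : k = j
          · exact hkj ▸ hj
          · rwa [e3 k hki hkj] at hk
      · have := hsub (Finset.mem_filter.mpr ⟨Finset.mem_univ j, hj⟩)
        simp [hj0] at this
    have h1 := root_map hH (H.inv_mem hg) (ih _ hlt u rfl (by rw [apply_K (hH hg), hw]))
    rwa [inv_mulVec_mulVec] at h1
  rcases le_or_gt S.card 2 with h2 | h3
  · obtain ⟨T, hST, hTc⟩ := Finset.exists_superset_card_eq (s := S) (n := 2) (by omega)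
      (by rw [Fintype.card_fin]; omega)
    obtain ⟨i, j, hij, rfl⟩ := Finset.card_eq_two.1 hTc
    refine ⟨hv, fun c hc => hP i j hij ⟨T_mem hF v hv hc, fun k hk => ?_⟩⟩
    have hk0 : v k = 0 := by
      by_contra h0
      exact hk (hST (Finset.mem_filter.mpr ⟨Finset.mem_univ k, h0⟩))
    rw [T_mulVec, herm_single_left hF, hk0, q_zero hF, mul_zero, zero_smul, add_zero]
  obtain ⟨i, hi, j, hj, k, hk, hij, hik, hjk⟩ := Finset.two_lt_card.1 h3
  simp only [hS, Finset.mem_filter, Finset.mem_univ, true_and] at hi hj hk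
  by_cases c1 : v i * v i ^ q + v j * v j ^ q = 0
  swap
  · exact red v hv hs.le i j hij hi hj c1
  by_cases c2 : v i * v i ^ q + v k * v k ^ q = 0
  swap
  · exact red v hv hs.le i k hik hi hk c2
  by_cases c3 : v j * v j ^ q + v k * v k ^ q = 0
  swap
  · exact red v hv hs.le j k hjk hj hk c3
  -- characteristic two, equal norms
  have hvi : v i * v i ^ q ≠ 0 := mul_ne_zero hi (pow_ne_zero _ hi)
  have two : (2 : F) = 0 := by
    have : (2 : F) * (v i * v i ^ q) = 0 := by linear_combination c1 + c2 - c3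
    exact (mul_eq_zero.1 this).resolve_right hvi
  obtain ⟨ε, hε, hε1, hε0⟩ := exists_norm_one hF
  obtain ⟨d, hd0, hd1, hdq⟩ : ∃ d : F, d ≠ 0 ∧ d ^ 2 ≠ 1 ∧ d ^ q = d := by
    have hp : ∃ x : F, x ^ (q + 1) ≠ 1 ∧ x ≠ 0 := by
      by_contra hc
      push Not at hc
      obtain ⟨g, hg⟩ := IsCyclic.exists_ofOrder_eq_natCard (α := Fˣ)
      have h1 : g ^ (q + 1) = 1 := Units.ext (by
        rw [Units.val_pow_eq_pow_val, Units.val_one]
        exact by_contra fun e => g.ne_zero (hc _ e))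
      have h2 := Nat.le_of_dvd (by omega) (orderOf_dvd_of_pow_eq_one h1)
      rw [hg, Nat.card_units, Nat.card_eq_fintype_card, hF] at h2
      nlinarith [Nat.sub_add_cancel (show 1 ≤ q ^ 2 by nlinarith)]
    obtain ⟨x, hx1, hx0⟩ := hp
    refine ⟨x ^ (q + 1), pow_ne_zero _ hx0, fun e => hx1 ?_, ?_⟩
    · have : (x ^ (q + 1) - 1) ^ 2 = 0 := by linear_combination e + (1 - x ^ (q + 1)) * two
      exact sub_eq_zero.1 (pow_eq_zero_iff two_ne_zero |>.1 this)
    · rw [← pow_mul, show (q + 1) * q = q * q + q by ring, pow_add, pow_add, pow_one, pow_mul,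
        pow_q_pow_q hF, mul_comm]
  have hεi : ε ^ q = ε⁻¹ := eq_inv_of_mul_eq_one_right hε
  have hε' : ε - 1 ≠ 0 := sub_ne_zero.2 hε1
  have hε'' : ε⁻¹ - 1 ≠ 0 := sub_ne_zero.2 (fun e => hε1 (inv_eq_one.1 e))
  set μ := v j / v i
  have hμ : μ * μ ^ q = 1 := by
    rw [div_pow, div_mul_div_comm, div_eq_one_iff_eq hvi]
    linear_combination c1 - (v i * v i ^ q) * two
  have hμ0 : μ ≠ 0 := div_ne_zero hj hi
  have hμi : μ ^ q = μ⁻¹ := eq_inv_of_mul_eq_one_right hμ
  obtain ⟨g, hg, e1, e2, e3⟩ := move i j hij ((d * ε - d⁻¹) / (ε - 1)) ((d⁻¹ - d) / (μ * (ε - 1))) (by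
    rw [div_pow, div_pow, mul_pow, q_sub hF, q_sub hF, q_sub hF, mul_pow, inv_pow, one_pow, hdq, hεi, hμi]
    field_simp
    linear_combination (ε * d ^ 4 - 2 * ε * d ^ 2 + ε) * two) v
  set u := (g : Matrix (Fin n) (Fin n) F) *ᵥ v
  have hvj : v j = μ * v i := (div_mul_cancel₀ _ hi).symm
  have hu1 : u i = d * v i := by
    rw [e1, hvj]; field_simp; ring
  have hu2 : u j = d * v j := by
    rw [e2, hvj, div_pow, div_pow, mul_pow, q_sub hF, q_sub hF, q_sub hF, mul_pow, inv_pow, one_pow, hdq, hεi,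
      hμi]
    field_simp
    linear_combination (d ^ 2 * ε - ε) * two
  have huk : u k = v k := e3 k hik.symm hjk.symm
  have hu : u ∈ root q H := by
    refine red u (by rw [apply_K (hH hg), hv]) ?_ i k hik (by rw [hu1]; exact mul_ne_zero hd0 hi)
      (by rw [huk]; exact hk) ?_
    · rw [← hs]
      refine Finset.card_le_card fun l hl => ?_
      simp only [hS, Finset.mem_filter, Finset.mem_univ, true_and] at hl ⊢
      by_cases hli : l = i
      · exact hli ▸ hi
      · by_cases hlj : l = j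
        · exact hlj ▸ hj
        · rwa [e3 l hli hlj] at hl
    · rw [hu1, huk, mul_pow, hdq]
      intro e
      apply hd1
      have : (d ^ 2 - 1) * (v i * v i ^ q) = 0 := by linear_combination e - c2
      exact sub_eq_zero.1 ((mul_eq_zero.1 this).resolve_right hvi)
  have h1 := root_map hH (H.inv_mem hg) hu
  rwa [inv_mulVec_mulVec] at h1

/-- Translates of the block on two coordinates generate, for `q ≥ 3`. -/
theorem embSU_le_of_pairs (hF : Fintype.card F = q ^ 2) (hq : 3 ≤ q) (hn : 3 ≤ n) (K : Subgroup (Cfsg.SU n F q))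
    (hK : ∀ f : Fin 2 ↪ Fin n, (embSU hF f).range ≤ K) : K = ⊤ := by
  have h : suGL n F q ≤ (K.map (suEquiv n F q).toMonoidHom).map (suGL n F q).subtype := by
    refine suGL_le_of_pairs hF hq hn fun i j hij g hg => ?_
    let f : Fin 2 ↪ Fin n := ⟨![i, j], by
      intro x y h; fin_cases x <;> fin_cases y <;> simp [hij, hij.symm] at h ⊢⟩
    have hf : Finset.univ.map f = {i, j} := by
      ext k
      simp only [Finset.mem_map, Finset.mem_univ, true_and, Fin.exists_fin_two, Finset.mem_insert,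
        Finset.mem_singleton]
      exact or_congr ⟨fun e => e.symm, fun e => e.symm⟩ ⟨fun e => e.symm, fun e => e.symm⟩
    rw [← hf, ← map_suGL hF f] at hg
    obtain ⟨b, hb, rfl⟩ := hg
    refine ⟨_, ⟨_, hK f ⟨(suEquiv 2 F q).symm ⟨b, hb⟩, rfl⟩, rfl⟩, ?_⟩
    show ((suEquiv n F q (embSU hF f ((suEquiv 2 F q).symm ⟨b, hb⟩))) : GL (Fin n) F) = _
    rw [suEquiv_embSU, MulEquiv.apply_symm_apply]
  rw [eq_top_iff]
  intro A _
  obtain ⟨_, ⟨B, hB, rfl⟩, e⟩ := h (suEquiv n F q A).2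
  have : B = A := (suEquiv n F q).injective (Subtype.ext e)
  exact this ▸ hB

/-- Translates of the block on three coordinates generate. -/
theorem embSU_le_of_triples (hF : Fintype.card F = q ^ 2) (hn : 3 ≤ n) (K : Subgroup (Cfsg.SU n F q))
    (hK : ∀ f : Fin 3 ↪ Fin n, (embSU hF f).range ≤ K) : K = ⊤ := by
  rcases (two_le_of_card_sq hF).eq_or_lt with h2 | h3
  · subst h2
    have h : suGL n F 2 ≤ (K.map (suEquiv n F 2).toMonoidHom).map (suGL n F 2).subtype := by
      refine suGL_le_of_triples hF hn fun T hT g hg => ?_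
      let f : Fin 3 ↪ Fin n := (T.orderEmbOfFin hT).toEmbedding
      have hf : Finset.univ.map f = T := Finset.map_orderEmbOfFin_univ _ _
      rw [← hf, ← map_suGL hF f] at hg
      obtain ⟨b, hb, rfl⟩ := hg
      refine ⟨_, ⟨_, hK f ⟨(suEquiv 3 F 2).symm ⟨b, hb⟩, rfl⟩, rfl⟩, ?_⟩
      show ((suEquiv n F 2 (embSU hF f ((suEquiv 3 F 2).symm ⟨b, hb⟩))) : GL (Fin n) F) = _
      rw [suEquiv_embSU, MulEquiv.apply_symm_apply]
    rw [eq_top_iff]
    intro A _
    obtain ⟨_, ⟨B, hB, rfl⟩, e⟩ := h (suEquiv n F 2 A).2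
    have : B = A := (suEquiv n F 2).injective (Subtype.ext e)
    exact this ▸ hB
  refine embSU_le_of_pairs hF h3 hn K fun f => ?_
  obtain ⟨c, hc⟩ : ∃ c : Fin n, c ∉ Finset.univ.map f := by
    by_contra hc
    push Not at hc
    have := Finset.card_le_card (fun x (_ : x ∈ (Finset.univ : Finset (Fin n))) => hc x)
    simp at this
    omega
  let f' : Fin 3 ↪ Fin n := ⟨![f 0, f 1, c], by
    have h0 : f 0 ≠ c := fun e => hc (by simp [← e])
    have h1 : f 1 ≠ c := fun e => hc (by simp [← e])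
    intro x y h
    fin_cases x <;> fin_cases y <;> simp [h0, h1, h0.symm, h1.symm] at h ⊢⟩
  have : f = (Fin.castLEEmb (show 2 ≤ 3 by norm_num)).trans f' := by
    ext a; fin_cases a <;> rfl
  rintro _ ⟨x, rfl⟩
  rw [this, ← embSU_trans hF, MonoidHom.comp_apply]
  exact hK f' ⟨_, rfl⟩

end Cfsg.Agent.Lib.SUPres
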