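import Cfsg.Agent.Lib.SUPres.RecogWindows
import Cfsg.Agent.Lib.SUPres.Gen

/-!
For `q ≥ 3` the relations on the pair blocks give those on the triple blocks.
-/

set_option autoImplicit false
set_option linter.unusedSectionVars false

namespace Cfsg.Agent.Lib.SUPres

open Equiv

universe u v

variable {F : Type v} [Field F] [Fintype F] {n q : ℕ} {hF : Fintype.card F = q ^ 2} {hn : 4 ≤ n}
variable {G : Type u} [Group G] {ρ : alternatingGroup (Fin n) →* G} {β : Cfsg.SU 3 F q →* G}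

/-- The triple block is generated by its three pair blocks. -/
theorem beta_le_of_pairs (hq : 3 ≤ q) (R : Rels hF hn (le_refl 3) ρ β) (L : Subgroup G)
    (h : ∀ π : alternatingGroup (Fin n),
      (∀ a, ∃ b, π.1 (pt (le23.trans (le34.trans hn)) a) = pt (le34.trans hn) b) →
        (phi hF (le_refl 3) ρ β π).range ≤ L) : β.range ≤ L := by
  have n3 := le34.trans hn
  suffices L.comap β = ⊤ by
    rintro _ ⟨x, rfl⟩
    exact (this.symm ▸ Subgroup.mem_top x : x ∈ L.comap β)
  refine embSU_le_of_pairs hF hq le_rfl _ fun f => ?_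
  obtain ⟨p, hp⟩ := exists_even_map (le_refl 2) le23 f
  rw [range_embSU_eq hF f hp.symm]
  rintro _ ⟨x, rfl⟩
  -- the even permutations of three points are the powers of the cycle
  obtain ⟨j, rfl⟩ : ∃ j : Fin 3, p = cyc3 (le_refl 3) ^ (j : ℕ) := by
    clear hp
    revert p
    decide +kernel
  rw [← conj_embSU, Subgroup.mem_comap, map_mul, map_mul, map_inv, map_pow, map_pow, ← R.cyc]
  refine h (cyc3 n3 ^ (j : ℕ)) ?_ ⟨x, ?_⟩
  · intro a
    refine ⟨((cyc3 (le_refl 3)) ^ (j : ℕ)).1 (pt le23 a), ?_⟩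
    have key : ∀ (l : ℕ) (b : Fin 3), ((cyc3 n3) ^ l).1 (pt n3 b) = pt n3 (((cyc3 (le_refl 3)) ^ l).1 b) := by
      intro l
      induction l with
      | zero => intro b; rfl
      | succ l ih =>
        intro b
        rw [pow_succ, pow_succ]
        show ((cyc3 n3) ^ l).1 ((cyc3 n3).1 (pt n3 b)) = _
        rw [cyc3_apply, ih]
        exact congrArg (fun z => pt n3 (((cyc3 (le_refl 3)) ^ l).1 z)) (cyc3_apply (le_refl 3) b).symm
    exact key _ (pt le23 a)
  · rw [phi_apply, map_pow]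
    rfl

theorem tri_of_pairs (hq : 3 ≤ q) (R : Rels hF hn (le_refl 3) ρ β) (g : alternatingGroup (Fin n))
    (hg : Set.range ((ptEmb (le34.trans hn)).trans g.1.toEmbedding) = Set.range (ptEmb (le34.trans hn))) :
    ∀ x, ρ g * β x * (ρ g)⁻¹ ∈ β.range := by
  intro x
  refine beta_le_of_pairs hq R (β.range.comap (MulAut.conj (ρ g)).toMonoidHom) (fun π hπ => ?_) ⟨x, rfl⟩
  rintro _ ⟨y, rfl⟩
  show ρ g * phi hF (le_refl 3) ρ β π y * (ρ g)⁻¹ ∈ β.range
  have hle : (phi hF (le_refl 3) ρ β (g * π)).range ≤ β.range := by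
    refine (phi_le_Phi R 1 _ fun b hb => ?_).trans ?_
    · have key : ∀ a, ∃ i, pt (le34.trans hn) i = (g * π).1 (pt (le23.trans (le34.trans hn)) a) := fun a => by
        obtain ⟨c, hc⟩ := hπ a
        obtain ⟨i, hi⟩ := hg.le ⟨c, rfl⟩
        refine ⟨i, hi.trans ?_⟩
        show g.1 (pt (le34.trans hn) c) = g.1 (π.1 (pt (le23.trans (le34.trans hn)) a))
        rw [hc]
      rcases hb with rfl | rfl
      exacts [key 0, key 1]
    · rintro _ ⟨z, rfl⟩
      rw [Phi_apply, map_one, one_mul, inv_one, mul_one]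
      exact ⟨_, rfl⟩
  refine hle ⟨y, ?_⟩
  rw [phi_apply, phi_apply, map_mul]
  group

theorem uv_of_pairs (hq : 3 ≤ q) (R : Rels hF hn (le_refl 3) ρ β) (g : alternatingGroup (Fin n))
    (hg : ∀ a b, g.1 (pt (le23.trans (le34.trans hn)) a) ≠ pt (le34.trans hn) b) :
    ∀ x ∈ (phi hF (le_refl 3) ρ β g).range, ∀ y ∈ β.range, x * y = y * x := by
  intro x hx y hy
  refine Subgroup.mem_centralizer_singleton_iff.1 (beta_le_of_pairs hq R (Subgroup.centralizer {x}) ?_ hy) |>.symm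
  intro π hπ z hz
  rw [Subgroup.mem_centralizer_singleton_iff]
  refine (range_phi_commute R g π ?_ x hx z hz).symm
  intro a ha hb
  have : ∃ b, a = pt (le34.trans hn) b := by
    rcases hb with rfl | rfl
    exacts [hπ 0, hπ 1]
  obtain ⟨b, rfl⟩ := this
  rcases ha with e | e
  exacts [hg 0 b e.symm, hg 1 b e.symm]

theorem vv_of_pairs (hq : 3 ≤ q) (R : Rels hF hn (le_refl 3) ρ β) (g : alternatingGroup (Fin n))
    (hg : ∀ a b, g.1 (pt (le34.trans hn) a) ≠ pt (le34.trans hn) b) :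
    ∀ x ∈ (Phi hF (le_refl 3) ρ β g).range, ∀ y ∈ β.range, x * y = y * x := by
  rintro _ ⟨x, rfl⟩ y hy
  have : β.range ≤ (Subgroup.centralizer {y}).comap (MulAut.conj (ρ g)).toMonoidHom := by
    refine beta_le_of_pairs hq R _ fun π hπ => ?_
    rintro _ ⟨z, rfl⟩
    rw [Subgroup.mem_comap, Subgroup.mem_centralizer_singleton_iff]
    refine uv_of_pairs hq R (g * π) (fun a b => ?_) _ ⟨z, ?_⟩ _ hy
    · obtain ⟨c, hc⟩ := hπ a
      show g.1 (π.1 _) ≠ _
      rw [hc]
      exact hg c b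
    · show phi hF (le_refl 3) ρ β (g * π) z = ρ g * phi hF (le_refl 3) ρ β π z * (ρ g)⁻¹
      rw [phi_apply, phi_apply, map_mul]
      group
  exact Subgroup.mem_centralizer_singleton_iff.1 (this ⟨_, rfl⟩)

end Cfsg.Agent.Lib.SUPres
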