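import Cfsg.Agent.Lib.SUPres.RecogWindows

/-!
Relators making the triple blocks behave, for any `q`.
-/

set_option autoImplicit false
set_option linter.unusedSectionVars false

namespace Cfsg.Agent.Lib.SUPres

open Equiv Cfsg.Agent.Lib.BoundedPresentation

universe u v

variable {n : ℕ} (hn : 4 ≤ n)

/-- Setwise stabiliser of the first three points. -/
def tripleStab : Subgroup (alternatingGroup (Fin n)) where
  carrier := {g | ∀ z, (∃ i, pt (le34.trans hn) i = g.1 z) ↔ ∃ i, pt (le34.trans hn) i = z}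
  one_mem' _ := Iff.rfl
  mul_mem' {a b} ha hb z := (ha (b.1 z)).trans (hb z)
  inv_mem' {a} ha z := by
    refine Iff.trans (ha _).symm ?_
    rw [show a.1 (((a⁻¹ : alternatingGroup (Fin n))).1 z) = z from (a.1).apply_symm_apply z]

theorem mem_tripleStab {g : alternatingGroup (Fin n)} :
    g ∈ tripleStab hn ↔ ∀ z, (∃ i, pt (le34.trans hn) i = g.1 z) ↔ ∃ i, pt (le34.trans hn) i = z := Iff.rfl

theorem mem_tripleStab_of_range {g : alternatingGroup (Fin n)}
    (h : Set.range ((ptEmb (le34.trans hn)).trans g.1.toEmbedding) = Set.range (ptEmb (le34.trans hn))) :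
    g ∈ tripleStab hn := by
  intro z
  constructor
  · rintro ⟨i, hi⟩
    obtain ⟨j, hj⟩ := h.ge ⟨i, hi⟩
    exact ⟨j, g.1.injective hj⟩
  · rintro ⟨i, rfl⟩
    exact h.le ⟨i, rfl⟩

theorem range_of_mem_tripleStab {g : alternatingGroup (Fin n)} (h : g ∈ tripleStab hn) :
    Set.range ((ptEmb (le34.trans hn)).trans g.1.toEmbedding) = Set.range (ptEmb (le34.trans hn)) := by
  ext z
  constructor
  · rintro ⟨i, rfl⟩
    exact (h _).2 ⟨i, rfl⟩
  · rintro hz
    obtain ⟨i, hi⟩ : ∃ i, pt (le34.trans hn) i = (g.1).symm z := (h _).1 (by rw [Equiv.apply_symm_apply]; exact hz)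
    exact ⟨i, show g.1 (pt (le34.trans hn) i) = z by rw [hi, Equiv.apply_symm_apply]⟩

/-- The points outside the first three. -/
abbrev Rest3 := {z : Fin n // ¬ ∃ i, pt (le34.trans hn) i = z}

/-- Restriction to the other points. -/
def restrict3 : tripleStab hn →* Perm (Rest3 hn) where
  toFun g := Perm.subtypePerm g.1.1 fun z => not_congr (g.2 z)
  map_one' := Equiv.ext fun _ => rfl
  map_mul' _ _ := Equiv.ext fun _ => rfl

theorem pt3 (i j : Fin 3) : pt (le34.trans hn) i = pt (le34.trans hn) j ↔ i = j := pt_inj _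

theorem restrict3_surjective : Function.Surjective (restrict3 hn) := by
  intro σ
  have h01 : pt (le34.trans hn) 0 ≠ pt (le34.trans hn) 1 := by simp [pt_inj]
  set s : Perm (Fin n) := if Perm.sign σ = 1 then 1 else swap (pt (le34.trans hn) 0) (pt (le34.trans hn) 1)
  have hsA : Perm.ofSubtype σ * s ∈ alternatingGroup (Fin n) := by
    rw [Perm.mem_alternatingGroup, map_mul, Perm.sign_ofSubtype]
    rcases Int.units_eq_one_or (Perm.sign σ) with h | h <;> simp [s, h, Perm.sign_swap h01]
  have hs : ∀ z, (∀ i, pt (le34.trans hn) i ≠ z) → s z = z := by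
    intro z hz
    simp only [s]
    split_ifs
    · rfl
    · exact swap_apply_of_ne_of_ne (hz 0).symm (hz 1).symm
  have hs' : ∀ i, ∃ j, pt (le34.trans hn) j = s (pt (le34.trans hn) i) := by
    intro i
    simp only [s]
    split_ifs
    · exact ⟨i, rfl⟩
    · rw [swap_apply_def]
      split_ifs
      exacts [⟨1, rfl⟩, ⟨0, rfl⟩, ⟨i, rfl⟩]
  have hmem : (⟨_, hsA⟩ : alternatingGroup (Fin n)) ∈ tripleStab hn := by
    intro z
    show (∃ i, pt (le34.trans hn) i = Perm.ofSubtype σ (s z)) ↔ _
    by_cases hz : ∃ i, pt (le34.trans hn) i = z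
    · obtain ⟨i, rfl⟩ := hz
      obtain ⟨j, hj⟩ := hs' i
      rw [← hj, Perm.ofSubtype_apply_of_not_mem σ (by simp)]
      exact ⟨fun _ => ⟨i, rfl⟩, fun _ => ⟨j, rfl⟩⟩
    · have hz' : ∀ i, pt (le34.trans hn) i ≠ z := fun i e => hz ⟨i, e⟩
      rw [hs z hz', Perm.ofSubtype_apply_of_mem σ hz]
      simp only [hz, iff_false]
      exact (σ ⟨z, hz⟩).2
  refine ⟨⟨_, hmem⟩, Equiv.ext fun z => Subtype.ext ?_⟩
  show Perm.ofSubtype σ (s z.1) = (σ z).1
  rw [hs z.1 fun i e => z.2 ⟨i, e⟩, Perm.ofSubtype_apply_of_mem σ z.2]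

theorem ker_restrict3 {g : tripleStab hn} (h : restrict3 hn g = 1) :
    ∃ j : Fin 3, g.1 = cyc3 (le34.trans hn) ^ (j : ℕ) := by
  have hoff : ∀ z, (∀ i, pt (le34.trans hn) i ≠ z) → g.1.1 z = z := fun z hz =>
    congrArg Subtype.val (DFunLike.congr_fun h (⟨z, fun ⟨i, e⟩ => hz i e⟩ : Rest3 hn))
  obtain ⟨a, ha⟩ : ∃ a, pt (le34.trans hn) a = g.1.1 (pt (le34.trans hn) 0) := (g.2 _).2 ⟨0, rfl⟩
  refine ⟨a, ?_⟩
  set c := cyc3 (le34.trans hn)
  have hc : (c ^ (a : ℕ)).1 (pt (le34.trans hn) 0) = pt (le34.trans hn) a := by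
    fin_cases a
    · rfl
    · show (c ^ 1).1 _ = _
      rw [pow_one, cyc3_apply]
      rfl
    · show (c ^ 2).1 _ = _
      rw [pow_two]
      rw [Subgroup.coe_mul, Perm.mul_apply, cyc3_apply, cyc3_apply]
      rfl
  have hcoff : ∀ (l : ℕ) z, (∀ i, pt (le34.trans hn) i ≠ z) → (c ^ l).1 z = z := by
    intro l z hz
    induction l with
    | zero => rfl
    | succ l ih =>
      rw [pow_succ]
      show (c ^ l).1 (c.1 z) = z
      rw [cyc3_off _ hz, ih]
  set k := (c ^ (a : ℕ))⁻¹ * g.1 with hk
  suffices k = 1 by rwa [hk, inv_mul_eq_one, eq_comm] at this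
  have k0 : k.1 (pt (le34.trans hn) 0) = pt (le34.trans hn) 0 := by
    show ((c ^ (a : ℕ)).1)⁻¹ (g.1.1 _) = _
    rw [Perm.inv_eq_iff_eq, ← ha, hc]
  have koff : ∀ z, (∀ i, pt (le34.trans hn) i ≠ z) → k.1 z = z := fun z hz => by
    show ((c ^ (a : ℕ)).1)⁻¹ (g.1.1 z) = _
    rw [hoff z hz, Perm.inv_eq_iff_eq, hcoff _ z hz]
  -- what is left fixes all but two points
  set s : Perm (Fin n) := swap (pt (le34.trans hn) 1) (pt (le34.trans hn) 2)
  have h1 : k.1 (pt (le34.trans hn) 1) = pt (le34.trans hn) 1 ∨ k.1 (pt (le34.trans hn) 1) = pt (le34.trans hn) 2 := by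
    by_contra hne
    push Not at hne
    by_cases h' : ∃ i, pt (le34.trans hn) i = k.1 (pt (le34.trans hn) 1)
    · obtain ⟨i, hi⟩ := h'
      fin_cases i
      · exact absurd (k.1.injective (hi.symm.trans k0.symm)) (by simp [pt_inj])
      · exact hne.1 hi.symm
      · exact hne.2 hi.symm
    · push Not at h'
      exact h' 1 (k.1.injective (koff _ h')).symm
  have hks : k.1 = 1 ∨ k.1 = s := by
    rcases h1 with e1 | e1
    · left
      have e2 : k.1 (pt (le34.trans hn) 2) = pt (le34.trans hn) 2 := by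
        by_cases h' : ∃ i, pt (le34.trans hn) i = k.1 (pt (le34.trans hn) 2)
        · obtain ⟨i, hi⟩ := h'
          fin_cases i
          · exact absurd (k.1.injective (hi.symm.trans k0.symm)) (by simp [pt_inj])
          · exact absurd (k.1.injective (hi.symm.trans e1.symm)) (by simp [pt_inj])
          · exact hi.symm
        · push Not at h'
          exact absurd (k.1.injective (koff _ h')) (h' 2).symm
      refine Equiv.ext fun z => ?_
      by_cases hz : ∃ i, pt (le34.trans hn) i = z
      · obtain ⟨i, rfl⟩ := hz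
        fin_cases i
        exacts [k0, e1, e2]
      · push Not at hz
        exact koff z hz
    · right
      have e2 : k.1 (pt (le34.trans hn) 2) = pt (le34.trans hn) 1 := by
        by_cases h' : ∃ i, pt (le34.trans hn) i = k.1 (pt (le34.trans hn) 2)
        · obtain ⟨i, hi⟩ := h'
          fin_cases i
          · exact absurd (k.1.injective (hi.symm.trans k0.symm)) (by simp [pt_inj])
          · exact hi.symm
          · exact absurd (k.1.injective (hi.symm.trans e1.symm)) (by simp [pt_inj])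
        · push Not at h'
          exact absurd (k.1.injective (koff _ h')) (h' 2).symm
      refine Equiv.ext fun z => ?_
      by_cases hz : ∃ i, pt (le34.trans hn) i = z
      · obtain ⟨i, rfl⟩ := hz
        fin_cases i
        · exact k0.trans (swap_apply_of_ne_of_ne (by simp [pt_inj]) (by simp [pt_inj])).symm
        · exact e1.trans (swap_apply_left _ _).symm
        · exact e2.trans (swap_apply_right _ _).symm
      · push Not at hz
        exact (koff z hz).trans (swap_apply_of_ne_of_ne (hz 1).symm (hz 2).symm).symm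
  rcases hks with e | e
  · exact Subtype.ext e
  · have := Perm.mem_alternatingGroup.1 k.2
    rw [e, Perm.sign_swap (by simp [pt_inj])] at this
    exact absurd this (by decide)

/-- A permutation group is generated by a cycle and a transposition. -/
theorem exists_gens_perm (α : Type) [Fintype α] [DecidableEq α] : ∃ gs : List (Perm α),
    gs.length ≤ min (Fintype.card α - 1) 2 ∧ Subgroup.closure {x | x ∈ gs} = ⊤ := by
  rcases Nat.lt_or_ge (Fintype.card α) 2 with h | h
  · haveI : Subsingleton α := Fintype.card_le_one_iff_subsingleton.1 (by omega)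
    exact ⟨[], by simp, eq_top_iff.2 fun x _ => by rw [Subsingleton.elim x 1]; exact one_mem _⟩
  set l := (Finset.univ : Finset α).toList with hl
  have hlen : l.length = Fintype.card α := Finset.length_toList _
  have hnd : l.Nodup := Finset.nodup_toList _
  set c := l.formPerm
  have hc : Perm.IsCycle c := List.isCycle_formPerm hnd (by omega)
  have hs : c.support = Finset.univ := by
    rw [List.support_formPerm_of_nodup l hnd (fun z e => by rw [e] at hlen; simp at hlen; omega), hl,
      Finset.toList_toFinset]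
  obtain ⟨a⟩ : Nonempty α := Fintype.card_pos_iff.1 (by omega)
  have htop := Perm.closure_cycle_adjacent_swap hc hs a
  by_cases h2 : Fintype.card α = 2
  · refine ⟨[c], by simp [h2], ?_⟩
    rw [eq_top_iff, ← htop, Subgroup.closure_le]
    have e : swap a (c a) = c := by
      have : c.IsSwap := Perm.card_support_eq_two.1 (by rw [hs, Finset.card_univ, h2])
      obtain ⟨x, y, hxy, e⟩ := this
      have ha : a = x ∨ a = y := by
        by_contra hne
        push Not at hne
        have : a ∈ c.support := by rw [hs]; exact Finset.mem_univ _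
        rw [Perm.mem_support, e, swap_apply_of_ne_of_ne hne.1 hne.2] at this
        exact this rfl
      rcases ha with rfl | rfl
      · rw [e, swap_apply_left]
      · rw [e, swap_apply_right, swap_comm]
    intro z hz
    rcases hz with rfl | rfl
    · exact Subgroup.subset_closure (by simp)
    · rw [e]; exact Subgroup.subset_closure (by simp)
  · refine ⟨[c, swap a (c a)], by simp; omega, ?_⟩
    rw [← htop]
    congr 1
    ext z
    simp

theorem exists_stab3 : ∃ ss : List (alternatingGroup (Fin n)), ss.length ≤ min (n - 4) 2 ∧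
    (∀ g ∈ ss, g ∈ tripleStab hn) ∧
      ∀ g ∈ tripleStab hn, g ∈ Subgroup.closure {x | x = cyc3 (le34.trans hn) ∨ x ∈ ss} := by
  classical
  obtain ⟨gs, hlen, htop⟩ := exists_gens_perm (Rest3 hn)
  choose sec hsec using restrict3_surjective hn
  have hcard : Fintype.card (Rest3 hn) = n - 3 := by
    rw [Fintype.card_subtype_compl, Fintype.card_fin]
    congr 1
    rw [← Nat.card_eq_fintype_card]
    exact (Nat.card_range_of_injective (f := pt (le34.trans hn)) (Fin.castLE_injective (le34.trans hn))).trans (Nat.card_fin 3)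
  refine ⟨gs.map fun σ => (sec σ).1, by rw [List.length_map]; rw [hcard] at hlen; omega, fun g hg => ?_,
    fun g hg => ?_⟩
  · obtain ⟨σ, -, rfl⟩ := List.mem_map.1 hg
    exact (sec σ).2
  set K := Subgroup.closure {x | x = cyc3 (le34.trans hn) ∨ x ∈ gs.map fun σ => (sec σ).1}
  have hmem : restrict3 hn ⟨g, hg⟩ ∈ (K.comap (tripleStab hn).subtype).map (restrict3 hn) := by
    have : (⊤ : Subgroup (Perm (Rest3 hn))) ≤ (K.comap (tripleStab hn).subtype).map (restrict3 hn) := by
      rw [← htop, Subgroup.closure_le]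
      exact fun σ hσ => ⟨sec σ, Subgroup.subset_closure (Or.inr (List.mem_map_of_mem hσ)), hsec σ⟩
    exact this (Subgroup.mem_top _)
  obtain ⟨h, hh, e⟩ := hmem
  obtain ⟨j, hj⟩ := ker_restrict3 hn (g := h⁻¹ * ⟨g, hg⟩) (by rw [map_mul, map_inv, e, inv_mul_cancel])
  have : g = h.1 * cyc3 (le34.trans hn) ^ (j : ℕ) := by
    rw [← hj]
    show g = h.1 * (h.1⁻¹ * g)
    rw [mul_inv_cancel_left]
  rw [this]
  exact mul_mem (show h.1 ∈ K from hh) (pow_mem (show cyc3 (le34.trans hn) ∈ K from Subgroup.subset_closure (Or.inl rfl)) _)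

/-- Moving points outside the triple, keeping the triple. -/
theorem exists_move {a : ℕ} (g₀ g : Fin a ↪ Fin n) (h₀ : ∀ i j, g₀ i ≠ pt (le34.trans hn) j)
    (h : ∀ i j, g i ≠ pt (le34.trans hn) j) :
    ∃ s ∈ tripleStab hn, ∀ i, s.1 (g₀ i) = g i := by
  classical
  have inj : ∀ e : Fin a ↪ Fin n, (∀ i j, e i ≠ pt (le34.trans hn) j) →
      Function.Injective (Sum.elim e (pt (le34.trans hn))) := fun e he =>
    Function.Injective.sumElim e.injective (Fin.castLE_injective (le34.trans hn)) he
  obtain ⟨τ, hτ⟩ := exists_perm (finSumFinEquiv.symm.toEmbedding.trans ⟨_, inj g₀ h₀⟩)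
    (finSumFinEquiv.symm.toEmbedding.trans ⟨_, inj g h⟩)
  have hτ' : ∀ x, τ (Sum.elim g₀ (pt (le34.trans hn)) x) = Sum.elim g (pt (le34.trans hn)) x := fun x => by
    have := hτ (finSumFinEquiv x)
    simpa using this
  have h01 : pt (le34.trans hn) 0 ≠ pt (le34.trans hn) 1 := by simp [pt_inj]
  set w : Perm (Fin n) := if Perm.sign τ = 1 then 1 else swap (pt (le34.trans hn) 0) (pt (le34.trans hn) 1)
  have hA : τ * w ∈ alternatingGroup (Fin n) := by
    rw [Perm.mem_alternatingGroup, map_mul]
    rcases Int.units_eq_one_or (Perm.sign τ) with e | e <;> simp [w, e, Perm.sign_swap h01]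
  have hw : ∀ i, w (g₀ i) = g₀ i := fun i => by
    simp only [w]; split_ifs
    · rfl
    · exact swap_apply_of_ne_of_ne (h₀ i 0) (h₀ i 1)
  refine ⟨⟨_, hA⟩, mem_tripleStab_of_range hn (Set.Subset.antisymm ?_ ?_), fun i => ?_⟩
  · rintro _ ⟨i, rfl⟩
    show τ (w (pt (le34.trans hn) i)) ∈ _
    obtain ⟨j, hj⟩ : ∃ j, w (pt (le34.trans hn) i) = pt (le34.trans hn) j := by
      simp only [w]; split_ifs
      · exact ⟨i, rfl⟩
      · rw [swap_apply_def]; split_ifs
        exacts [⟨1, rfl⟩, ⟨0, rfl⟩, ⟨i, rfl⟩]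
    rw [hj]
    exact ⟨j, (hτ' (Sum.inr j)).symm⟩
  · rintro _ ⟨i, rfl⟩
    obtain ⟨j, hj⟩ : ∃ j, w (pt (le34.trans hn) j) = pt (le34.trans hn) i := by
      simp only [w]; split_ifs
      · exact ⟨i, rfl⟩
      · refine ⟨swap 0 1 i, ?_⟩
        rw [← (show Function.Injective (pt (le34.trans hn)) from Fin.castLE_injective (le34.trans hn)).map_swap, swap_apply_self]
    refine ⟨j, ?_⟩
    show τ (w (pt (le34.trans hn) j)) = _
    rw [hj]
    exact hτ' (Sum.inr i)
  · show τ (w (g₀ i)) = g i
    rw [hw]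
    exact hτ' (Sum.inl i)

variable {F : Type u} [Field F] [Fintype F] {q : ℕ} (hF : Fintype.card F = q ^ 2)

/-- Relators making translates of the triple block depend on the set and commute. -/
theorem exists_tri_rels {us : List (Cfsg.SU 2 F q)} (hus : Subgroup.closure {x | x ∈ us} = ⊤)
    {ws : List (Cfsg.SU 3 F q)} (hws : Subgroup.closure {x | x ∈ ws} = ⊤) :
    ∃ ex : List (FreeGroup (alternatingGroup (Fin n) ⊕ Cfsg.SU 3 F q)),
      ex.length ≤ min (n - 4) 2 * ws.length + (if 5 ≤ n then us.length * ws.length else 0) +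
          (if 6 ≤ n then ws.length * ws.length else 0) ∧
      (∀ z ∈ ex, glueEval (permSU (F := F) (q := q)) (embSU hF (ptEmb (le34.trans hn))) z = 1) ∧
      ∀ (G : Type v) [Group G] (ρ : alternatingGroup (Fin n) →* G) (β : Cfsg.SU 3 F q →* G),
        Rels hF hn (le_refl 3) ρ β → (∀ z ∈ ex, glueEval ρ β z = 1) →
        (∀ g : alternatingGroup (Fin n),
          Set.range ((ptEmb (le34.trans hn)).trans g.1.toEmbedding) = Set.range (ptEmb (le34.trans hn)) →
            ∀ x, ρ g * β x * (ρ g)⁻¹ ∈ β.range) ∧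
        (∀ g : alternatingGroup (Fin n),
          (∀ a b, g.1 (pt (le23.trans (le34.trans hn)) a) ≠ pt (le34.trans hn) b) →
            ∀ x ∈ (phi hF (le_refl 3) ρ β g).range, ∀ y ∈ β.range, x * y = y * x) ∧
        ∀ g : alternatingGroup (Fin n),
          (∀ a b, g.1 (pt (le34.trans hn) a) ≠ pt (le34.trans hn) b) →
            ∀ x ∈ (Phi hF (le_refl 3) ρ β g).range, ∀ y ∈ β.range, x * y = y * x := by
  classical
  have n3 := le34.trans hn
  obtain ⟨ss, hsl, hss, hgen⟩ := exists_stab3 hn
  set E : Cfsg.SU 3 F q →* Cfsg.SU n F q := embSU hF (ptEmb n3)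
  have htr : ∀ (g : alternatingGroup (Fin n)) (w : Cfsg.SU 3 F q), ∃ z, g ∈ tripleStab hn →
      permSU g * E w * (permSU g)⁻¹ = E z := by
    intro g w
    by_cases hg : g ∈ tripleStab hn
    · obtain ⟨z, hz⟩ := (range_embSU_eq (q := q) hF _ (range_of_mem_tripleStab hn hg)).le ⟨w, rfl⟩
      exact ⟨z, fun _ => by rw [conj_embSU, hz]⟩
    · exact ⟨1, fun h => absurd h hg⟩
  choose tr htr using htr
  -- representatives for disjoint pairs and triples
  have rep : ∀ a, 2 ≤ a → (hna : a ≤ n) → 3 + a ≤ n → ∃ π : alternatingGroup (Fin n),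
      ∀ i j, π.1 (pt hna i) ≠ pt n3 j := by
    intro a ha hna h
    obtain ⟨π, hπ⟩ := exists_even_map ha hna
      ⟨fun i : Fin a => (⟨3 + i.val, by omega⟩ : Fin n), fun i j e => Fin.ext (by simpa [Fin.ext_iff] using e)⟩
    refine ⟨π, fun i j e => ?_⟩
    obtain ⟨k, hk⟩ := hπ.le ⟨i, rfl⟩
    have : (3 + k.val : ℕ) = j.val := congrArg Fin.val (hk.trans e)
    omega
  let p2 : List (alternatingGroup (Fin n)) := if h : 5 ≤ n then [(rep 2 le_rfl (by omega) h).choose] else []
  let p3 : List (alternatingGroup (Fin n)) := if h : 6 ≤ n then [(rep 3 (by omega) (by omega) h).choose] else []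
  let L : alternatingGroup (Fin n) → FreeGroup (alternatingGroup (Fin n) ⊕ Cfsg.SU 3 F q) :=
    fun g => FreeGroup.of (Sum.inl g)
  let R : Cfsg.SU 3 F q → FreeGroup (alternatingGroup (Fin n) ⊕ Cfsg.SU 3 F q) := fun g => FreeGroup.of (Sum.inr g)
  let cm : alternatingGroup (Fin n) → Cfsg.SU 3 F q → Cfsg.SU 3 F q →
      FreeGroup (alternatingGroup (Fin n) ⊕ Cfsg.SU 3 F q) :=
    fun g x y => (L g * R x * (L g)⁻¹) * R y * ((R y) * (L g * R x * (L g)⁻¹))⁻¹
  let ex1 := ss.flatMap fun g => ws.map fun w => L g * R w * (L g)⁻¹ * (R (tr g w))⁻¹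
  let ex2 := p2.flatMap fun g => us.flatMap fun x => ws.map fun y => cm g (e2 hF (le_refl 3) x) y
  let ex3 := p3.flatMap fun g => ws.flatMap fun x => ws.map fun y => cm g x y
  have hcm : ∀ {X : Type} [Group X] (a b : X), a * b * (b * a)⁻¹ = 1 ↔ a * b = b * a := fun a b => mul_inv_eq_one
  refine ⟨ex1 ++ ex2 ++ ex3, ?_, ?_, ?_⟩
  · simp only [ex1, ex2, ex3, List.length_append, List.length_flatMap, List.length_map, List.map_const',
      List.sum_replicate, smul_eq_mul]
    refine add_le_add (add_le_add (Nat.mul_le_mul_right _ hsl) ?_) ?_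
    · simp only [p2]; split_ifs <;> simp
    · simp only [p3]; split_ifs <;> simp
  · intro z hz
    simp only [ex1, ex2, ex3, List.mem_append, List.mem_flatMap, List.mem_map] at hz
    rcases hz with (⟨g, hg, w, -, rfl⟩ | ⟨g, hg, x, -, y, -, rfl⟩) | ⟨g, hg, x, -, y, -, rfl⟩
    · simp only [L, R, map_mul, map_inv, glueEval_inl, glueEval_inr]
      rw [mul_inv_eq_one]
      exact htr g w (hss g hg)
    · simp only [p2] at hg
      split_ifs at hg with h5
      · rw [List.mem_singleton] at hg
        have hd := hg ▸ (rep 2 le_rfl (by omega) h5).choose_spec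
        simp only [cm, L, R, map_mul, map_inv, glueEval_inl, glueEval_inr, mul_inv_eq_one]
        rw [← MonoidHom.comp_apply (embSU hF (ptEmb n3)), embSU_trans, ptEmb_trans, conj_embSU]
        exact (embSU_commute hF _ _ (fun a b => hd a b) _ _).eq
      · simp at hg
    · simp only [p3] at hg
      split_ifs at hg with h6
      · rw [List.mem_singleton] at hg
        have hd := hg ▸ (rep 3 (by omega) (by omega) h6).choose_spec
        simp only [cm, L, R, map_mul, map_inv, glueEval_inl, glueEval_inr, mul_inv_eq_one]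
        rw [conj_embSU]
        exact (embSU_commute hF _ _ (fun a b => hd a b) _ _).eq
      · simp at hg
  intro G _ ρ β HR h
  simp only [ex1, ex2, ex3, List.mem_append, List.mem_flatMap, List.mem_map, or_imp, forall_and] at h
  obtain ⟨⟨h1, h2⟩, h3⟩ := h
  haveI : Finite β.range := Finite.of_surjective _ β.rangeRestrict_surjective
  -- the stabiliser normalises the block
  have htri : ∀ g ∈ tripleStab hn, ρ g ∈ Subgroup.normalizer (β.range : Set G) := by
    intro g hg
    refine (?_ : Subgroup.closure {x | x = cyc3 n3 ∨ x ∈ ss} ≤ (Subgroup.normalizer (β.range : Set G)).comap ρ)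
      (hgen g hg)
    rw [Subgroup.closure_le]
    rintro s (rfl | hs)
    · refine Subgroup.le_normalizer ?_
      rw [HR.cyc]
      exact ⟨_, rfl⟩
    refine Subgroup.mem_normalizer_fintype fun y hy => ?_
    obtain ⟨y, rfl⟩ := hy
    have : (⊤ : Subgroup (Cfsg.SU 3 F q)) ≤ β.range.comap ((MulAut.conj (ρ s)).toMonoidHom.comp β) := by
      rw [← hws, Subgroup.closure_le]
      intro w hw
      refine ⟨tr s w, ?_⟩
      have := h1 _ ⟨s, hs, w, hw, rfl⟩
      simp only [L, R, map_mul, map_inv, glueEval_inl, glueEval_inr, mul_inv_eq_one] at this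
      exact this.symm
    exact this (Subgroup.mem_top y)
  have conj_mem : ∀ g ∈ tripleStab hn, ∀ y ∈ β.range, ρ g * y * (ρ g)⁻¹ ∈ β.range := fun g hg y hy =>
    (Subgroup.mem_normalizer_iff.1 (htri g hg) y).1 hy
  have cent : ∀ {H : Type _} [Group H] (φ : H →* G) (S : Set H), Subgroup.closure S = ⊤ →
      (∀ a ∈ S, ∀ y ∈ ws, φ a * β y = β y * φ a) → ∀ x ∈ φ.range, ∀ y ∈ β.range, x * y = y * x := by
    rintro H _ φ S hS hc _ ⟨x, rfl⟩ _ ⟨y, rfl⟩
    have e1 : ∀ b ∈ ws, φ x * β b = β b * φ x := by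
      intro b hb
      have : (⊤ : Subgroup H) ≤ (Subgroup.centralizer {β b}).comap φ := by
        rw [← hS, Subgroup.closure_le]
        exact fun a ha => Subgroup.mem_centralizer_singleton_iff.2 (hc a ha b hb)
      exact Subgroup.mem_centralizer_singleton_iff.1 (this (Subgroup.mem_top x))
    have : (⊤ : Subgroup (Cfsg.SU 3 F q)) ≤ (Subgroup.centralizer {φ x}).comap β := by
      rw [← hws, Subgroup.closure_le]
      exact fun b hb => Subgroup.mem_centralizer_singleton_iff.2 (e1 b hb).symm
    exact (Subgroup.mem_centralizer_singleton_iff.1 (this (Subgroup.mem_top y))).symm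
  have htri' : ∀ g : alternatingGroup (Fin n),
      Set.range ((ptEmb n3).trans g.1.toEmbedding) = Set.range (ptEmb n3) → ∀ x, ρ g * β x * (ρ g)⁻¹ ∈ β.range :=
    fun g hg x => conj_mem g (mem_tripleStab_of_range hn hg) _ ⟨x, rfl⟩
  refine ⟨htri', ?_, ?_⟩
  · intro g hg x hx y hy
    have h5 : 5 ≤ n := by
      have := Fintype.card_le_of_injective _ (Function.Injective.sumElim (f := fun a => g.1 (pt (le23.trans n3) a))
        (g := pt n3) (g.1.injective.comp (f := fun a => pt _ a) (Fin.castLE_injective _)) (Fin.castLE_injective n3) hg)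
      simpa using this
    set π := (rep 2 le_rfl (by omega) h5).choose with hπd
    have hπ : ∀ i j, π.1 (pt (le23.trans n3) i) ≠ pt n3 j := (rep 2 le_rfl (by omega) h5).choose_spec
    have hb : ∀ x ∈ (phi hF (le_refl 3) ρ β π).range, ∀ y ∈ β.range, x * y = y * x := by
      refine cent _ {x | x ∈ us} hus fun a ha b hb => ?_
      have := h2 _ ⟨π, by simp [p2, h5, hπd], a, ha, b, hb, rfl⟩
      simp only [cm, L, R, map_mul, map_inv, glueEval_inl, glueEval_inr, mul_inv_eq_one] at this
      exact this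
    obtain ⟨s, hs, hsπ⟩ := exists_move hn ((ptEmb (le23.trans n3)).trans π.1.toEmbedding)
      ((ptEmb (le23.trans n3)).trans g.1.toEmbedding) hπ hg
    have hx' : x ∈ (phi hF (le_refl 3) ρ β (s * π)).range := by
      refine range_phi_le_of_pair HR ?_ hx
      congr 1
      · exact (hsπ 0).symm
      · exact congrArg _ (hsπ 1).symm
    obtain ⟨x, rfl⟩ := hx'
    have hy' := conj_mem _ (inv_mem hs) y hy
    have e := hb _ ⟨x, rfl⟩ _ hy'
    rw [map_inv, inv_inv] at e
    have := congrArg (fun z => ρ s * z * (ρ s)⁻¹) e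
    rw [phi_apply] at this ⊢
    rw [map_mul]
    simpa [mul_assoc] using this
  · intro g hg x hx y hy
    have h6 : 6 ≤ n := by
      have := Fintype.card_le_of_injective _ (Function.Injective.sumElim (f := fun a => g.1 (pt n3 a))
        (g := pt n3) (g.1.injective.comp (f := fun a => pt _ a) (Fin.castLE_injective _)) (Fin.castLE_injective n3) hg)
      simpa using this
    set π := (rep 3 (by omega) (by omega) h6).choose with hπd
    have hπ : ∀ i j, π.1 (pt n3 i) ≠ pt n3 j := (rep 3 (by omega) (by omega) h6).choose_spec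
    let χ : Cfsg.SU 3 F q →* G := (MulAut.conj (ρ π)).toMonoidHom.comp β
    have hb : ∀ x ∈ χ.range, ∀ y ∈ β.range, x * y = y * x := by
      refine cent χ {x | x ∈ ws} hws fun a ha b hb => ?_
      have := h3 _ ⟨π, by simp [p3, h6, hπd], a, ha, b, hb, rfl⟩
      simp only [cm, L, R, map_mul, map_inv, glueEval_inl, glueEval_inr, mul_inv_eq_one] at this
      exact this
    obtain ⟨s, hs, hsπ⟩ := exists_move hn ((ptEmb n3).trans π.1.toEmbedding)
      ((ptEmb n3).trans g.1.toEmbedding) hπ hg
    obtain ⟨x, rfl⟩ := hx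
    rw [Phi_apply]
    have hstab : (s * π)⁻¹ * g ∈ tripleStab hn := by
      refine mem_tripleStab_of_range hn (congrArg Set.range (funext fun i => ?_))
      show ((s * π).1)⁻¹ (g.1 (pt n3 i)) = pt n3 i
      rw [Perm.inv_eq_iff_eq]
      exact (hsπ i).symm
    have hx' := conj_mem _ hstab (β (embSU hF (ptEmb (le_refl 3)) x)) ⟨_, rfl⟩
    obtain ⟨x', hx'⟩ := hx'
    have hy' := conj_mem _ (inv_mem hs) y hy
    have e := hb _ ⟨x', rfl⟩ _ hy'
    have e' := congrArg (fun z => ρ s * z * (ρ s)⁻¹) e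
    simp only [χ, MonoidHom.comp_apply, MulEquiv.coe_toMonoidHom, MulAut.conj_apply] at e'
    rw [hx', map_mul, map_inv, map_mul, map_inv] at e'
    simpa [mul_assoc] using e'

end Cfsg.Agent.Lib.SUPres
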