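import Cfsg.Agent.Lib.SUPres.RecogThree
import Cfsg.Agent.Lib.SUPres.AltFive
import Cfsg.Agent.Lib.ShortPres.Small
import Cfsg.Agent.Lib.ThreeGenPres.Instances
import Cfsg.Agent.Lib.BoundedPresentation.U3.Transfer

/-!
Presentations of `SU_n(q)` for `q > 3`.
-/

set_option autoImplicit false

namespace Cfsg.Agent.Lib.SUPres

open Cfsg.Agent.Lib.BoundedPresentation Equiv

universe u

theorem pres_alt_four : ∃ s : Fin 2 → alternatingGroup (Fin 4),
    Pres s 5 ∧ Subgroup.closure (Set.range s) = ⊤ := by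
  let E : Fin 2 ⊕ Fin 2 ≃ Fin 4 := finSumFinEquiv
  refine ⟨fun i => E.altCongrHom (altGen (Fin 2) 0 i), pres_two.map_equiv _, ?_⟩
  rw [show (Set.range fun i => E.altCongrHom (altGen (Fin 2) 0 i)) =
    E.altCongrHom.toMonoidHom '' Set.range (altGen (Fin 2) 0) from Set.range_comp _ _,
    ← MonoidHom.map_closure, closure_altGen, Subgroup.map_top_of_surjective _ E.altCongrHom.surjective]

/-- Six named elements and few relators. -/
def HasSUPres (n : ℕ) (F : Type u) [Field F] [Fintype F] (q : ℕ) : Prop :=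
  ∃ (N : Fin 6 → Cfsg.SU n F q) (r : ℕ), r ≤ 39 ∧ (n ≤ 5 → r ≤ 35) ∧ Pres N r ∧
    Subgroup.closure (Set.range N) = ⊤

theorem hasSUPres_of_three_lt {F : Type u} [Field F] [Fintype F] {n q : ℕ} (hF : Fintype.card F = q ^ 2)
    (hq : 3 < q) (hn : 4 ≤ n) : HasSUPres n F q := by
  classical
  obtain ⟨NB, hB, cB⟩ := U3.pres_SU_three hF (le_of_lt hq)
  have hrec := recog_three hF hq hn
  rcases (show n = 4 ∨ n = 5 ∨ 6 ≤ n by omega) with rfl | rfl | h6
  · obtain ⟨NA, hA, cA⟩ := pres_alt_four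
    obtain ⟨N, hN, cN⟩ := pres_su hF hn (le_refl 3) (le34.trans hn) hrec hA cA hB cB
    obtain ⟨N', h', c'⟩ := Pres.exists_fin 1 hN cN 6 (by simp)
    exact ⟨N', _, by simp, by simp, h', c'⟩
  · obtain ⟨N, hN, cN⟩ :=
      pres_su hF hn (le_refl 3) (le34.trans hn) hrec AltFive.pres_five AltFive.closure_gens hB cB
    obtain ⟨N', h', c'⟩ := Pres.exists_fin 1 hN cN 6 (by simp)
    exact ⟨N', _, by simp, by simp, h', c'⟩
  · obtain ⟨R, hR, ⟨e⟩⟩ := ThreeGenPres.pres_three_alt (n := n) (by omega)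
    obtain ⟨hA, cA⟩ := Pres.of_presented hR e
    obtain ⟨N, hN, cN⟩ := pres_su hF hn (le_refl 3) (le34.trans hn) hrec hA cA hB cB
    obtain ⟨N', h', c'⟩ := Pres.exists_fin 0 hN cN 6 (by simp)
    refine ⟨N', _, ?_, fun h => absurd h (by omega), h', c'⟩
    split_ifs <;> omega

end Cfsg.Agent.Lib.SUPres
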