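import Cfsg.Agent.Lib.SUPres.SmallCommon
import Cfsg.Agent.Lib.SUPres.Large
import Cfsg.Agent.Lib.UThreeThree.Table
import Cfsg.Agent.Lib.CosetTable.SUPresThree.Cover
import Cfsg.Agent.Lib.CosetTable.SUPresWinThree.Cover
import Cfsg.Agent.Lib.ShortPres.Instances

/-!
Presentations of `SU_n(3)`.
-/

set_option autoImplicit false
set_option maxRecDepth 10000

namespace Cfsg.Agent.Lib.SUPres.Three

open Matrix Equiv Cfsg.Agent.Lib.BoundedPresentation Cfsg.Agent.Lib.UThreeThree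

theorem hF9 : Fintype.card Nine = 3 ^ 2 := card_nine

/-- Generator 0. -/
def m0 : Matrix (Fin 3) (Fin 3) Nine := ofNums ![![2, 0, 0], ![0, 0, 3], ![0, 6, 0]]

/-- Generator 1. -/
def m1 : Matrix (Fin 3) (Fin 3) Nine := ofNums ![![1, 3, 8], ![6, 1, 7], ![5, 4, 0]]

/-- Generator 2. -/
def m2 : Matrix (Fin 3) (Fin 3) Nine := ofNums ![![2, 0, 0], ![0, 1, 0], ![0, 0, 2]]

/-- Generator 3. -/
def m3 : Matrix (Fin 3) (Fin 3) Nine := ofNums ![![0, 4, 8], ![7, 1, 1], ![5, 1, 1]]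

/-- Words for the elements of the first pair block. -/
def pairTable : List ((ℕ × ℕ × ℕ × ℕ) × List ℕ) :=
  [((0, 3, 3, 0), [1, 0, 2, 0, 1, 2]),
   ((0, 6, 6, 0), [2, 1, 0, 2, 0, 1]),
   ((0, 2, 1, 0), [2, 3, 0, 1, 0, 3]),
   ((0, 1, 2, 0), [3, 0, 1, 0, 3, 2]),
   ((3, 0, 0, 6), [0, 1, 0, 3, 1, 2, 0, 1]),
   ((6, 0, 0, 3), [1, 0, 2, 1, 3, 0, 1, 0]),
   ((1, 0, 0, 1), []),
   ((4, 5, 4, 7), [3, 0, 1, 2, 0, 1, 3, 2, 1, 0]),
   ((4, 8, 7, 7), [0, 1, 2, 1, 3, 1, 0, 2, 0, 3, 2]),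
   ((4, 4, 5, 7), [1, 2, 0, 3, 1, 2, 0, 2, 0, 3]),
   ((4, 7, 8, 7), [0, 1, 2, 0, 1, 3, 2, 0, 3, 2]),
   ((7, 5, 4, 4), [2, 3, 0, 2, 3, 1, 0, 2, 1, 0]),
   ((7, 8, 7, 4), [3, 2, 0, 2, 0, 1, 3, 0, 2, 1]),
   ((7, 4, 5, 4), [2, 3, 0, 2, 0, 1, 3, 1, 2, 1, 0]),
   ((7, 7, 8, 4), [3, 0, 1, 2, 3, 1, 0, 2, 1, 0]),
   ((2, 0, 0, 2), [0, 2, 0]),
   ((5, 5, 4, 8), [3, 1, 0, 2, 1, 0, 2, 3, 1]),
   ((5, 8, 7, 8), [2, 3, 0, 2, 0, 1, 3, 2, 1, 0]),
   ((5, 4, 5, 8), [2, 3, 1, 0, 3, 2, 0, 3, 2, 1]),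
   ((5, 7, 8, 8), [1, 2, 3, 0, 2, 1, 3, 1]),
   ((8, 5, 4, 5), [1, 3, 1, 2, 0, 3, 2, 1]),
   ((8, 8, 7, 5), [1, 2, 3, 0, 2, 3, 0, 1, 3, 2]),
   ((8, 4, 5, 5), [1, 2, 0, 1, 3, 0, 2, 3, 0, 1]),
   ((8, 7, 8, 5), [3, 2, 0, 1, 2, 0, 1, 3, 0])]

/-- The generators of `SU_3(3)`. -/
noncomputable def gens : Fin 4 → Cfsg.SU 3 Nine 3 :=
  ![mkSU hF9 m0 (by decide +kernel) (by decide +kernel), mkSU hF9 m1 (by decide +kernel) (by decide +kernel),
    mkSU hF9 m2 (by decide +kernel) (by decide +kernel), mkSU hF9 m3 (by decide +kernel) (by decide +kernel)]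

/-- The letters. -/
noncomputable def fI (i : ℕ) : Cfsg.SU 3 Nine 3 := if h : i < 4 then gens ⟨i, h⟩ else 1

/-- Their matrices. -/
def matI : ℕ → Matrix (Fin 3) (Fin 3) Nine := fun i => [m0, m1, m2, m3].getD i 1

theorem mat_fI : ∀ i, mat (fI i) = matI i
  | 0 | 1 | 2 | 3 => rfl
  | i + 4 => by
    rw [fI, dif_neg (by omega)]
    rfl

/-- A number as an element. -/
def ofNum (c : ℕ) : Nine := ⟨Fin.ofNat 9 c⟩

theorem ofNum_num (x : Nine) : ofNum x.num = x := by
  revert x; decide +kernel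

/-- Coded vectors with three entries. -/
def K3 : VecCode Nine 3 := code3 (fun x => x.num) ofNum ofNum_num 9 fun x => x.num.isLt

/-- Coded vectors with four entries. -/
def K4 : VecCode Nine 4 := code4 (fun x => x.num) ofNum ofNum_num 9 fun x => x.num.isLt

theorem rels_three : ∀ w ∈ CosetTable.SUPresThree.relsL, ∀ j, actW K3 matI w (K3.enc (Pi.single j 1)) =
    K3.enc (Pi.single j 1) := by decide +kernel

theorem eval_rels : ∀ w ∈ CosetTable.SUPresThree.relsL, CosetTable.eval fI w = 1 := fun w hw =>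
  eval_eq_one_of_actW K3 fI matI mat_fI w (rels_three w hw)

theorem aw_check : ∀ j, actW K3 matI [3, 0, 1, 2, 0, 2, 3] (K3.enc (Pi.single j 1)) =
    K3.enc (pMat Nine ((cyc3 (le_refl 3))⁻¹).1 *ᵥ Pi.single j 1) := by decide +kernel

theorem eval_aw : CosetTable.eval fI [3, 0, 1, 2, 0, 2, 3] = (permSU (cyc3 (le_refl 3)) : Cfsg.SU 3 Nine 3)⁻¹ := by
  rw [← map_inv]
  exact eval_eq_elt_of_actW K3 fI matI mat_fI _ _ aw_check

theorem table_ok : ∀ e ∈ pairTable, ∀ j, actW K3 matI e.2 (K3.enc (Pi.single j 1)) =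
    K3.enc (pairBlock (ofNum e.1.1) (ofNum e.1.2.1) (ofNum e.1.2.2.1) (ofNum e.1.2.2.2) *ᵥ Pi.single j 1) := by
  decide +kernel

theorem table_covers : ∀ a c : Nine, a * a ^ 3 + c * c ^ 3 = 1 → ∀ b d : Nine, a * d - b * c = 1 →
    a ^ 3 * b + c ^ 3 * d = 0 → ∃ e ∈ pairTable, e.1 = ((a.num : ℕ), (b.num : ℕ), (c.num : ℕ), (d.num : ℕ)) := by
  decide +kernel

theorem fI_mem (w : List ℕ) : CosetTable.eval fI w ∈ Subgroup.closure (Set.range gens) := by
  refine CosetTable.eval_mem _ _ fun a _ => ?_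
  rw [fI]
  split_ifs with h
  · exact Subgroup.subset_closure ⟨_, rfl⟩
  · exact one_mem _

theorem closure_gens : Subgroup.closure (Set.range gens) = ⊤ := by
  set K := Subgroup.closure (Set.range gens)
  have hpair : (embSU (q := 3) hF9 (ptEmb le23)).range ≤ K := by
    rintro _ ⟨x, rfl⟩
    have h := (Semisimple.mem_SU_iff hF9 x.1).1 x.2
    have h00 := congrFun₂ h 0 0
    have h01 := congrFun₂ h 0 1
    simp only [Semisimple.ct, Matrix.mul_apply, Fin.sum_univ_two, Matrix.transpose_apply, Matrix.map_apply,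
      Matrix.one_apply_eq, Matrix.one_apply_ne (show (0 : Fin 2) ≠ 1 by decide)] at h00 h01
    have hd := x.1.2
    rw [Matrix.det_fin_two] at hd
    obtain ⟨e, he, hnum⟩ := table_covers (mat x 0 0) (mat x 1 0)
      (by rw [mul_comm, mul_comm _ (mat x 1 0 ^ 3)]; exact h00) (mat x 0 1) (mat x 1 1)
      hd h01
    have : embSU hF9 (ptEmb le23) x = CosetTable.eval fI e.2 := by
      refine (eval_eq_elt_of_actW K3 fI matI mat_fI e.2 _ fun j => ?_).symm
      rw [table_ok e he j, mat_embSU_pair, hnum, ofNum_num, ofNum_num, ofNum_num, ofNum_num]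
    exact this ▸ fI_mem _
  have hcyc : (permSU (cyc3 (le_refl 3)) : Cfsg.SU 3 Nine 3) ∈ K := by
    have := fI_mem [3, 0, 1, 2, 0, 2, 3]
    rw [eval_aw] at this
    exact inv_mem_iff.1 this
  refine embSU_le_of_pairs hF9 le_rfl le_rfl K fun f => ?_
  obtain ⟨p, hp⟩ := exists_even_map (le_refl 2) le23 f
  rw [range_embSU_eq hF9 f hp.symm]
  rintro _ ⟨x, rfl⟩
  rw [← conj_embSU]
  obtain ⟨j, rfl⟩ : ∃ j : Fin 3, p = cyc3 (le_refl 3) ^ (j : ℕ) := by
    clear hp
    revert p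
    decide +kernel
  rw [map_pow]
  exact mul_mem (mul_mem (pow_mem hcyc _) (hpair ⟨x, rfl⟩)) (inv_mem (pow_mem hcyc _))

theorem card_three : Nat.card (Cfsg.SU 3 Nine 3) = 6048 := by
  have h := Classical.succ_mul_natCard_SU hF9 3 (by norm_num)
  rw [Classical.natCard_GU hF9 3] at h
  norm_num [Finset.prod_range_succ, Nat.even_add_one] at h
  omega

theorem card_four : Nat.card (Cfsg.SU 4 Nine 3) = 13063680 := by
  have h := Classical.succ_mul_natCard_SU hF9 4 (by norm_num)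
  rw [Classical.natCard_GU hF9 4] at h
  norm_num [Finset.prod_range_succ, Nat.even_add_one] at h
  omega

theorem pres_three : Pres gens 10 := by
  refine pres_of_cover gens closure_gens CosetTable.SUPresThree.cover rfl rfl CosetTable.SUPresThree.words_ok
    (by decide +kernel) ?_ eval_rels
  rw [card_three]
  exact le_refl _

/-- The letters of the window. -/
noncomputable def f4 : ℕ → Cfsg.SU 4 Nine 3
  | 0 => permSU b4
  | i + 1 => embSU hF9 (ptEmb le34) (fI i)

/-- Their matrices. -/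
def mat4 : ℕ → Matrix (Fin 4) (Fin 4) Nine
  | 0 => pMat Nine b4.1
  | i + 1 => 1 + Schur.UnitMult.sel Nine (ptEmb le34) * (matI i - 1) * (Schur.UnitMult.sel Nine (ptEmb le34))ᵀ

theorem mat_f4 : ∀ i, mat (f4 i) = mat4 i
  | 0 => rfl
  | i + 1 => by
    show 1 + Schur.UnitMult.sel Nine (ptEmb le34) * (mat (fI i) - 1) * (Schur.UnitMult.sel Nine (ptEmb le34))ᵀ = _
    rw [mat_fI]
    rfl

/-- The extra relators of the window. -/
noncomputable def winRels : List (List ℕ) := CosetTable.SUPresWinThree.relsL.drop 12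

theorem win_check : ∀ w ∈ winRels, ∀ j, actW K4 mat4 w (K4.enc (Pi.single j 1)) =
    K4.enc (Pi.single j 1) := by decide +kernel

theorem relsL_eq : CosetTable.SUPresWinThree.relsL = [0, 0] :: ([[1, 1], [2, 2], [3, 3], [4, 4]] ++
    (CosetTable.SUPresThree.relsL.drop 4).map (List.map (· + 1)) ++
      [([4, 1, 2, 3, 1, 3, 4] ++ [0]) ++ (([4, 1, 2, 3, 1, 3, 4] ++ [0]) ++ ([4, 1, 2, 3, 1, 3, 4] ++ [0]))]) ++
        winRels := by decide +kernel

theorem cyc_b4 : (b4 * (cyc3 le34)⁻¹) * (b4 * (cyc3 le34)⁻¹) * (b4 * (cyc3 le34)⁻¹) = 1 := by decide +kernel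

theorem b4_cube_check : ∀ a ∈ [[1, 1], [2, 2], [3, 3], [4, 4]], ∃ w ∈ CosetTable.SUPresThree.relsL,
    a = w.map (· + 1) := by decide +kernel

/-- The window. -/
noncomputable def winCert : WinCert hF9 where
  wl := winRels.map (CosetTable.eval (winTok fI))
  valid := by
    intro z hz
    obtain ⟨w, hw, rfl⟩ := List.mem_map.1 hz
    rw [map_eval]
    refine Eq.trans ?_ (eval_eq_one_of_actW K4 f4 mat4 mat_f4 w (win_check w hw))
    congr 1
    funext i
    rcases i with _ | i <;> simp [winTok, f4]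
  bound := by
    intro G _ ρ β hc hz hsup
    let f : ℕ → G := fun i => glueEval ρ β (winTok fI i)
    have f0 : f 0 = ρ b4 := by simp [f, winTok]
    have fs : ∀ i, f (i + 1) = β (fI i) := fun i => by simp [f, winTok]
    have hsh : ∀ w : List ℕ, CosetTable.eval f (w.map (· + 1)) = β (CosetTable.eval fI w) := fun w => by
      rw [eval_map, map_eval]
      congr 1
      funext i
      exact fs i
    have hrel : ∀ w ∈ CosetTable.SUPresWinThree.relsL, CosetTable.eval f w = 1 := by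
      intro w hw
      rw [relsL_eq] at hw
      rcases List.mem_append.1 hw with hw | hw
      · rcases List.mem_cons.1 hw with rfl | hw
        · show 1 * f 0 * f 0 = 1
          rw [one_mul, f0, ← map_mul, b4_mul_self, map_one]
        rcases List.mem_append.1 hw with hw | hw
        · rcases List.mem_append.1 hw with hw | hw
          · obtain ⟨v, hv, rfl⟩ := b4_cube_check w hw
            rw [hsh, eval_rels v hv, map_one]
          · obtain ⟨v, hv, rfl⟩ := List.mem_map.1 hw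
            rw [hsh, eval_rels v (List.mem_of_mem_drop hv), map_one]
        · rw [List.mem_singleton.1 hw]
          have e : CosetTable.eval f ([4, 1, 2, 3, 1, 3, 4] ++ [0]) = ρ (b4 * (cyc3 le34)⁻¹) := by
            rw [CosetTable.eval_append, show ([4, 1, 2, 3, 1, 3, 4] : List ℕ) = List.map (· + 1) [3, 0, 1, 2, 0, 2, 3]
              from rfl, hsh, eval_aw, map_inv, ← hc]
            show (1 * f 0) * _ = _
            rw [one_mul, f0, map_mul, map_inv]
          rw [CosetTable.eval_append, CosetTable.eval_append, e, ← map_mul, ← map_mul, cyc_b4, map_one]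
      · rw [← hz _ (List.mem_map_of_mem hw), map_eval]
    have hinv : ∀ g, g < 5 → f g * f g = 1 := fun g hg => by
      have hm : [g, g] ∈ CosetTable.SUPresWinThree.relsL := by
        revert g
        decide +kernel
      simpa [CosetTable.eval] using hrel _ hm
    have M : CosetTable.Model f CosetTable.SUPresWinThree.cert := by
      refine ⟨CosetTable.SUPresWinThree.words_ok, hinv, hrel, ?_⟩
      set K := Subgroup.closure {x | ∃ g, g < CosetTable.SUPresWinThree.cert.k ∧ f g = x}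
      have hgm : ∀ g, g < 5 → f g ∈ K := fun g hg => Subgroup.subset_closure ⟨g, hg, rfl⟩
      have hβ : β.range ≤ K := by
        rw [MonoidHom.range_eq_map, ← closure_gens, MonoidHom.map_closure, Subgroup.closure_le]
        rintro _ ⟨_, ⟨j, rfl⟩, rfl⟩
        have : f (j + 1) = β (gens j) := by rw [fs, fI, dif_pos j.isLt]
        exact this ▸ hgm _ (by omega)
      rw [eq_top_iff, ← hsup, sup_le_iff]
      refine ⟨?_, hβ⟩
      rw [MonoidHom.range_eq_map, ← closure_b4, MonoidHom.map_closure, Subgroup.closure_le]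
      rintro _ ⟨x, rfl | rfl, rfl⟩
      · exact f0 ▸ hgm 0 (by norm_num)
      · rw [hc]; exact hβ ⟨_, rfl⟩
    have hsub : CosetTable.wordSubgroup f CosetTable.SUPresWinThree.cert.subs ≤ β.range := by
      rw [CosetTable.wordSubgroup, Subgroup.closure_le]
      rintro _ ⟨w, hw, rfl⟩
      have : ∀ a ∈ w, f a ∈ β.range := by
        intro a ha
        obtain ⟨i, rfl⟩ : ∃ i, a = i + 1 := ⟨a - 1, by
          have hpos : ∀ w ∈ CosetTable.SUPresWinThree.subsL, ∀ a ∈ w, a = a - 1 + 1 := by decide +kernel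
          exact hpos w hw a ha⟩
        exact ⟨_, (fs i).symm⟩
      exact CosetTable.eval_mem _ _ this
    have : Finite β.range := Finite.of_surjective _ β.rangeRestrict_surjective
    obtain ⟨hfin, hcard⟩ := CosetTable.SUPresWinThree.cover.finite_card_le M (b := 6048)
      ⟨Finite.of_injective _ (Subgroup.inclusion_injective hsub),
        (Nat.card_le_card_of_injective _ (Subgroup.inclusion_injective hsub)).trans
          ((Nat.card_le_card_of_surjective _ β.rangeRestrict_surjective).trans (le_of_eq card_three))⟩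
    refine ⟨hfin, hcard.trans (le_of_eq ?_)⟩
    rw [card_four]
    rfl

theorem hasSUPres {n : ℕ} (hn : 4 ≤ n) : HasSUPres n Nine 3 := by
  classical
  have hex := winCert.valid_lift hn
  have hrec := recogEx_win winCert le_rfl hn
  have hlen : (winCert.lift hn).length = 4 := by
    rw [WinCert.lift, List.length_map]
    show (winRels.map _).length = 4
    rw [List.length_map]
    decide +kernel
  rcases (show n = 4 ∨ 5 ≤ n by omega) with rfl | h5
  · obtain ⟨NA, hA, cA⟩ := pres_alt_four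
    obtain ⟨N, hN, cN⟩ := pres_su_ex hF9 hn (le_refl 3) (le34.trans hn) _ hex hrec hA cA pres_three closure_gens
    obtain ⟨N', h', c'⟩ := Pres.exists_fin 0 hN cN 6 (by simp)
    exact ⟨N', _, by simp [hlen], by simp [hlen], h', c'⟩
  · obtain ⟨-, ⟨NA, cA, hA⟩, -⟩ := ShortPres.short_pres h5
    obtain ⟨N, hN, cN⟩ := pres_su_ex hF9 hn (le_refl 3) (le34.trans hn) _ hex hrec hA cA pres_three closure_gens
    obtain ⟨N', h', c'⟩ := Pres.exists_fin 0 hN cN 6 (by simp)
    refine ⟨N', _, ?_, fun _ => ?_, h', c'⟩ <;> simp only [hlen] <;> split_ifs <;> omega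

end Cfsg.Agent.Lib.SUPres.Three
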