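import Cfsg.Agent.Lib.SUPres.SmallTwo
import Cfsg.Agent.Lib.SUPres.SmallThree
import Cfsg.Agent.Lib.PSUThreeTwo.Transport
import Cfsg.Agent.Lib.BoundedPresentation.U3.Transfer
import Cfsg.Agent.Lib.BoundedPresentation.TwoGen
import Cfsg.Agent.S2412

/-!
Six generators for `SU_n(q)`, two for `PSU_n(q)`.
-/

set_option autoImplicit false

namespace Cfsg.Agent.Lib.SUPres

open Cfsg.Agent.Lib.BoundedPresentation

universe u v

variable {F : Type u} [Field F] [Fintype F] {n q : ℕ}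

theorem pres_of_equiv {G : Type u} {H : Type v} [Group G] [Group H] (e : H ≃* G) {ι : Type} {N : ι → H} {r : ℕ}
    (h : Pres N r) (c : Subgroup.closure (Set.range N) = ⊤) :
    Pres (fun i => e (N i)) r ∧ Subgroup.closure (Set.range fun i => e (N i)) = ⊤ := by
  refine ⟨h.map_equiv e, ?_⟩
  have := congrArg (Subgroup.map e.toMonoidHom) c
  rw [MonoidHom.map_closure, Subgroup.map_top_of_surjective _ e.surjective, ← Set.range_comp] at this
  exact this

theorem HasSUPres.map {K : Type v} [Field K] [Fintype K] (φ : K ≃+* F) (h : HasSUPres n K q) :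
    HasSUPres n F q := by
  obtain ⟨N, r, h1, h2, hN, cN⟩ := h
  obtain ⟨hN', cN'⟩ := pres_of_equiv (PSUThreeTwo.suMap (n := n) (q := q) φ) hN cN
  exact ⟨_, r, h1, h2, hN', cN'⟩

theorem hasSUPres (hF : Fintype.card F = q ^ 2) (hn : 4 ≤ n) : HasSUPres n F q := by
  rcases (show q = 2 ∨ q = 3 ∨ 3 < q by have := Forms.two_le_of_card_sq hF; omega) with rfl | rfl | h
  · exact (Two.hasSUPres hn).map (FiniteField.ringEquivOfCardEq (by rw [hF, Two.hF4]))
  · exact (Three.hasSUPres hn).map (FiniteField.ringEquivOfCardEq (by rw [hF, Three.hF9]))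
  · exact hasSUPres_of_three_lt hF h hn

theorem isCyclic_center_SU (hF : Fintype.card F = q ^ 2) (hn : 1 ≤ n) :
    IsCyclic (Subgroup.center (Cfsg.SU n F q)) := by
  let i0 : Fin n := ⟨0, hn⟩
  let f : Subgroup.center (Cfsg.SU n F q) →* F :=
    { toFun := fun g => g.1.1.1 i0 i0
      map_one' := by simp
      map_mul' := fun a b => by
        show (a.1.1.1 * b.1.1.1) i0 i0 = _
        rw [Classical.center_SU_scalar hF a.1 a.2 i0, Classical.center_SU_scalar hF b.1 b.2 i0,
          Matrix.diagonal_mul_diagonal]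
        simp }
  refine isCyclic_of_subgroup_isDomain f fun a b e => Subtype.ext (Subtype.ext (Subtype.ext ?_))
  rw [Classical.center_SU_scalar hF a.1 a.2 i0, Classical.center_SU_scalar hF b.1 b.2 i0]
  exact congrArg (fun c => Matrix.diagonal fun _ => c) e

/-- The bounds on six generators. -/
theorem six_gen_bounds (hF : Fintype.card F = q ^ 2) (hn : 4 ≤ n) :
    ∃ r, r ≤ 39 ∧ (n ≤ 5 → r ≤ 35) ∧
      (∃ rels : Finset (FreeGroup (Fin 6)), rels.card ≤ r ∧
        Nonempty (PresentedGroup (↑rels : Set (FreeGroup (Fin 6))) ≃* Cfsg.SU n F q)) ∧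
      ∃ N : Fin 6 → Cfsg.PSU n F q, Pres N (r + 1) ∧ Subgroup.closure (Set.range N) = ⊤ := by
  obtain ⟨N, r, h1, h2, hN, cN⟩ := hasSUPres hF hn
  have := isCyclic_center_SU (n := n) hF (by omega)
  exact ⟨r, h1, h2, hN.exists_rels cN, SpGlue.pres_center_quotient hN cN⟩

/-- Two generators for `PSU_n(q)`. -/
theorem psu_two_gen_bound (hF : Fintype.card F = q ^ 2) (hn : 3 ≤ n) (h32 : ¬ (n = 3 ∧ q = 2)) :
    ∃ rels : Finset (FreeGroup (Fin 2)), rels.card ≤ 80 ∧
      Nonempty (PresentedGroup (↑rels : Set (FreeGroup (Fin 2))) ≃* Cfsg.PSU n F q) := by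
  obtain ⟨K, iK, iK', hK⟩ := exists_field_of_card_sq hF
  obtain ⟨a, b, hab⟩ := S2412.result (F := F) (hK ▸ FiniteField.isPrimePow_card K) hF n hn fun h e => h32 ⟨h, e⟩
  rcases (show n = 3 ∨ 4 ≤ n by omega) with rfl | h4
  · have hq : 3 ≤ q := by
      have := Forms.two_le_of_card_sq hF
      have : q ≠ 2 := fun e => h32 ⟨rfl, e⟩
      omega
    obtain ⟨N, hN, cN⟩ := U3.pres_PSU_three hF hq
    obtain ⟨R, hR, e⟩ := pres_two_gens hN cN hab
    exact ⟨R, by omega, e⟩
  · obtain ⟨r, h1, -, -, N, hN, cN⟩ := six_gen_bounds hF h4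
    obtain ⟨R, hR, e⟩ := pres_two_gens hN cN hab
    exact ⟨R, by omega, e⟩

end Cfsg.Agent.Lib.SUPres
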