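import Cfsg.Agent.Lib.SUPres.Phan
import Cfsg.Agent.Lib.Phan.Incl

/-!
Blocks of the glued group lifted along the projection to the special unitary group.
-/

set_option autoImplicit false
set_option linter.unusedSectionVars false

namespace Cfsg.Agent.Lib.SUPres

open Matrix Equiv Cfsg.Agent.Lib.Schur.UnitMult

universe u v

/-- A projection injective on a subgroup lifts homomorphisms into its image. -/
theorem exists_lift {A G H : Type*} [Group A] [Group G] [Group H] (pr : G →* H) (R : Subgroup G)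
    (hinj : ∀ x ∈ R, ∀ y ∈ R, pr x = pr y → x = y) (f : A →* H) (hf : f.range ≤ R.map pr) :
    ∃ φ : A →* G, (∀ x, φ x ∈ R) ∧ ∀ x, pr (φ x) = f x := by
  choose φ h1 h2 using fun x => Subgroup.mem_map.1 (hf ⟨x, rfl⟩)
  exact ⟨MonoidHom.mk' φ fun x y => hinj _ (h1 _) _ (mul_mem (h1 x) (h1 y)) (by rw [map_mul, h2, h2, h2, map_mul]),
    h1, h2⟩

variable {F : Type*} [Field F] [Fintype F] {n k q : ℕ}

/-- An interval of coordinates. -/
def ivEmb {a m : ℕ} (o : ℕ) (h : o + a ≤ m) : Fin a ↪ Fin m := ⟨Phan.sh o h, Phan.sh_inj o h⟩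

theorem blk_eq_embSU (hF : Fintype.card F = q ^ 2) {a m : ℕ} (o : ℕ) (h : o + a ≤ m) (x : Cfsg.SU a F q) :
    Phan.blk hF o h x = embSU hF (ivEmb o h) x := by
  apply su_ext
  rw [mat_embSU]
  show 1 + Phan.P F (Phan.sh o h) * (mat x - 1) * Phan.R F (Phan.sh o h) =
    1 + sel F (ivEmb o h) * (mat x - 1) * (sel F (ivEmb o h))ᵀ
  have e1 : Phan.P F (Phan.sh o h) = sel F (ivEmb o h) := by
    ext i b; simp [Phan.P, sel, ivEmb, Matrix.one_apply]; congr
  have e2 : Phan.R F (Phan.sh o h) = (sel F (ivEmb o h))ᵀ := by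
    ext b i; simp [Phan.R, sel, ivEmb, Matrix.one_apply, eq_comm]; congr
  rw [e1, e2]

section

variable {hF : Fintype.card F = q ^ 2} {hn : 4 ≤ n} {hk : 3 ≤ k} {hkn : k ≤ n}
variable {G : Type u} [Group G] {ρ : alternatingGroup (Fin n) →* G} {β : Cfsg.SU k F q →* G}
variable {pr : G →* Cfsg.SU n F q}

theorem pr_Phi (O : Over hF hkn ρ β pr) (π : alternatingGroup (Fin n)) (x : Cfsg.SU 3 F q) :
    pr (Phi hF hk ρ β π x) = embSU hF ((ptEmb (hk.trans hkn)).trans π.1.toEmbedding) x := by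
  rw [Phi_apply, map_mul, map_mul, map_inv, O.alt, O.blk, ← MonoidHom.comp_apply (embSU hF (ptEmb hkn)),
    embSU_trans, ptEmb_trans, conj_embSU]

theorem pr_phi (O : Over hF hkn ρ β pr) (π : alternatingGroup (Fin n)) (x : Cfsg.SU 2 F q) :
    pr (phi hF hk ρ β π x) = embSU hF ((ptEmb (le23.trans (hk.trans hkn))).trans π.1.toEmbedding) x := by
  rw [← phi_eq_Phi, pr_Phi O, ← MonoidHom.comp_apply, embSU_trans]
  rfl

theorem injOn_Phi (O : Over hF hkn ρ β pr) (π : alternatingGroup (Fin n)) :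
    ∀ x ∈ (Phi hF hk ρ β π).range, ∀ y ∈ (Phi hF hk ρ β π).range, pr x = pr y → x = y := by
  rintro _ ⟨a, rfl⟩ _ ⟨b, rfl⟩ h
  rw [pr_Phi O, pr_Phi O] at h
  rw [embSU_injective hF _ h]

theorem map_Phi (O : Over hF hkn ρ β pr) (π : alternatingGroup (Fin n)) :
    (Phi hF hk ρ β π).range.map pr = (embSU hF ((ptEmb (hk.trans hkn)).trans π.1.toEmbedding)).range := by
  rw [MonoidHom.map_range]
  exact congrArg MonoidHom.range (MonoidHom.ext (pr_Phi O π))

theorem map_phi (O : Over hF hkn ρ β pr) (π : alternatingGroup (Fin n)) :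
    (phi hF hk ρ β π).range.map pr =
      (embSU hF ((ptEmb (le23.trans (hk.trans hkn))).trans π.1.toEmbedding)).range := by
  rw [MonoidHom.map_range]
  exact congrArg MonoidHom.range (MonoidHom.ext (pr_phi O π))

theorem injOn_phi (O : Over hF hkn ρ β pr) (π : alternatingGroup (Fin n)) :
    ∀ x ∈ (phi hF hk ρ β π).range, ∀ y ∈ (phi hF hk ρ β π).range, pr x = pr y → x = y := by
  rintro _ ⟨a, rfl⟩ _ ⟨b, rfl⟩ h
  rw [pr_phi O, pr_phi O] at h
  rw [embSU_injective hF _ h]

/-- The image of the first three-cycle lies in the first three-block. -/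
theorem rho_cyc (R : Rels hF hn hk ρ β) :
    β (embSU hF (ptEmb hk) (permSU (cyc3 (le_refl 3)))) = ρ (cyc3 (le34.trans hn)) := by
  rw [R.cyc, embSU_permSU hF (ptEmb hk) (cyc3 le_rfl) (cyc3 hk)]
  · intro j
    have e3 : ∀ j : Fin 3, pt (le_refl 3) j = j := fun j => rfl
    have := cyc3_apply (le_refl 3) j
    rw [e3, e3] at this
    rw [this, ptEmb_apply, ptEmb_apply, cyc3_apply]
  · intro j hj
    exact cyc3_off hk fun l e => hj (by simp [← e, ptEmb_apply])

/-- A pair inside a triple gives a smaller block. -/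
theorem phi_le_Phi (R : Rels hF hn hk ρ β) (π π' : alternatingGroup (Fin n))
    (h : ∀ b ∈ ({π'.1 (pt hn 0), π'.1 (pt hn 1)} : Set (Fin n)), ∃ i, π.1 (pt (le34.trans hn) i) = b) :
    (phi hF hk ρ β π').range ≤ (Phi hF hk ρ β π).range := by
  set C := cyc3 (le34.trans hn)
  have key : ∀ j : ℕ, (phi hF hk ρ β (π * C ^ j)).range ≤ (Phi hF hk ρ β π).range := by
    rintro j _ ⟨x, rfl⟩
    refine ⟨permSU (cyc3 (le_refl 3)) ^ j * embSU hF (ptEmb le23) x * (permSU (cyc3 (le_refl 3)) ^ j)⁻¹, ?_⟩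
    rw [map_mul, map_mul, map_inv, map_pow, phi_eq_Phi, Phi_apply, rho_cyc R, phi_apply, phi_apply, map_mul, map_pow,
      conj_pow]
    simp only [C]
    group
  obtain ⟨i, hi⟩ := h _ (Set.mem_insert _ _)
  obtain ⟨j, hj⟩ := h _ (Set.mem_insert_of_mem _ rfl)
  have hij : i ≠ j := by
    rintro rfl
    have := π'.1.injective (hi.symm.trans hj)
    simp [pt_inj] at this
  have c : ∀ i : Fin 3, C.1 (pt (le34.trans hn) i) = pt (le34.trans hn) (i + 1) := cyc3_apply _
  have c0 : C.1 (pt hn 0) = pt hn 1 := c 0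
  have c1 : C.1 (pt hn 1) = pt hn 2 := c 1
  have c2 : C.1 (pt hn 2) = pt hn 0 := c 2
  obtain ⟨l, hl⟩ : ∃ l : ℕ, ({π'.1 (pt hn 0), π'.1 (pt hn 1)} : Set (Fin n)) =
      {(π * C ^ l).1 (pt hn 0), (π * C ^ l).1 (pt hn 1)} := by
    have q0 : pt (le34.trans hn) (0 : Fin 3) = pt hn 0 := rfl
    have q1 : pt (le34.trans hn) (1 : Fin 3) = pt hn 1 := rfl
    have q2 : pt (le34.trans hn) (2 : Fin 3) = pt hn 2 := rfl
    fin_cases i <;> fin_cases j <;>
      simp only [Fin.zero_eta, Fin.mk_one, Fin.reduceFinMk, q0, q1, q2] at hi hj hij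
    all_goals try exact absurd rfl hij
    · exact ⟨0, by simp [← hi, ← hj]⟩
    · exact ⟨2, by simp [pow_two, ← hi, ← hj, c0, c1, c2, Set.pair_comm]⟩
    · exact ⟨0, by simp [← hi, ← hj, Set.pair_comm]⟩
    · exact ⟨1, by simp [← hi, ← hj, c0, c1]⟩
    · exact ⟨2, by simp [pow_two, ← hi, ← hj, c0, c1, c2]⟩
    · exact ⟨1, by simp [← hi, ← hj, c0, c1, Set.pair_comm]⟩
  exact (range_phi_eq R hl).le.trans (key l)

/-- Blocks on consecutive triples generate. -/
theorem eq_top_of_blocks (R : Rels hF hn hk ρ β) (hgen : ρ.range ⊔ β.range = ⊤) (L : Subgroup G)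
    (hblk : (Phi hF hk ρ β 1).range ≤ L → β.range ≤ L)
    (h : ∀ i (hi : i + 2 < n), ∃ π : alternatingGroup (Fin n), (π.1 (pt hn 1) = ⟨i + 1, by omega⟩) ∧
      ((π.1 (pt hn 0) = ⟨i, by omega⟩ ∧ π.1 (pt hn 2) = ⟨i + 2, hi⟩) ∨
       (π.1 (pt hn 0) = ⟨i + 2, hi⟩ ∧ π.1 (pt hn 2) = ⟨i, by omega⟩)) ∧
      (Phi hF hk ρ β π).range ≤ L) : L = ⊤ := by
  choose π hπ using h
  have hV : ∀ i hi, (Phi hF hk ρ β (π i hi)).range ≤ L := fun i hi => (hπ i hi).2.2
  have hrho : ρ.range ≤ L := by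
    have : L.comap ρ = ⊤ := by
      refine eq_top_of_cycles (le34.trans hn) _ fun i hi g g0 g1 g2 goff => ?_
      obtain ⟨m1, h, -⟩ := hπ i hi
      set C := cyc3 (le34.trans hn)
      have c0 : C.1 (pt hn 0) = pt hn 1 := cyc3_apply (le34.trans hn) 0
      have c1 : C.1 (pt hn 1) = pt hn 2 := cyc3_apply (le34.trans hn) 1
      have c2 : C.1 (pt hn 2) = pt hn 0 := cyc3_apply (le34.trans hn) 2
      have hmem : ρ (π i hi * C * (π i hi)⁻¹) ∈ L := by
        rw [map_mul, map_mul, map_inv, ← rho_cyc R]; exact hV i hi ⟨_, rfl⟩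
      rcases h with ⟨m0, m2⟩ | ⟨m0, m2⟩
      · have : g = π i hi * C * (π i hi)⁻¹ := by
          rw [eq_mul_inv_iff_mul_eq]
          refine Subtype.ext (Equiv.ext fun x => ?_)
          show g.1 ((π i hi).1 x) = (π i hi).1 (C.1 x)
          by_cases x0 : x = pt hn 0
          · rw [x0, m0, c0, m1, g0]
          by_cases x1 : x = pt hn 1
          · rw [x1, m1, c1, m2, g1]
          by_cases x2 : x = pt hn 2
          · rw [x2, m2, c2, m0, g2]
          have hx : C.1 x = x := cyc3_off _ fun l e => by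
            fin_cases l <;> [exact x0 e.symm; exact x1 e.symm; exact x2 e.symm]
          rw [hx]
          refine goff _ ?_
          by_contra hc
          have : ((π i hi).1 x : ℕ) = i ∨ ((π i hi).1 x : ℕ) = i + 1 ∨ ((π i hi).1 x : ℕ) = i + 2 := by omega
          rcases this with h' | h' | h'
          · exact x0 ((π i hi).1.injective (by rw [m0]; exact Fin.ext h'))
          · exact x1 ((π i hi).1.injective (by rw [m1]; exact Fin.ext h'))
          · exact x2 ((π i hi).1.injective (by rw [m2]; exact Fin.ext h'))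
        show ρ g ∈ L
        rw [this]; exact hmem
      · have : g⁻¹ = π i hi * C * (π i hi)⁻¹ := by
          rw [eq_mul_inv_iff_mul_eq, inv_mul_eq_iff_eq_mul]
          refine Subtype.ext (Equiv.ext fun x => ?_)
          show (π i hi).1 x = g.1 ((π i hi).1 (C.1 x))
          by_cases x0 : x = pt hn 0
          · rw [x0, m0, c0, m1, g1]
          by_cases x1 : x = pt hn 1
          · rw [x1, m1, c1, m2, g0]
          by_cases x2 : x = pt hn 2
          · rw [x2, m2, c2, m0, g2]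
          have hx : C.1 x = x := cyc3_off _ fun l e => by
            fin_cases l <;> [exact x0 e.symm; exact x1 e.symm; exact x2 e.symm]
          rw [hx]
          refine (goff _ ?_).symm
          by_contra hc
          have : ((π i hi).1 x : ℕ) = i ∨ ((π i hi).1 x : ℕ) = i + 1 ∨ ((π i hi).1 x : ℕ) = i + 2 := by omega
          rcases this with h' | h' | h'
          · exact x2 ((π i hi).1.injective (by rw [m2]; exact Fin.ext h'))
          · exact x1 ((π i hi).1.injective (by rw [m1]; exact Fin.ext h'))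
          · exact x0 ((π i hi).1.injective (by rw [m0]; exact Fin.ext h'))
        show ρ g ∈ L
        rw [← inv_mem_iff, ← map_inv, this]; exact hmem
    rintro _ ⟨g, rfl⟩
    exact (this.symm ▸ Subgroup.mem_top g : g ∈ L.comap ρ)
  refine eq_top_iff.2 (hgen ▸ sup_le hrho (hblk ?_))
  rintro _ ⟨x, rfl⟩
  have := hV 0 (by omega) ⟨x, rfl⟩
  rw [Phi_apply] at this ⊢
  rw [map_one, one_mul, inv_one, mul_one]
  have hm : ρ (π 0 (by omega)) ∈ L := hrho ⟨_, rfl⟩
  exact (Subgroup.mul_mem_cancel_left L hm).1 ((Subgroup.mul_mem_cancel_right L (inv_mem hm)).1 this)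

end

theorem beta_le_Phi_one (hF : Fintype.card F = q ^ 2) {G : Type u} [Group G] (ρ : alternatingGroup (Fin n) →* G)
    (β : Cfsg.SU 3 F q →* G) : β.range ≤ (Phi hF (le_refl 3) ρ β 1).range := by
  rintro _ ⟨x, rfl⟩
  refine ⟨x, ?_⟩
  rw [Phi_apply, map_one, one_mul, inv_one, mul_one]
  congr 1
  apply su_ext
  rw [mat_embSU]
  show 1 + sel F (ptEmb (le_refl 3)) * (mat x - 1) * (sel F (ptEmb (le_refl 3)))ᵀ = _
  have hs : sel F (ptEmb (le_refl 3)) = 1 := Matrix.ext_of_mulVec_single fun a => by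
    rw [sel_single, one_mulVec]; rfl
  rw [hs, Matrix.transpose_one, one_mul, mul_one, add_sub_cancel]

end Cfsg.Agent.Lib.SUPres
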