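import Cfsg.Agent.Lib.SUPres.Glue
import Cfsg.Agent.Lib.BoundedPresentation.Pres

/-!
The glued group is an image of the special unitary group, given the recognition of weak Phan systems.
-/

set_option autoImplicit false
set_option linter.unusedSectionVars false

namespace Cfsg.Agent.Lib.SUPres

open Matrix Equiv Cfsg.Agent.Lib.BoundedPresentation

universe u v

/-- The data of a weak Phan system of rank `n` over `F`. -/
structure PhanData {G : Type u} [Group G] (n : ℕ) (F : Type v) [Field F] [Fintype F] (q : ℕ) where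
  U : Fin n → Subgroup G
  e : ∀ i, ↥(Cfsg.SU 2 F q) ≃* ↥(U i)
  V : Fin n → Fin n → Subgroup G
  h1 : ∀ i j : Fin n, (i : ℕ) + 2 ≤ j → ∀ x ∈ U i, ∀ y ∈ U j, x * y = y * x
  h2 : ∀ i j : Fin n, (i : ℕ) + 1 = j → Cfsg.IsStandardUnitaryPair (V i j) (U i) (U j) F q
  hgen : (⨆ i, U i) ⊔ (⨆ (i : Fin n) (j : Fin n) (_ : (i : ℕ) + 1 = j), V i j) = ⊤

variable {F : Type v} [Field F] [Fintype F] {n q : ℕ}

/-- The forward or backward even permutation moving the first three points to three consecutive ones. -/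
theorem exists_triple (hn : 4 ≤ n) (i : ℕ) (hi : i + 2 < n) : ∃ π : alternatingGroup (Fin n),
    (π.1 (pt hn 1) = ⟨i + 1, by omega⟩) ∧
      ((π.1 (pt hn 0) = ⟨i, by omega⟩ ∧ π.1 (pt hn 2) = ⟨i + 2, hi⟩) ∨
       (π.1 (pt hn 0) = ⟨i + 2, hi⟩ ∧ π.1 (pt hn 2) = ⟨i, by omega⟩)) := by
  have hinj : Function.Injective ![(⟨i, by omega⟩ : Fin n), ⟨i + 1, by omega⟩, ⟨i + 2, hi⟩] := by
    intro a b hab
    fin_cases a <;> fin_cases b <;> simp at hab ⊢
  obtain ⟨τ, hτ⟩ := exists_perm (ptEmb (le34.trans hn)) ⟨_, hinj⟩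
  have e0 : τ (pt hn 0) = ⟨i, by omega⟩ := hτ 0
  have e1 : τ (pt hn 1) = ⟨i + 1, by omega⟩ := hτ 1
  have e2 : τ (pt hn 2) = ⟨i + 2, hi⟩ := hτ 2
  rcases Int.units_eq_one_or (Perm.sign τ) with hs | hs
  · exact ⟨⟨τ, Perm.mem_alternatingGroup.2 hs⟩, e1, Or.inl ⟨e0, e2⟩⟩
  · refine ⟨⟨τ * swap (pt hn 0) (pt hn 2), Perm.mem_alternatingGroup.2 ?_⟩, ?_, Or.inr ⟨?_, ?_⟩⟩
    · simp [hs, Perm.sign_swap (show pt hn 0 ≠ pt hn 2 by simp [pt_inj])]
    · simp [swap_apply_def, pt_inj, e1]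
    · simp [swap_apply_def, pt_inj, e2]
    · simp [swap_apply_def, pt_inj, e0]

/-- An even permutation moving the first pair to two consecutive points, as a set. -/
theorem exists_pair (hn : 4 ≤ n) (i : ℕ) (hi : i + 1 < n) : ∃ π : alternatingGroup (Fin n),
    ({π.1 (pt hn 0), π.1 (pt hn 1)} : Set (Fin n)) = {⟨i, by omega⟩, ⟨i + 1, hi⟩} := by
  have hinj : Function.Injective ![(⟨i, by omega⟩ : Fin n), ⟨i + 1, hi⟩] := by
    intro a b hab
    fin_cases a <;> fin_cases b <;> simp at hab ⊢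
  obtain ⟨τ, hτ⟩ := exists_perm (ptEmb (le23.trans (le34.trans hn))) ⟨_, hinj⟩
  have e0 : τ (pt hn 0) = ⟨i, by omega⟩ := hτ 0
  have e1 : τ (pt hn 1) = ⟨i + 1, hi⟩ := hτ 1
  rcases Int.units_eq_one_or (Perm.sign τ) with hs | hs
  · exact ⟨⟨τ, Perm.mem_alternatingGroup.2 hs⟩, by simp [e0, e1]⟩
  · refine ⟨⟨τ * swap (pt hn 0) (pt hn 1), Perm.mem_alternatingGroup.2 ?_⟩, ?_⟩
    · simp [hs, Perm.sign_swap (show pt hn 0 ≠ pt hn 1 by simp [pt_inj])]
    · simp [e0, e1, Set.pair_comm]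

/-- The glued group carries a weak Phan system. -/
theorem nonempty_phanData (hF : Fintype.card F = q ^ 2) (hn : 4 ≤ n + 1) {k : ℕ} (hk : 3 ≤ k)
    (hkn : k ≤ n + 1) {G : Type u} [Group G] {ρ : alternatingGroup (Fin (n + 1)) →* G}
    {β : Cfsg.SU k F q →* G} (R : Rels hF hn hk ρ β) {pr : G →* Cfsg.SU (n + 1) F q}
    (O : Over hF hkn ρ β pr) (hgen : ρ.range ⊔ β.range = ⊤)
    (hblk : ∀ L : Subgroup G, ρ.range ≤ L → (Phi hF hk ρ β 1).range ≤ L → β.range ≤ L) :
    Nonempty (PhanData (G := G) n F q) := by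
  classical
  choose τ hτ using fun i : Fin n => exists_pair hn (i : ℕ) (Nat.succ_lt_succ i.isLt)
  choose π hπ using fun (i : ℕ) (hi : i + 2 < n + 1) => exists_triple hn i hi
  have hblocks : ∀ (i : ℕ) (hi : i + 2 < n + 1) (hi' : i < n) (hj : i + 1 < n),
      Cfsg.IsStandardUnitaryPair (Phi hF hk ρ β (π i hi)).range (phi hF hk ρ β (τ ⟨i, hi'⟩)).range
        (phi hF hk ρ β (τ ⟨i + 1, hj⟩)).range F q := by
    intro i hi hi' hj
    obtain ⟨s1, s2⟩ := isStandard R O (π i hi)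
    obtain ⟨m1, h⟩ := hπ i hi
    have c0 : (cyc3 (le34.trans hn)).1 (pt hn 0) = pt hn 1 := cyc3_apply (le34.trans hn) 0
    have c1 : (cyc3 (le34.trans hn)).1 (pt hn 1) = pt hn 2 := cyc3_apply (le34.trans hn) 1
    rcases h with ⟨m0, m2⟩ | ⟨m0, m2⟩
    · rw [range_phi_eq R (π := τ ⟨i, hi'⟩) (π' := π i hi) (by rw [hτ, m0, m1]),
        range_phi_eq R (π := τ ⟨i + 1, hj⟩) (π' := π i hi * cyc3 (le34.trans hn)) (by
          rw [hτ]; simp [c0, c1, m1, m2])]
      exact s1
    · rw [range_phi_eq R (π := τ ⟨i + 1, hj⟩) (π' := π i hi) (by rw [hτ, m0, m1, Set.pair_comm]),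
        range_phi_eq R (π := τ ⟨i, hi'⟩) (π' := π i hi * cyc3 (le34.trans hn)) (by
          rw [hτ]; simp [c0, c1, m1, m2, Set.pair_comm])]
      exact s2
  let V : Fin n → Fin n → Subgroup G := fun i _ =>
    if hi : (i : ℕ) + 2 < n + 1 then (Phi hF hk ρ β (π i hi)).range else ⊥
  refine ⟨{ U := fun i => (phi hF hk ρ β (τ i)).range
            e := fun i => MonoidHom.ofInjective (phi_injective O _)
            V := V
            h1 := fun i j hij => range_phi_commute R _ _ ?_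
            h2 := fun i j hij => ?_
            hgen := ?_ }⟩
  · rw [hτ, hτ]
    simp [Fin.ext_iff]
    omega
  · have hi : (i : ℕ) + 2 < n + 1 := by omega
    simp only [V, dif_pos hi]
    obtain ⟨i, hi'⟩ := i
    obtain ⟨j, hj'⟩ := j
    simp only at hij
    subst hij
    exact hblocks i hi hi' hj'
  · set L := (⨆ i, (phi hF hk ρ β (τ i)).range) ⊔ (⨆ (i : Fin n) (j : Fin n) (_ : (i : ℕ) + 1 = j), V i j)
    have hV : ∀ (i : ℕ) (hi : i + 2 < n + 1), (Phi hF hk ρ β (π i hi)).range ≤ L := by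
      intro i hi
      refine le_sup_of_le_right ?_
      refine le_iSup_of_le ⟨i, by omega⟩ (le_iSup_of_le ⟨i + 1, by omega⟩ (le_iSup_of_le rfl ?_))
      simp only [V, dif_pos hi]
      exact le_rfl
    have hrho : ρ.range ≤ L := by
      have : L.comap ρ = ⊤ := by
        refine eq_top_of_cycles (le34.trans hn) _ fun i hi g g0 g1 g2 goff => ?_
        obtain ⟨m1, h⟩ := hπ i hi
        have key : ∀ e : alternatingGroup (Fin 3), ρ (π i hi) * β (embSU hF (ptEmb hk) (permSU e)) * (ρ (π i hi))⁻¹ ∈ L :=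
          fun e => hV i hi ⟨permSU e, rfl⟩
        have hb : β (embSU hF (ptEmb hk) (permSU (cyc3 (le_refl 3)))) = ρ (cyc3 (le34.trans hn)) := by
          rw [R.cyc, embSU_permSU hF (ptEmb hk) (cyc3 le_rfl) (cyc3 hk)]
          · intro j
            have e3 : ∀ j : Fin 3, pt (le_refl 3) j = j := fun j => rfl
            have := cyc3_apply (le_refl 3) j
            rw [e3, e3] at this
            rw [this, ptEmb_apply, ptEmb_apply, cyc3_apply]
          · intro j hj
            exact cyc3_off hk fun l e => hj (by simp [← e, ptEmb_apply])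
        set C := cyc3 (le34.trans hn)
        have c0 : C.1 (pt hn 0) = pt hn 1 := cyc3_apply (le34.trans hn) 0
        have c1 : C.1 (pt hn 1) = pt hn 2 := cyc3_apply (le34.trans hn) 1
        have c2 : C.1 (pt hn 2) = pt hn 0 := cyc3_apply (le34.trans hn) 2
        have hmem : ρ (π i hi * C * (π i hi)⁻¹) ∈ L := by
          rw [map_mul, map_mul, map_inv, ← hb]; exact key _
        rcases h with ⟨m0, m2⟩ | ⟨m0, m2⟩
        · have : g = π i hi * C * (π i hi)⁻¹ := by
            rw [eq_mul_inv_iff_mul_eq]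
            refine Subtype.ext (Equiv.ext fun x => ?_)
            show g.1 ((π i hi).1 x) = (π i hi).1 (C.1 x)
            by_cases x0 : x = pt hn 0
            · rw [x0, m0, c0, m1, g0]
            by_cases x1 : x = pt hn 1
            · rw [x1, m1, c1, m2, g1]
            by_cases x2 : x = pt hn 2
            · rw [x2, m2, c2, m0, g2]
            have hx : C.1 x = x := cyc3_off _ fun l e => by
              fin_cases l <;> [exact x0 e.symm; exact x1 e.symm; exact x2 e.symm]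
            rw [hx]
            refine goff _ ?_
            by_contra hc
            have : ((π i hi).1 x : ℕ) = i ∨ ((π i hi).1 x : ℕ) = i + 1 ∨ ((π i hi).1 x : ℕ) = i + 2 := by omega
            rcases this with h' | h' | h'
            · exact x0 ((π i hi).1.injective (by rw [m0]; exact Fin.ext h'))
            · exact x1 ((π i hi).1.injective (by rw [m1]; exact Fin.ext h'))
            · exact x2 ((π i hi).1.injective (by rw [m2]; exact Fin.ext h'))
          show ρ g ∈ L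
          rw [this]; exact hmem
        · have : g⁻¹ = π i hi * C * (π i hi)⁻¹ := by
            rw [eq_mul_inv_iff_mul_eq, inv_mul_eq_iff_eq_mul]
            refine Subtype.ext (Equiv.ext fun x => ?_)
            show (π i hi).1 x = g.1 ((π i hi).1 (C.1 x))
            by_cases x0 : x = pt hn 0
            · rw [x0, m0, c0, m1, g1]
            by_cases x1 : x = pt hn 1
            · rw [x1, m1, c1, m2, g0]
            by_cases x2 : x = pt hn 2
            · rw [x2, m2, c2, m0, g2]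
            have hx : C.1 x = x := cyc3_off _ fun l e => by
              fin_cases l <;> [exact x0 e.symm; exact x1 e.symm; exact x2 e.symm]
            rw [hx]
            refine (goff _ ?_).symm
            by_contra hc
            have : ((π i hi).1 x : ℕ) = i ∨ ((π i hi).1 x : ℕ) = i + 1 ∨ ((π i hi).1 x : ℕ) = i + 2 := by omega
            rcases this with h' | h' | h'
            · exact x2 ((π i hi).1.injective (by rw [m2]; exact Fin.ext h'))
            · exact x1 ((π i hi).1.injective (by rw [m1]; exact Fin.ext h'))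
            · exact x0 ((π i hi).1.injective (by rw [m0]; exact Fin.ext h'))
          show ρ g ∈ L
          rw [← inv_mem_iff, ← map_inv, this]; exact hmem
      rintro _ ⟨g, rfl⟩
      exact (this.symm ▸ Subgroup.mem_top g : g ∈ L.comap ρ)
    refine eq_top_iff.2 (hgen ▸ sup_le hrho (hblk L hrho ?_))
    rintro _ ⟨x, rfl⟩
    have := hV 0 (by omega) ⟨x, rfl⟩
    rw [Phi_apply] at this ⊢
    rw [map_one, one_mul, inv_one, mul_one]
    have hm : ρ (π 0 (by omega)) ∈ L := hrho ⟨_, rfl⟩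
    exact (Subgroup.mul_mem_cancel_left L hm).1 ((Subgroup.mul_mem_cancel_right L (inv_mem hm)).1 this)

/-- Reconstruction with a projection to the target. -/
theorem recon_of_proj {G₁ : Type*} {G₂ : Type*} {H : Type u} [Group G₁] [Group G₂] [Group H] [Finite H]
    (φ₁ : G₁ →* H) (φ₂ : G₂ →* H) (hgen : φ₁.range ⊔ φ₂.range = ⊤)
    (gl : List (FreeGroup (G₁ ⊕ G₂))) (hgl : ∀ z ∈ gl, glueEval φ₁ φ₂ z = 1)
    (bound : ∀ (G : Type u) [Group G] (ψ₁ : G₁ →* G) (ψ₂ : G₂ →* G) (pr : G →* H),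
      pr.comp ψ₁ = φ₁ → pr.comp ψ₂ = φ₂ → (∀ z ∈ gl, glueEval ψ₁ ψ₂ z = 1) →
      ψ₁.range ⊔ ψ₂.range = ⊤ → ∃ f : H →* G, Function.Surjective f)
    (G : Type) [Group G] (ψ₁ : G₁ →* G) (ψ₂ : G₂ →* G) (h : ∀ z ∈ gl, glueEval ψ₁ ψ₂ z = 1) :
    ∃ Ψ : H →* G, (∀ g, Ψ (φ₁ g) = ψ₁ g) ∧ ∀ g, Ψ (φ₂ g) = ψ₂ g := by
  classical
  set θ₁ : G₁ →* H × G := φ₁.prod ψ₁
  set θ₂ : G₂ →* H × G := φ₂.prod ψ₂
  set Γ : Subgroup (H × G) := θ₁.range ⊔ θ₂.range
  let χ₁ : G₁ →* Γ := θ₁.codRestrict Γ fun g => Subgroup.mem_sup_left ⟨g, rfl⟩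
  let χ₂ : G₂ →* Γ := θ₂.codRestrict Γ fun g => Subgroup.mem_sup_right ⟨g, rfl⟩
  have hχ : ∀ z ∈ gl, glueEval χ₁ χ₂ z = 1 := by
    intro z hz
    have e1 := map_glueEval ((MonoidHom.fst H G).comp Γ.subtype) χ₁ χ₂ z
    have e2 := map_glueEval ((MonoidHom.snd H G).comp Γ.subtype) χ₁ χ₂ z
    apply Subtype.ext
    exact Prod.ext (e1.trans (hgl z hz)) (e2.trans (h z hz))
  have htop : χ₁.range ⊔ χ₂.range = ⊤ := by
    apply Subgroup.map_injective Γ.subtype_injective
    rw [Subgroup.map_sup, MonoidHom.map_range, MonoidHom.map_range, ← MonoidHom.range_eq_map,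
      Subgroup.range_subtype]
    rfl
  let π : Γ →* H := (MonoidHom.fst H G).comp Γ.subtype
  obtain ⟨f, hf⟩ := bound Γ χ₁ χ₂ π rfl rfl hχ htop
  have hsurj : Function.Surjective π := by
    rw [← MonoidHom.range_eq_top, eq_top_iff, ← hgen, sup_le_iff]
    exact ⟨fun _ ⟨g, hg⟩ => ⟨χ₁ g, hg⟩, fun _ ⟨g, hg⟩ => ⟨χ₂ g, hg⟩⟩
  have : Finite Γ := Finite.of_surjective f hf
  let e := MulEquiv.ofBijective π
    (Function.Surjective.bijective_of_nat_card_le hsurj (Nat.card_le_card_of_surjective f hf))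
  refine ⟨((MonoidHom.snd H G).comp Γ.subtype).comp e.symm.toMonoidHom, fun g => ?_, fun g => ?_⟩
  · have : e.symm (φ₁ g) = χ₁ g := e.symm_apply_eq.2 rfl
    simp only [MonoidHom.comp_apply, MulEquiv.coe_toMonoidHom, this]; rfl
  · have : e.symm (φ₂ g) = χ₂ g := e.symm_apply_eq.2 rfl
    simp only [MonoidHom.comp_apply, MulEquiv.coe_toMonoidHom, this]; rfl

end Cfsg.Agent.Lib.SUPres
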