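import Mathlib
import Cfsg.Agent.Lib.SUPres.Phan
import Cfsg.Agent.Lib.SUPres.Gen
import Cfsg.Agent.Lib.BoundedPresentation.SpPres
import Cfsg.Agent.Lib.Classical.UnitaryTwo

/-!
Few relators gluing an alternating group to a small special unitary group.
-/

set_option autoImplicit false
set_option linter.unusedSectionVars false

namespace Cfsg.Agent.Lib.SUPres

open Matrix Equiv Cfsg.Agent.Lib.BoundedPresentation Cfsg.Agent.Lib.Schur.UnitMult

universe u v

/-! ### The stabiliser of the first pair -/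

section stab

variable {n : ℕ} (hn : 4 ≤ n)

/-- The points outside the first pair. -/
abbrev Rest := {z : Fin n // z ≠ pt hn 0 ∧ z ≠ pt hn 1}

theorem pt01 : pt hn 0 ≠ pt hn 1 := by simp [pt_inj]

/-- A permutation of the rest, made even on the first pair. -/
noncomputable def restLift : Perm (Rest hn) →* alternatingGroup (Fin n) where
  toFun σ := ⟨Perm.ofSubtype σ * (if Perm.sign σ = 1 then 1 else swap (pt hn 0) (pt hn 1)), by
    rw [Perm.mem_alternatingGroup, map_mul, Perm.sign_ofSubtype]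
    rcases Int.units_eq_one_or (Perm.sign σ) with h | h <;> simp [h, Perm.sign_swap (pt01 hn)]⟩
  map_one' := Subtype.ext (by simp)
  map_mul' σ τ := Subtype.ext (by
    have hc : ∀ σ : Perm (Rest hn), Commute (swap (pt hn 0) (pt hn 1)) (Perm.ofSubtype σ) := fun σ => by
      refine Perm.Disjoint.commute fun z => ?_
      rcases eq_or_ne z (pt hn 0) with rfl | h0
      · exact Or.inr (Perm.ofSubtype_apply_of_not_mem σ (by simp))
      rcases eq_or_ne z (pt hn 1) with rfl | h1
      · exact Or.inr (Perm.ofSubtype_apply_of_not_mem σ (by simp))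
      exact Or.inl (swap_apply_of_ne_of_ne h0 h1)
    show Perm.ofSubtype (σ * τ) * (if Perm.sign (σ * τ) = 1 then 1 else swap (pt hn 0) (pt hn 1)) =
      (Perm.ofSubtype σ * (if Perm.sign σ = 1 then 1 else swap (pt hn 0) (pt hn 1))) *
        (Perm.ofSubtype τ * (if Perm.sign τ = 1 then 1 else swap (pt hn 0) (pt hn 1)))
    have e : ∀ (A C D E : Perm (Fin n)), Commute C D → A * C * (D * E) = A * D * (C * E) := fun A C D E h => by
      rw [mul_assoc A C, ← mul_assoc C D, h.eq, mul_assoc D C, ← mul_assoc A D]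
    rw [map_mul, map_mul, e _ _ _ _ (by split_ifs <;> simp [hc τ, Commute.one_left])]
    congr 1
    rcases Int.units_eq_one_or (Perm.sign σ) with h | h <;> rcases Int.units_eq_one_or (Perm.sign τ) with h' | h' <;>
      simp [h, h'])

theorem restLift_fixes (σ : Perm (Rest hn)) : Fixes2 hn (restLift hn σ) := by
  have f0 : Perm.ofSubtype σ (pt hn 0) = pt hn 0 := Perm.ofSubtype_apply_of_not_mem σ (by simp)
  have f1 : Perm.ofSubtype σ (pt hn 1) = pt hn 1 := Perm.ofSubtype_apply_of_not_mem σ (by simp)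
  show ({(Perm.ofSubtype σ * _ : Perm (Fin n)) (pt hn 0), (Perm.ofSubtype σ * _ : Perm (Fin n)) (pt hn 1)} :
    Set (Fin n)) = _
  split_ifs <;> simp [f0, f1, Set.pair_comm]

theorem exists_restLift {g : alternatingGroup (Fin n)} (h : Fixes2 hn g) : ∃ σ, restLift hn σ = g := by
  classical
  have hP : ∀ z, (g.1 z ≠ pt hn 0 ∧ g.1 z ≠ pt hn 1) ↔ (z ≠ pt hn 0 ∧ z ≠ pt hn 1) := by
    intro z
    have hmem : g.1 z ∈ ({g.1 (pt hn 0), g.1 (pt hn 1)} : Set (Fin n)) ↔
        g.1 z ∈ ({pt hn 0, pt hn 1} : Set (Fin n)) := by rw [h]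
    simp only [Set.mem_insert_iff, Set.mem_singleton_iff, g.1.injective.eq_iff] at hmem
    simp only [ne_eq, ← not_or, hmem]
  let σ : Perm (Rest hn) := Perm.subtypePerm (p := fun z => z ≠ pt hn 0 ∧ z ≠ pt hn 1) g.1 hP
  refine ⟨σ, Subtype.ext ?_⟩
  set s : Perm (Fin n) := (Perm.ofSubtype σ)⁻¹ * g.1
  have hσ : ∀ z, z ≠ pt hn 0 → z ≠ pt hn 1 → Perm.ofSubtype σ z = g.1 z := fun z h0 h1 =>
    Perm.ofSubtype_apply_of_mem σ ⟨h0, h1⟩
  have hs : ∀ z, z ≠ pt hn 0 → z ≠ pt hn 1 → s z = z := fun z h0 h1 => by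
    rw [Perm.mul_apply, Perm.inv_eq_iff_eq, hσ z h0 h1]
  have hs01 : s = 1 ∨ s = swap (pt hn 0) (pt hn 1) := by
    have h0 : s (pt hn 0) = pt hn 0 ∨ s (pt hn 0) = pt hn 1 := by
      by_contra hc
      push Not at hc
      exact hc.1 (s.injective (hs _ hc.1 hc.2))
    have h1 : s (pt hn 1) = pt hn 0 ∨ s (pt hn 1) = pt hn 1 := by
      by_contra hc
      push Not at hc
      exact hc.2 (s.injective (hs _ hc.1 hc.2))
    rcases h0 with e0 | e0
    · left
      refine Equiv.ext fun z => ?_
      by_cases z0 : z = pt hn 0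
      · rw [z0]; exact e0
      by_cases z1 : z = pt hn 1
      · rw [z1]
        rcases h1 with e1 | e1
        · exact absurd (s.injective (e1.trans e0.symm)) (pt01 hn).symm
        · exact e1
      exact hs z z0 z1
    · right
      refine Equiv.ext fun z => ?_
      by_cases z0 : z = pt hn 0
      · rw [z0, swap_apply_left]; exact e0
      by_cases z1 : z = pt hn 1
      · rw [z1, swap_apply_right]
        rcases h1 with e1 | e1
        · exact e1
        · exact absurd (s.injective (e1.trans e0.symm)) (pt01 hn).symm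
      rw [swap_apply_of_ne_of_ne z0 z1]
      exact hs z z0 z1
  have hsign : Perm.sign s = Perm.sign σ := by
    simp only [s, map_mul, map_inv, Perm.sign_ofSubtype, Perm.mem_alternatingGroup.1 g.2, mul_one]
    exact Int.units_inv_eq_self _
  show Perm.ofSubtype σ * (if Perm.sign σ = 1 then 1 else swap (pt hn 0) (pt hn 1)) = g.1
  have : (if Perm.sign σ = 1 then 1 else swap (pt hn 0) (pt hn 1)) = s := by
    rw [← hsign]
    rcases hs01 with e | e <;> simp [e, Perm.sign_swap (pt01 hn)]
  rw [this, mul_inv_cancel_left]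

theorem exists_stab : ∃ ss : List (alternatingGroup (Fin n)), ss.length ≤ (if n = 4 then 1 else 2) ∧
    (∀ g ∈ ss, Fixes2 hn g) ∧ ∀ g, Fixes2 hn g → g ∈ Subgroup.closure {x | x ∈ ss} := by
  classical
  let a : Rest hn := ⟨pt hn 2, by simp [pt_inj]⟩
  let b : Rest hn := ⟨pt hn 3, by simp [pt_inj]⟩
  have hab : a ≠ b := by simp [a, b, Subtype.ext_iff, pt_inj]
  set l : List (Rest hn) := a :: b :: ((Finset.univ.erase a).erase b).toList with hl
  have hnd : l.Nodup := by
    simp only [hl, List.nodup_cons, List.mem_cons, Finset.mem_toList, Finset.mem_erase, Finset.mem_univ, and_true,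
      Finset.nodup_toList]
    tauto
  have hall : l.toFinset = Finset.univ := by
    ext z
    simp only [hl, List.mem_toFinset, List.mem_cons, Finset.mem_toList, Finset.mem_erase, Finset.mem_univ, and_true,
      iff_true]
    tauto
  set c := l.formPerm
  have hc : Perm.IsCycle c := List.isCycle_formPerm hnd (by simp [hl])
  have hs : c.support = Finset.univ := by
    rw [← hall]; exact List.support_formPerm_of_nodup l hnd (fun z => by simp [hl])
  have hc2 : c a = b := List.formPerm_apply_head _ _ _ (hl ▸ hnd)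
  have htop := Perm.closure_cycle_adjacent_swap hc hs a
  rw [hc2] at htop
  by_cases h4 : n = 4
  · refine ⟨[restLift hn (swap a b)], by simp [h4], fun g hg => ?_, fun g hg => ?_⟩
    · rw [List.mem_singleton.1 hg]; exact restLift_fixes hn _
    obtain ⟨σ, rfl⟩ := exists_restLift hn hg
    have hcs : c = swap a b := by
      have he : ((Finset.univ.erase a).erase b) = ∅ := by
        subst h4
        rw [Finset.eq_empty_iff_forall_notMem]
        intro z hz
        simp only [Finset.mem_erase, Finset.mem_univ, and_true, ne_eq, Subtype.ext_iff, a, b] at hz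
        obtain ⟨z, z0, z1⟩ := z
        revert z0 z1 hz
        fin_cases z <;> simp [pt]
      simp [c, hl, he]
    rw [hcs, Set.pair_eq_singleton] at htop
    have := Subgroup.mem_map_of_mem (restLift hn) (htop.symm ▸ Subgroup.mem_top σ : σ ∈ Subgroup.closure _)
    rw [MonoidHom.map_closure, Set.image_singleton] at this
    exact Subgroup.closure_mono (by simp) this
  · refine ⟨[restLift hn c, restLift hn (swap a b)], by simp [h4], fun g hg => ?_, fun g hg => ?_⟩
    · simp only [List.mem_cons, List.not_mem_nil, or_false] at hg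
      rcases hg with rfl | rfl <;> exact restLift_fixes hn _
    obtain ⟨σ, rfl⟩ := exists_restLift hn hg
    have := Subgroup.mem_map_of_mem (restLift hn) (htop.symm ▸ Subgroup.mem_top σ : σ ∈ Subgroup.closure _)
    rw [MonoidHom.map_closure, Set.image_pair] at this
    exact Subgroup.closure_mono (by rintro z (rfl | rfl) <;> simp) this

theorem exists_even_map {m : ℕ} (hm : 2 ≤ m) {n : ℕ} (hmn : m ≤ n) (f : Fin m ↪ Fin n) :
    ∃ π : alternatingGroup (Fin n), Set.range ((ptEmb hmn).trans π.1.toEmbedding) = Set.range f := by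
  obtain ⟨τ, hτ⟩ := exists_perm (ptEmb hmn) f
  rcases Int.units_eq_one_or (Perm.sign τ) with hs | hs
  · exact ⟨⟨τ, Perm.mem_alternatingGroup.2 hs⟩, congrArg Set.range (funext hτ)⟩
  set a := pt hmn (⟨0, by omega⟩ : Fin m)
  set b := pt hmn (⟨1, by omega⟩ : Fin m)
  have hab : a ≠ b := by simp [a, b, pt_inj]
  refine ⟨⟨τ * swap a b, Perm.mem_alternatingGroup.2 (by simp [hs, Perm.sign_swap hab])⟩, ?_⟩
  show Set.range (fun i => τ (swap a b (ptEmb hmn i))) = _
  have : (fun i => τ (swap a b (ptEmb hmn i))) = f ∘ (swap (⟨0, by omega⟩ : Fin m) ⟨1, by omega⟩) := by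
    funext i
    show _ = f _
    rw [← hτ]
    exact congrArg τ (((ptEmb hmn).injective.map_swap _ _ i).symm)
  rw [this]
  exact (Equiv.surjective _).range_comp f

end stab

/-! ### The relators -/

variable {F : Type u} [Field F] [Fintype F] {n k q : ℕ}

section rels

variable (hF : Fintype.card F = q ^ 2) (hn : 4 ≤ n) (hk : 3 ≤ k)

/-- The block on the first two coordinates, inside the block on the first `k`. -/
noncomputable abbrev e2 : Cfsg.SU 2 F q →* Cfsg.SU k F q := embSU hF (ptEmb (le23.trans hk))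

variable {G : Type v} [Group G]

/-- The relators. -/
noncomputable def relList (ss : List (alternatingGroup (Fin n))) (ws : List (Cfsg.SU 2 F q))
    (ps : List (Cfsg.SU 2 F q × Cfsg.SU 2 F q))
    (tr : alternatingGroup (Fin n) → Cfsg.SU 2 F q → Cfsg.SU 2 F q)
    (ρ : alternatingGroup (Fin n) → G) (β : Cfsg.SU k F q → G) : List G :=
  ρ (cyc3 (le34.trans hn)) * (β (permSU (cyc3 hk)))⁻¹ ::
  (ss.flatMap (fun g => ws.map (fun w =>
    ρ g * β (e2 hF hk w) * (ρ g)⁻¹ * (β (e2 hF hk (tr g w)))⁻¹)) ++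
  ps.map (fun p => β (e2 hF hk p.1) * (ρ (dbl hn) * β (e2 hF hk p.2) * (ρ (dbl hn))⁻¹) *
    (β (e2 hF hk p.1))⁻¹ * (ρ (dbl hn) * β (e2 hF hk p.2) * (ρ (dbl hn))⁻¹)⁻¹))

theorem length_relList (ss : List (alternatingGroup (Fin n))) (ws : List (Cfsg.SU 2 F q))
    (ps : List (Cfsg.SU 2 F q × Cfsg.SU 2 F q))
    (tr : alternatingGroup (Fin n) → Cfsg.SU 2 F q → Cfsg.SU 2 F q)
    (ρ : alternatingGroup (Fin n) → G) (β : Cfsg.SU k F q → G) :
    (relList hF hn hk ss ws ps tr ρ β).length = 1 + ss.length * ws.length + ps.length := by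
  simp only [relList, List.length_cons, List.length_append, List.length_map, List.length_flatMap,
    List.map_const', List.sum_replicate, smul_eq_mul]
  omega

theorem map_relList {H : Type*} [Group H] (f : G →* H) (ss : List (alternatingGroup (Fin n)))
    (ws : List (Cfsg.SU 2 F q)) (ps : List (Cfsg.SU 2 F q × Cfsg.SU 2 F q))
    (tr : alternatingGroup (Fin n) → Cfsg.SU 2 F q → Cfsg.SU 2 F q)
    (ρ : alternatingGroup (Fin n) → G) (β : Cfsg.SU k F q → G) :
    (relList hF hn hk ss ws ps tr ρ β).map f =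
      relList hF hn hk ss ws ps tr (fun g => f (ρ g)) (fun g => f (β g)) := by
  simp only [relList, List.map_cons, List.map_append, List.map_map, List.map_flatMap, map_mul, map_inv,
    Function.comp_def]

variable {hF hn hk}

theorem rels_of_relList {ρ : alternatingGroup (Fin n) →* G} {β : Cfsg.SU k F q →* G}
    {ss : List (alternatingGroup (Fin n))}
    (hss : ∀ g, Fixes2 hn g → g ∈ Subgroup.closure {x | x ∈ ss}) {u v : Cfsg.SU 2 F q}
    (huv : Subgroup.closure ({u, v} : Set (Cfsg.SU 2 F q)) = ⊤)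
    {tr : alternatingGroup (Fin n) → Cfsg.SU 2 F q → Cfsg.SU 2 F q}
    (h : ∀ x ∈ relList hF hn hk ss [u, v] [(u, u), (u, v), (v, v)] tr ρ β, x = 1) : Rels hF hn hk ρ β := by
  classical
  simp only [relList, List.forall_mem_cons, List.forall_mem_append, List.mem_flatMap, List.forall_mem_map,
    mul_inv_eq_one, List.mem_map] at h
  obtain ⟨hcyc, hnorm, hp⟩ := h
  set ψ := psi (G := G) hF hk β with hψ
  have hψe : ∀ w, β (e2 hF hk w) = ψ w := fun w => rfl
  have hfin : Finite ψ.range := Finite.of_surjective _ ψ.rangeRestrict_surjective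
  refine ⟨hcyc, ?_, ?_⟩
  · have hle : Subgroup.closure {x | x ∈ ss} ≤ (Subgroup.normalizer (ψ.range : Set G)).comap ρ := by
      rw [Subgroup.closure_le]
      intro g hg
      refine Subgroup.mem_normalizer_fintype fun z hz => ?_
      obtain ⟨w, rfl⟩ := hz
      have hle2 : Subgroup.closure ({u, v} : Set (Cfsg.SU 2 F q)) ≤
          ψ.range.comap ((MulAut.conj (ρ g)).toMonoidHom.comp ψ) := by
        rw [Subgroup.closure_le]
        intro w hw
        have hw' : w ∈ [u, v] := by
          rcases hw with rfl | rfl <;> simp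
        refine ⟨tr g w, ?_⟩
        show ψ (tr g w) = ρ g * ψ w * (ρ g)⁻¹
        rw [← hψe, ← hψe]
        exact (mul_inv_eq_one.1 (hnorm _ ⟨g, hg, w, hw', rfl⟩)).symm
      exact hle2 (huv.symm ▸ Subgroup.mem_top w)
    intro g hg x
    exact (Subgroup.mem_normalizer_iff.1 (hle (hss g hg)) (ψ x)).1 ⟨x, rfl⟩
  · have h2 : ρ (dbl hn) * ρ (dbl hn) = 1 := by rw [← map_mul, dbl_mul_self, map_one]
    set c := ρ (dbl hn)
    have hcomm : ∀ a b, (a = u ∨ a = v) → (b = u ∨ b = v) → Commute (ψ a) (c * ψ b * c⁻¹) := by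
      have base : ∀ p ∈ [(u, u), (u, v), (v, v)], Commute (ψ p.1) (c * ψ p.2 * c⁻¹) := fun p hp' => by
        have := mul_inv_eq_one.1 (hp _ ⟨p, hp', rfl⟩)
        rw [mul_inv_eq_iff_eq_mul] at this
        exact this
      intro a b ha hb
      rcases ha with rfl | rfl <;> rcases hb with rfl | rfl
      · exact base (_, _) (by simp)
      · exact base (_, _) (by simp)
      · have := (base (b, a) (by simp)).map (MulAut.conj c).toMonoidHom
        simp only [MulEquiv.coe_toMonoidHom, MulAut.conj_apply] at this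
        rw [show c * (c * ψ a * c⁻¹) * c⁻¹ = (c * c) * ψ a * (c * c)⁻¹ by group, h2, one_mul, inv_one,
          mul_one] at this
        exact this.symm
      · exact base (_, _) (by simp)
    have key : ∀ (f g : Cfsg.SU 2 F q →* G), (∀ a b, (a = u ∨ a = v) → (b = u ∨ b = v) → Commute (f a) (g b)) →
        ∀ x, ∀ b, (b = u ∨ b = v) → Commute (f x) (g b) := by
      intro f g hfg x b hb
      have : Subgroup.closure ({u, v} : Set (Cfsg.SU 2 F q)) ≤ (Subgroup.centralizer {g b}).comap f := by
        rw [Subgroup.closure_le]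
        exact fun a ha => Subgroup.mem_centralizer_singleton_iff.2 (hfg a b (by simpa using ha) hb).eq
      exact Subgroup.mem_centralizer_singleton_iff.1 (this (huv.symm ▸ Subgroup.mem_top x))
    intro x y
    set χ := (MulAut.conj c).toMonoidHom.comp ψ
    have h1 := key ψ χ hcomm
    have : Subgroup.closure ({u, v} : Set (Cfsg.SU 2 F q)) ≤ (Subgroup.centralizer {ψ x}).comap χ := by
      rw [Subgroup.closure_le]
      exact fun b hb => Subgroup.mem_centralizer_singleton_iff.2 (h1 x b (by simpa using hb)).eq.symm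
    exact (show Commute (χ y) (ψ x) from
      Subgroup.mem_centralizer_singleton_iff.1 (this (huv.symm ▸ Subgroup.mem_top y))).symm

end rels

/-- The field of order `q`. -/
theorem exists_field_of_card_sq (hF : Fintype.card F = q ^ 2) :
    ∃ (K : Type) (_ : Field K) (_ : Fintype K), Fintype.card K = q := by
  obtain ⟨⟨m, hm⟩, hp, hc⟩ := FiniteField.card F (ringChar F)
  haveI := Fact.mk hp
  obtain ⟨j, -, hj⟩ := (Nat.dvd_prime_pow hp).1 (show q ∣ ringChar F ^ m by
    rw [← show Fintype.card F = ringChar F ^ m from hc, hF]; exact dvd_pow_self q two_ne_zero)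
  have hj0 : j ≠ 0 := by
    rintro rfl
    have := Forms.two_le_of_card_sq hF
    simp at hj
    omega
  letI : Fintype (GaloisField (ringChar F) j) := Fintype.ofFinite _
  exact ⟨GaloisField (ringChar F) j, inferInstance, inferInstance, by
    rw [← Nat.card_eq_fintype_card, GaloisField.card _ _ hj0, hj]⟩

/-- `SU_2(q)` has two generators. -/
theorem exists_su2_gens (hF : Fintype.card F = q ^ 2) :
    ∃ u v : Cfsg.SU 2 F q, Subgroup.closure ({u, v} : Set (Cfsg.SU 2 F q)) = ⊤ := by
  obtain ⟨K, iK, iK', hK⟩ := exists_field_of_card_sq hF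
  obtain ⟨e⟩ := Classical.nonempty_SU_two_mulEquiv hF hK
  obtain ⟨a, b, hab⟩ := SpGlue.exists_two_gens K (Fin 2) (by simp)
  refine ⟨e.symm a, e.symm b, ?_⟩
  have := congrArg (Subgroup.map e.symm.toMonoidHom) hab
  rw [MonoidHom.map_closure, Set.image_pair, Subgroup.map_top_of_surjective _ e.symm.surjective] at this
  exact this

theorem sup_eq_top (hF : Fintype.card F = q ^ 2) (hn : 4 ≤ n) (hk : 3 ≤ k) (hkn : k ≤ n) :
    (permSU : alternatingGroup (Fin n) →* Cfsg.SU n F q).range ⊔ (embSU hF (ptEmb hkn)).range = ⊤ := by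
  refine embSU_le_of_triples hF (le34.trans hn) _ fun f => ?_
  obtain ⟨π, hπ⟩ := exists_even_map le23 (le34.trans hn) f
  rw [range_embSU_eq hF f hπ.symm]
  rintro _ ⟨x, rfl⟩
  rw [← conj_embSU, ← ptEmb_trans hk hkn, ← embSU_trans hF]
  refine mul_mem (mul_mem (Subgroup.mem_sup_left ⟨π, rfl⟩) (Subgroup.mem_sup_right ⟨_, rfl⟩))
    (inv_mem (Subgroup.mem_sup_left ⟨π, rfl⟩))

/-- The recognition used to bound the glued group. -/
def Recog (hF : Fintype.card F = q ^ 2) (hn : 4 ≤ n) (hk : 3 ≤ k) (hkn : k ≤ n) : Prop :=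
  ∀ (G : Type u) [Group G] (ρ : alternatingGroup (Fin n) →* G) (β : Cfsg.SU k F q →* G)
    (pr : G →* Cfsg.SU n F q), Rels hF hn hk ρ β → Over hF hkn ρ β pr → ρ.range ⊔ β.range = ⊤ →
      ∃ f : Cfsg.SU n F q →* G, Function.Surjective f

/-- The recognition used to bound the glued group, given extra relators. -/
def RecogEx (hF : Fintype.card F = q ^ 2) (hn : 4 ≤ n) (hk : 3 ≤ k) (hkn : k ≤ n)
    (ex : List (FreeGroup (alternatingGroup (Fin n) ⊕ Cfsg.SU k F q))) : Prop :=
  ∀ (G : Type u) [Group G] (ρ : alternatingGroup (Fin n) →* G) (β : Cfsg.SU k F q →* G)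
    (pr : G →* Cfsg.SU n F q), Rels hF hn hk ρ β → Over hF hkn ρ β pr → ρ.range ⊔ β.range = ⊤ →
      (∀ z ∈ ex, glueEval ρ β z = 1) → ∃ f : Cfsg.SU n F q →* G, Function.Surjective f

/-- At most eight relators glue, apart from given extra ones. -/
theorem pres_su_ex (hF : Fintype.card F = q ^ 2) (hn : 4 ≤ n) (hk : 3 ≤ k) (hkn : k ≤ n)
    (ex : List (FreeGroup (alternatingGroup (Fin n) ⊕ Cfsg.SU k F q)))
    (hex : ∀ z ∈ ex, glueEval (permSU (F := F) (q := q)) (embSU hF (ptEmb hkn)) z = 1)
    (hrec : RecogEx hF hn hk hkn ex) {ιA ιB : Type} {NA : ιA → alternatingGroup (Fin n)} {rA : ℕ}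
    (hA : Pres NA rA) (cA : Subgroup.closure (Set.range NA) = ⊤) {NB : ιB → Cfsg.SU k F q} {rB : ℕ}
    (hB : Pres NB rB) (cB : Subgroup.closure (Set.range NB) = ⊤) :
    ∃ N : ιA ⊕ ιB → Cfsg.SU n F q, Pres N (rA + rB + ((if n = 4 then 6 else 8) + ex.length)) ∧
      Subgroup.closure (Set.range N) = ⊤ := by
  classical
  obtain ⟨u, v, huv⟩ := exists_su2_gens hF
  obtain ⟨ss, hlen, hfix, hgen⟩ := exists_stab hn
  set f2 : Fin 2 ↪ Fin n := ptEmb (le23.trans (le34.trans hn))
  have hf2 : ∀ w : Cfsg.SU 2 F q, embSU hF (ptEmb hkn) (e2 hF hk w) = embSU hF f2 w := fun w => by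
    rw [← MonoidHom.comp_apply, embSU_trans, ptEmb_trans]
  have htr : ∀ (g : alternatingGroup (Fin n)) (w : Cfsg.SU 2 F q), ∃ z, Fixes2 hn g →
      permSU g * embSU hF f2 w * (permSU g)⁻¹ = embSU hF f2 z := by
    intro g w
    by_cases hg : Fixes2 hn g
    · have : (embSU (q := q) hF (f2.trans g.1.toEmbedding)).range = (embSU hF f2).range := by
        refine range_embSU_eq hF _ ?_
        have e : ∀ f : Fin 2 → Fin n, Set.range f = {f 0, f 1} := fun f => by
          ext x; simp [Fin.exists_fin_two, eq_comm]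
        rw [e, e]
        exact hg
      obtain ⟨z, hz⟩ := this.le ⟨w, rfl⟩
      exact ⟨z, fun _ => by rw [conj_embSU, hz]⟩
    · exact ⟨1, fun h => absurd h hg⟩
  choose tr htr using htr
  set φ₁ : alternatingGroup (Fin n) →* Cfsg.SU n F q := permSU
  set φ₂ : Cfsg.SU k F q →* Cfsg.SU n F q := embSU hF (ptEmb hkn)
  set gl := relList hF hn hk ss [u, v] [(u, u), (u, v), (v, v)] tr
    (fun g => (FreeGroup.of (Sum.inl g) : FreeGroup (alternatingGroup (Fin n) ⊕ Cfsg.SU k F q)))
    (fun g => FreeGroup.of (Sum.inr g))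
  have ev : ∀ {X : Type u} [Group X] (A : alternatingGroup (Fin n) →* X) (B : Cfsg.SU k F q →* X),
      gl.map (glueEval A B) = relList hF hn hk ss [u, v] [(u, u), (u, v), (v, v)] tr A B := by
    intro X _ A B
    rw [map_relList]
    simp only [glueEval_inl, glueEval_inr]
  have hgl : ∀ r ∈ gl, glueEval φ₁ φ₂ r = 1 := by
    intro r hr
    have h1 := List.mem_map_of_mem (f := glueEval φ₁ φ₂) hr
    rw [ev] at h1
    simp only [relList, List.mem_cons, List.mem_append, List.mem_flatMap, List.mem_map] at h1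
    rcases h1 with h1 | ⟨g, hg, w, -, h1⟩ | ⟨p, -, h1⟩
    · rw [h1, mul_inv_eq_one]
      symm
      refine embSU_permSU hF (ptEmb hkn) (cyc3 hk) (cyc3 (le34.trans hn)) (fun a => ?_) (fun i hi => ?_)
      · by_cases ha : ∃ j, pt hk j = a
        · obtain ⟨j, rfl⟩ := ha
          rw [cyc3_apply]
          exact cyc3_apply (le34.trans hn) j
        · push Not at ha
          rw [cyc3_off hk ha]
          refine cyc3_off _ fun j e => ha j ?_
          exact (ptEmb hkn).injective e
      · exact cyc3_off _ fun j e => hi (Finset.mem_map.2 ⟨pt hk j, Finset.mem_univ _, e⟩)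
    · rw [← h1, hf2, hf2, mul_inv_eq_one]
      exact htr g w (hfix g hg)
    · rw [← h1, hf2, hf2, conj_embSU, mul_inv_eq_one, mul_inv_eq_iff_eq_mul]
      refine (embSU_commute hF _ _ (fun a b => ?_) _ _).eq
      show pt (le23.trans (le34.trans hn)) a ≠ (dbl hn).1 (pt (le23.trans (le34.trans hn)) b)
      fin_cases b
      · rw [show pt (le23.trans (le34.trans hn)) (⟨0, by omega⟩ : Fin 2) = pt hn 0 from rfl, (dbl_apply hn).1]
        fin_cases a <;> simp [pt, Fin.ext_iff]
      · rw [show pt (le23.trans (le34.trans hn)) (⟨1, by omega⟩ : Fin 2) = pt hn 1 from rfl, (dbl_apply hn).2]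
        fin_cases a <;> simp [pt, Fin.ext_iff]
  have htop : φ₁.range ⊔ φ₂.range = ⊤ := sup_eq_top hF hn hk hkn
  have hlen' : gl.length ≤ (if n = 4 then 6 else 8) := by
    rw [length_relList]
    simp only [List.length_cons, List.length_nil]
    split_ifs at hlen ⊢ with h4 <;> omega
  have hgl' : ∀ z ∈ gl ++ ex, glueEval φ₁ φ₂ z = 1 := fun z hz => (List.mem_append.1 hz).elim (hgl z) (hex z)
  refine ⟨_, (combine hA cA hB cB φ₁ φ₂ (gl ++ ex) hgl' (recon_of_proj φ₁ φ₂ htop (gl ++ ex) hgl' ?_)).mono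
    (Nat.add_le_add_left (by rw [List.length_append]; omega) _), range_sum_elim cA cB φ₁ φ₂ htop⟩
  intro G _ A B pr h1 h2 hG hsup
  refine hrec G A B pr (rels_of_relList (tr := tr) hgen huv fun x hx => ?_)
    ⟨fun π => DFunLike.congr_fun h1 π, fun a => DFunLike.congr_fun h2 a⟩ hsup
    (fun z hz => hG z (List.mem_append_right _ hz))
  rw [← ev] at hx
  obtain ⟨r', hr', rfl⟩ := List.mem_map.1 hx
  exact hG r' (List.mem_append_left _ hr')

/-- At most eight relators glue. -/
theorem pres_su (hF : Fintype.card F = q ^ 2) (hn : 4 ≤ n) (hk : 3 ≤ k) (hkn : k ≤ n)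
    (hrec : Recog hF hn hk hkn) {ιA ιB : Type} {NA : ιA → alternatingGroup (Fin n)} {rA : ℕ}
    (hA : Pres NA rA) (cA : Subgroup.closure (Set.range NA) = ⊤) {NB : ιB → Cfsg.SU k F q} {rB : ℕ}
    (hB : Pres NB rB) (cB : Subgroup.closure (Set.range NB) = ⊤) :
    ∃ N : ιA ⊕ ιB → Cfsg.SU n F q, Pres N (rA + rB + (if n = 4 then 6 else 8)) ∧
      Subgroup.closure (Set.range N) = ⊤ := by
  simpa using pres_su_ex hF hn hk hkn [] (by simp) (fun G _ ρ β pr R O hgen _ => hrec G ρ β pr R O hgen) hA cA hB cB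

/-- Recognition from a weak Phan system, for the block on three coordinates. -/
theorem recog_of_phan {n q : ℕ} (hF : Fintype.card F = q ^ 2) (hn : 4 ≤ n + 1)
    (hphan : ∀ (G : Type u) [Group G], PhanData (G := G) n F q →
      ∃ f : Cfsg.SU (n + 1) F q →* G, Function.Surjective f) :
    Recog hF hn (le_refl 3) (le34.trans hn) := by
  intro G _ ρ β pr R O hgen
  obtain ⟨D⟩ := nonempty_phanData hF hn (le_refl 3) (le34.trans hn) R O hgen (fun L _ hL => by
    refine le_trans ?_ hL
    rintro _ ⟨x, rfl⟩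
    refine ⟨x, ?_⟩
    rw [Phi_apply, map_one, one_mul, inv_one, mul_one]
    congr 1
    apply su_ext
    rw [mat_embSU]
    have : ∀ a, ptEmb (le_refl 3) a = a := fun a => rfl
    show 1 + sel F (ptEmb (le_refl 3)) * (mat x - 1) * (sel F (ptEmb (le_refl 3)))ᵀ = _
    have hs : sel F (ptEmb (le_refl 3)) = 1 := Matrix.ext_of_mulVec_single fun a => by
      rw [sel_single, one_mulVec, this]
    rw [hs, Matrix.transpose_one, one_mul, mul_one, add_sub_cancel])
  exact hphan G D

end Cfsg.Agent.Lib.SUPres
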