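import Cfsg.Agent.Lib.SUPres.Pres
import Cfsg.Agent.Lib.SUPres.Lift
import Cfsg.Agent.Lib.Phan.Main

/-!
Recognition of the glued group for `q > 3`.
-/

set_option autoImplicit false

namespace Cfsg.Agent.Lib.SUPres

open Equiv

universe u

theorem recog_three {F : Type u} [Field F] [Fintype F] {n q : ℕ} (hF : Fintype.card F = q ^ 2) (hq : 3 < q)
    (hn : 4 ≤ n) : Recog hF hn (le_refl 3) (le34.trans hn) := by
  classical
  intro G _ ρ β pr R O hgen
  obtain ⟨m, rfl⟩ : ∃ m, n = m + 3 := ⟨n - 3, by omega⟩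
  choose τ hτ using fun (i : ℕ) (hi : i + 1 < m + 3) => exists_pair hn i hi
  choose π hπ using fun (i : ℕ) (hi : i + 2 < m + 3) => exists_triple hn i hi
  set PP : alternatingGroup (Fin (m + 3)) → Subgroup G := fun g => (phi hF (le_refl 3) ρ β g).range
  set TT : alternatingGroup (Fin (m + 3)) → Subgroup G := fun g => (Phi hF (le_refl 3) ρ β g).range
  have hu : ∀ (i : ℕ) (hi : i + 1 < m + 3), ∃ u : Cfsg.SU 2 F q →* G,
      (∀ x, u x ∈ PP (τ i hi)) ∧ ∀ x, pr (u x) = embSU hF (ivEmb i (show i + 2 ≤ m + 3 by omega)) x := by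
    intro i hi
    refine exists_lift pr _ (injOn_phi O _) _ ?_
    rw [map_phi O]
    refine (range_embSU_eq hF _ ?_).le
    have e : ∀ f : Fin 2 → Fin (m + 3), Set.range f = {f 0, f 1} := fun f => by
      ext x; simp [Fin.exists_fin_two, eq_comm]
    rw [e, e]
    exact (hτ i hi).symm
  have hφ : ∀ (i : ℕ) (hi : i + 2 < m + 3), ∃ φ : Cfsg.SU 3 F q →* G,
      (∀ x, φ x ∈ TT (π i hi)) ∧ ∀ x, pr (φ x) = embSU hF (ivEmb i (show i + 3 ≤ m + 3 by omega)) x := by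
    intro i hi
    refine exists_lift pr _ (injOn_Phi O _) _ ?_
    rw [map_Phi O]
    refine (range_embSU_eq hF _ ?_).le
    obtain ⟨m1, h⟩ := hπ i hi
    have e : ∀ f : Fin 3 → Fin (m + 3), Set.range f = {f 0, f 1, f 2} := fun f => by
      ext x; simp [Fin.exists_fin_succ, eq_comm]
    rw [e, e]
    show ({(⟨i + 0, _⟩ : Fin (m + 3)), ⟨i + 1, _⟩, ⟨i + 2, _⟩} : Set (Fin (m + 3))) =
      {(π i hi).1 (pt hn 0), (π i hi).1 (pt hn 1), (π i hi).1 (pt hn 2)}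
    rcases h with ⟨h0, h2⟩ | ⟨h0, h2⟩ <;> rw [h0, m1, h2]
    · rfl
    · ext x; simp only [Set.mem_insert_iff, Set.mem_singleton_iff, Nat.add_zero]; tauto
  choose u hu1 hu2 using hu
  choose φ hφ1 hφ2 using hφ
  let U : ℕ → (Cfsg.SU 2 F q →* G) := fun i => if h : i + 1 < m + 3 then u i h else 1
  let Φ' : ℕ → (Cfsg.SU 3 F q →* G) := fun i => if h : i + 2 < m + 3 then φ i h else 1
  have sub : ∀ (i j : ℕ) (hi : i + 2 < m + 3) (hj : j + 1 < m + 3), i ≤ j → j ≤ i + 1 →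
      PP (τ j hj) ≤ TT (π i hi) := by
    intro i j hi hj h1 h2
    refine phi_le_Phi R _ _ fun b hb => ?_
    rw [hτ j hj] at hb
    obtain ⟨m1, h⟩ := hπ i hi
    have q0 : (π i hi).1 (pt (le34.trans hn) 0) = (π i hi).1 (pt hn 0) := rfl
    have q1 : (π i hi).1 (pt (le34.trans hn) 1) = (π i hi).1 (pt hn 1) := rfl
    have q2 : (π i hi).1 (pt (le34.trans hn) 2) = (π i hi).1 (pt hn 2) := rfl
    have hb' : (b : ℕ) = i ∨ (b : ℕ) = i + 1 ∨ (b : ℕ) = i + 2 := by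
      rcases hb with rfl | rfl <;> simp <;> omega
    rcases h with ⟨h0, h2'⟩ | ⟨h0, h2'⟩ <;> rcases hb' with e | e | e
    · exact ⟨0, by rw [q0, h0]; exact Fin.ext e.symm⟩
    · exact ⟨1, by rw [q1, m1]; exact Fin.ext e.symm⟩
    · exact ⟨2, by rw [q2, h2']; exact Fin.ext e.symm⟩
    · exact ⟨2, by rw [q2, h2']; exact Fin.ext e.symm⟩
    · exact ⟨1, by rw [q1, m1]; exact Fin.ext e.symm⟩
    · exact ⟨0, by rw [q0, h0]; exact Fin.ext e.symm⟩
  have h0 : ∀ i ≤ m, ∀ x, Φ' i (Phan.blk hF 0 (show 0 + 2 ≤ 3 by omega) x) = U i x := by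
    intro i hi x
    have h1 : i + 2 < m + 3 := by omega
    have h2 : i + 1 < m + 3 := by omega
    simp only [Φ', U, dif_pos h1, dif_pos h2]
    refine injOn_Phi O _ _ (hφ1 i h1 _) _ (sub i i h1 h2 le_rfl (by omega) (hu1 i h2 x)) ?_
    rw [hφ2, hu2, blk_eq_embSU, ← MonoidHom.comp_apply, embSU_trans]
    congr 2
    ext a; simp [ivEmb, Phan.sh]
  have h1 : ∀ i ≤ m, ∀ x, Φ' i (Phan.blk hF 1 (show 1 + 2 ≤ 3 by omega) x) = U (i + 1) x := by
    intro i hi x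
    have h1 : i + 2 < m + 3 := by omega
    have h2 : i + 1 + 1 < m + 3 := by omega
    simp only [Φ', U, dif_pos h1, dif_pos h2]
    refine injOn_Phi O _ _ (hφ1 i h1 _) _ (sub i (i + 1) h1 h2 (by omega) le_rfl (hu1 (i + 1) h2 x)) ?_
    rw [hφ2, hu2, blk_eq_embSU, ← MonoidHom.comp_apply, embSU_trans]
    congr 2
    ext a; simp [ivEmb, Phan.sh, add_assoc]
  have hcomm : ∀ i j, i + 2 ≤ j → j ≤ m + 1 → ∀ x y, U i x * U j y = U j y * U i x := by
    intro i j hij hj x y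
    have h1 : i + 1 < m + 3 := by omega
    have h2 : j + 1 < m + 3 := by omega
    simp only [U, dif_pos h1, dif_pos h2]
    refine range_phi_commute R _ _ ?_ _ (hu1 i h1 x) _ (hu1 j h2 y)
    rw [hτ, hτ]
    simp [Fin.ext_iff]
    omega
  obtain ⟨Φ, hΦ⟩ := Phan.exists_amalgam hF hq m Φ' U h0 h1 hcomm
  refine ⟨Φ, MonoidHom.range_eq_top.1 (eq_top_of_blocks R hgen _
    (fun h => (beta_le_Phi_one hF ρ β).trans h) fun i hi => ⟨π i hi, (hπ i hi).1, (hπ i hi).2, ?_⟩)⟩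
  intro y hy
  obtain ⟨x, hx⟩ : ∃ x, φ i hi x = y := by
    obtain ⟨m1, h⟩ := hπ i hi
    have hr : (embSU hF ((ptEmb (le34.trans hn)).trans (π i hi).1.toEmbedding)).range =
        (embSU (q := q) hF (ivEmb i (show i + 3 ≤ m + 3 by omega))).range := by
      refine range_embSU_eq hF _ ?_
      have e : ∀ f : Fin 3 → Fin (m + 3), Set.range f = {f 0, f 1, f 2} := fun f => by
        ext x; simp [Fin.exists_fin_succ, eq_comm]
      rw [e, e]
      show {(π i hi).1 (pt hn 0), (π i hi).1 (pt hn 1), (π i hi).1 (pt hn 2)} =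
        ({(⟨i + 0, _⟩ : Fin (m + 3)), ⟨i + 1, _⟩, ⟨i + 2, _⟩} : Set (Fin (m + 3)))
      rcases h with ⟨h0, h2⟩ | ⟨h0, h2⟩ <;> rw [h0, m1, h2]
      · rfl
      · ext x; simp only [Set.mem_insert_iff, Set.mem_singleton_iff, Nat.add_zero]; tauto
    have hp : pr y ∈ (TT (π i hi)).map pr := Subgroup.mem_map_of_mem pr hy
    rw [show (TT (π i hi)).map pr = _ from map_Phi O (π i hi), hr] at hp
    obtain ⟨x, hx⟩ := hp
    exact ⟨x, injOn_Phi O _ _ (hφ1 i hi x) _ hy (by rw [hφ2, hx])⟩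
  refine ⟨Phan.blk hF i (show i + 3 ≤ m + 3 by omega) x, ?_⟩
  rw [hΦ, ← hx]
  simp only [Φ', dif_pos hi]

end Cfsg.Agent.Lib.SUPres
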