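import Cfsg.Agent.Lib.SUPres.Pres
import Cfsg.Agent.Lib.SUPres.Lift
import Cfsg.Agent.Lib.PhanWeak91.Glue

/-!
Recognition of the glued group from windows of four coordinates, any `q`.
-/

set_option autoImplicit false
set_option linter.unusedSectionVars false

namespace Cfsg.Agent.Lib.SUPres

open Equiv

universe u v

/-- An even permutation of the first four points, extended. -/
noncomputable def liftAlt {n : ℕ} (hn : 4 ≤ n) : alternatingGroup (Fin 4) →* alternatingGroup (Fin n) where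
  toFun g := ⟨g.1.extendDomain (Equiv.ofInjective (ptEmb hn) (ptEmb hn).injective), by
    rw [Perm.mem_alternatingGroup, Perm.sign_extendDomain]; exact Perm.mem_alternatingGroup.1 g.2⟩
  map_one' := Subtype.ext (Perm.extendDomain_one _)
  map_mul' g g' := Subtype.ext (Perm.extendDomain_mul _ _ _).symm

theorem liftAlt_pt {n : ℕ} (hn : 4 ≤ n) (g : alternatingGroup (Fin 4)) (i : Fin 4) :
    (liftAlt hn g).1 (pt hn i) = pt hn (g.1 i) := by
  show g.1.extendDomain _ (((Equiv.ofInjective (ptEmb hn) (ptEmb hn).injective) i : Set.range (ptEmb hn)) : Fin n) = _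
  rw [Perm.extendDomain_apply_image]
  rfl

theorem liftAlt_off {n : ℕ} (hn : 4 ≤ n) (g : alternatingGroup (Fin 4)) {x : Fin n}
    (hx : ∀ i, pt hn i ≠ x) : (liftAlt hn g).1 x = x :=
  Perm.extendDomain_apply_not_subtype _ _ fun ⟨i, hi⟩ => hx i hi

variable {F : Type v} [Field F] [Fintype F] {n q : ℕ}

/-- Same-set block as a supported subgroup. -/
theorem supp_eq_range (hF : Fintype.card F = q ^ 2) {a m : ℕ} {s : Set (Fin m)} (f : Fin a ↪ Fin m)
    (h : s = Set.range f) : PhanWeak91.supp (F := F) (q := q) s = (embSU hF f).range := by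
  rw [← PhanWeak91.suBlock_eq hF s, suBlock_eq hF f h]

/-- Hypotheses on the glued group giving windows. -/
structure WinHyp (hF : Fintype.card F = q ^ 2) (hn : 4 ≤ n) {G : Type u} [Group G]
    (ρ : alternatingGroup (Fin n) →* G) (β : Cfsg.SU 3 F q →* G) (pr : G →* Cfsg.SU n F q) : Prop where
  win : ∃ Θ : Cfsg.SU 4 F q →* G, (∀ x, pr (Θ x) = embSU hF (ptEmb hn) x) ∧ β.range ≤ Θ.range ∧
    ∀ g, ρ (liftAlt hn g) ∈ Θ.range
  tri : ∀ g : alternatingGroup (Fin n),
    Set.range ((ptEmb (le34.trans hn)).trans g.1.toEmbedding) = Set.range (ptEmb (le34.trans hn)) →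
      ∀ x, ρ g * β x * (ρ g)⁻¹ ∈ β.range
  uv : ∀ g : alternatingGroup (Fin n),
    (∀ a b, g.1 (pt (le23.trans (le34.trans hn)) a) ≠ pt (le34.trans hn) b) →
      ∀ x ∈ (phi hF (le_refl 3) ρ β g).range, ∀ y ∈ β.range, x * y = y * x
  vv : ∀ g : alternatingGroup (Fin n),
    (∀ a b, g.1 (pt (le34.trans hn) a) ≠ pt (le34.trans hn) b) →
      ∀ x ∈ (Phi hF (le_refl 3) ρ β g).range, ∀ y ∈ β.range, x * y = y * x

theorem surjective_of_windows (hF : Fintype.card F = q ^ 2) (hn : 4 ≤ n) {G : Type u} [Group G]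
    {ρ : alternatingGroup (Fin n) →* G} {β : Cfsg.SU 3 F q →* G} {pr : G →* Cfsg.SU n F q}
    (R : Rels hF hn (le_refl 3) ρ β) (O : Over hF (le34.trans hn) ρ β pr) (hgen : ρ.range ⊔ β.range = ⊤)
    (W : WinHyp hF hn ρ β pr) : ∃ f : Cfsg.SU n F q →* G, Function.Surjective f := by
  classical
  obtain ⟨Θ, hΘ, hβΘ, hρΘ⟩ := W.win
  have n3 := le34.trans hn
  have n2 := le23.trans n3
  set PP : alternatingGroup (Fin n) → Subgroup G := fun g => (phi hF (le_refl 3) ρ β g).range with hPP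
  set TT : alternatingGroup (Fin n) → Subgroup G := fun g => (Phi hF (le_refl 3) ρ β g).range with hTT
  have hβ1 : TT 1 = β.range := by
    refine le_antisymm ?_ (beta_le_Phi_one hF ρ β)
    rintro _ ⟨x, rfl⟩
    rw [Phi_apply, map_one, one_mul, inv_one, mul_one]
    exact ⟨_, rfl⟩
  -- translates of the triple block depend on the set only
  have tt_le : ∀ π π' : alternatingGroup (Fin n),
      Set.range ((ptEmb n3).trans π.1.toEmbedding) = Set.range ((ptEmb n3).trans π'.1.toEmbedding) →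
        TT π ≤ TT π' := by
    rintro π π' h _ ⟨x, rfl⟩
    have hs : Set.range ((ptEmb n3).trans (π'⁻¹ * π).1.toEmbedding) = Set.range (ptEmb n3) := by
      have := congrArg (fun s => ⇑((π'.1)⁻¹) '' s) h
      simp only [← Set.range_comp] at this
      convert this using 2 <;> (funext i; simp [Perm.mul_apply])
    obtain ⟨y, hy⟩ := hβ1.ge (W.tri _ hs (embSU hF (ptEmb (le_refl 3)) x))
    refine ⟨y, ?_⟩
    rw [Phi_apply, map_one, one_mul, inv_one, mul_one] at hy
    rw [Phi_apply, Phi_apply, hy, map_mul, map_inv]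
    group
  -- block translates inside the window
  set RR : alternatingGroup (Fin n) → Subgroup G := fun g => ((MulAut.conj (ρ g)).toMonoidHom.comp Θ).range
  have pr_RR : ∀ (g : alternatingGroup (Fin n)) x,
      pr ((MulAut.conj (ρ g)).toMonoidHom.comp Θ x) = embSU hF ((ptEmb hn).trans g.1.toEmbedding) x := by
    intro g x
    show pr (ρ g * Θ x * (ρ g)⁻¹) = _
    rw [map_mul, map_mul, map_inv, O.alt, hΘ, conj_embSU]
  have injRR : ∀ g, ∀ x ∈ RR g, ∀ y ∈ RR g, pr x = pr y → x = y := by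
    rintro g _ ⟨a, rfl⟩ _ ⟨b, rfl⟩ h
    rw [pr_RR, pr_RR] at h
    rw [embSU_injective hF _ h]
  have pp_RR : ∀ (g π : alternatingGroup (Fin n)),
      Set.range ((ptEmb n2).trans π.1.toEmbedding) ⊆ Set.range ((ptEmb hn).trans g.1.toEmbedding) →
        PP π ≤ RR g := by
    intro g π hs
    choose e he using fun a : Fin 2 => hs ⟨a, rfl⟩
    obtain ⟨h, hh⟩ := exists_even_map (le_refl 2) (show 2 ≤ 4 by norm_num) ⟨e, fun a b hab => by
      have := (he a).symm.trans ((congrArg _ hab).trans (he b))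
      exact ((ptEmb n2).trans π.1.toEmbedding).injective this⟩
    have e2 : Set.range ((ptEmb n2).trans (g * liftAlt hn h).1.toEmbedding) =
        Set.range ((ptEmb n2).trans π.1.toEmbedding) := by
      have : ∀ a, g.1 ((liftAlt hn h).1 (pt n2 a)) = g.1 (pt hn (h.1 (pt (show 2 ≤ 4 by norm_num) a))) := fun a => by
        rw [← liftAlt_pt hn h]; rfl
      ext x
      constructor
      · rintro ⟨a, rfl⟩
        obtain ⟨b, hb⟩ := hh.le ⟨a, rfl⟩
        refine ⟨b, ?_⟩
        rw [← he b]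
        show g.1 (pt hn (e b)) = g.1 ((liftAlt hn h).1 (pt n2 a))
        rw [this]
        exact congrArg (fun z => g.1 (pt hn z)) hb
      · rintro ⟨b, rfl⟩
        obtain ⟨a, ha⟩ := hh.ge ⟨b, rfl⟩
        refine ⟨a, ?_⟩
        rw [← he b]
        show g.1 ((liftAlt hn h).1 (pt n2 a)) = g.1 (pt hn (e b))
        rw [this]
        exact congrArg (fun z => g.1 (pt hn z)) ha
    have e3 : ∀ f : Fin 2 → Fin n, Set.range f = {f 0, f 1} := fun f => by
      ext x; simp [Fin.exists_fin_two, eq_comm]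
    rw [e3, e3] at e2
    refine (range_phi_eq R (π := π) (π' := g * liftAlt hn h) e2.symm).le.trans ?_
    rintro _ ⟨x, rfl⟩
    have hm : ρ (liftAlt hn h) * psi hF (le_refl 3) β x * (ρ (liftAlt hn h))⁻¹ ∈ Θ.range :=
      mul_mem (mul_mem (hρΘ h) (hβΘ ⟨_, rfl⟩)) (inv_mem (hρΘ h))
    obtain ⟨y, hy⟩ := hm
    refine ⟨y, ?_⟩
    show ρ g * Θ y * (ρ g)⁻¹ = _
    rw [hy, phi_apply, map_mul]
    group
  have tt_RR : ∀ (g π : alternatingGroup (Fin n)),
      Set.range ((ptEmb n3).trans π.1.toEmbedding) ⊆ Set.range ((ptEmb hn).trans g.1.toEmbedding) →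
        TT π ≤ RR g := by
    intro g π hs
    choose e he using fun a : Fin 3 => hs ⟨a, rfl⟩
    obtain ⟨h, hh⟩ := exists_even_map (show 2 ≤ 3 by norm_num) le34 ⟨e, fun a b hab => by
      have := (he a).symm.trans ((congrArg _ hab).trans (he b))
      exact ((ptEmb n3).trans π.1.toEmbedding).injective this⟩
    have e2 : Set.range ((ptEmb n3).trans (g * liftAlt hn h).1.toEmbedding) =
        Set.range ((ptEmb n3).trans π.1.toEmbedding) := by
      have : ∀ a, g.1 ((liftAlt hn h).1 (pt n3 a)) = g.1 (pt hn (h.1 (pt le34 a))) := fun a => by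
        rw [← liftAlt_pt hn h]; rfl
      ext x
      constructor
      · rintro ⟨a, rfl⟩
        obtain ⟨b, hb⟩ := hh.le ⟨a, rfl⟩
        refine ⟨b, ?_⟩
        rw [← he b]
        show g.1 (pt hn (e b)) = g.1 ((liftAlt hn h).1 (pt n3 a))
        rw [this]
        exact congrArg (fun z => g.1 (pt hn z)) hb
      · rintro ⟨b, rfl⟩
        obtain ⟨a, ha⟩ := hh.ge ⟨b, rfl⟩
        refine ⟨a, ?_⟩
        rw [← he b]
        show g.1 ((liftAlt hn h).1 (pt n3 a)) = g.1 (pt hn (e b))
        rw [this]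
        exact congrArg (fun z => g.1 (pt hn z)) ha
    refine (tt_le π (g * liftAlt hn h) e2.symm).trans ?_
    rintro _ ⟨x, rfl⟩
    have hm : ρ (liftAlt hn h) * β (embSU hF (ptEmb (le_refl 3)) x) * (ρ (liftAlt hn h))⁻¹ ∈ Θ.range :=
      mul_mem (mul_mem (hρΘ h) (hβΘ ⟨_, rfl⟩)) (inv_mem (hρΘ h))
    obtain ⟨y, hy⟩ := hm
    refine ⟨y, ?_⟩
    show ρ g * Θ y * (ρ g)⁻¹ = _
    rw [hy, Phi_apply, map_mul]
    group
  -- representatives
  choose σ hσ using fun (i : ℕ) (hi : i + 4 ≤ n) =>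
    exists_even_map (show 2 ≤ 4 by norm_num) hn (ivEmb i hi)
  choose τ hτ using fun (i : ℕ) (hi : i + 2 ≤ n) => exists_even_map (le_refl 2) n2 (ivEmb i hi)
  choose π hπ using fun (i : ℕ) (hi : i + 2 < n) => exists_triple hn i hi
  have hπs : ∀ i (hi : i + 2 < n), Set.range ((ptEmb n3).trans (π i hi).1.toEmbedding) =
      Set.range (ivEmb i (show i + 3 ≤ n by omega)) := by
    intro i hi
    obtain ⟨m1, h⟩ := hπ i hi
    have e : ∀ f : Fin 3 → Fin n, Set.range f = {f 0, f 1, f 2} := fun f => by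
      ext x; simp [Fin.exists_fin_succ, eq_comm]
    rw [e, e]
    show {(π i hi).1 (pt hn 0), (π i hi).1 (pt hn 1), (π i hi).1 (pt hn 2)} =
      ({(⟨i + 0, _⟩ : Fin n), ⟨i + 1, _⟩, ⟨i + 2, _⟩} : Set (Fin n))
    rcases h with ⟨h0, h2⟩ | ⟨h0, h2⟩ <;> rw [h0, m1, h2]
    · rfl
    · ext x; simp only [Set.mem_insert_iff, Set.mem_singleton_iff, Nat.add_zero]; tauto
  have hiv : ∀ (a o : ℕ) (h : o + a ≤ n), Set.range (ivEmb o h) = PhanWeak91.iv (m := n) o a :=
    fun a o h => PhanWeak91.range_ivf o a h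
  -- window homomorphisms
  have hh : ∀ (i : ℕ) (hi : i + 4 ≤ n), ∃ φ : Cfsg.SU 4 F q →* G,
      (∀ x, φ x ∈ RR (σ i hi)) ∧ ∀ x, pr (φ x) = PhanWeak91.win i hi x := by
    intro i hi
    refine exists_lift pr _ (injRR _) _ ?_
    rw [PhanWeak91.range_win hF, MonoidHom.map_range,
      supp_eq_range hF ((ptEmb hn).trans (σ i hi).1.toEmbedding) ((hiv 4 i hi).symm.trans (hσ i hi).symm)]
    rintro _ ⟨x, rfl⟩
    exact ⟨x, pr_RR _ x⟩
  choose φ hφ1 hφ2 using hh
  let U : ℕ → Subgroup G := fun a => if h : a + 2 ≤ n then PP (τ a h) else ⊥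
  let V : ℕ → Subgroup G := fun c => if h : c + 2 < n then TT (π c h) else ⊥
  have mapU : ∀ i (hi : i + 4 ≤ n) j, j ≤ 2 → ∀ B ∈ PhanWeak91.supp (F := F) (q := q)
      (PhanWeak91.iv j 2 : Set (Fin 4)), φ i hi B ∈ U (i + j) := by
    intro i hi j hj B hB
    have h2 : i + j + 2 ≤ n := by omega
    simp only [U, dif_pos h2]
    rw [← PhanWeak91.range_ivf j 2 (show j + 2 ≤ 4 by omega), ← PhanWeak91.range_emb hF
      (PhanWeak91.ivf_injective j 2 _)] at hB
    obtain ⟨x, rfl⟩ := hB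
    have hsub : PP (τ (i + j) h2) ≤ RR (σ i hi) := by
      refine pp_RR _ _ ?_
      rw [hτ, hσ, hiv, hiv]
      exact PhanWeak91.iv_sub (by omega) (by omega)
    have hm : pr (φ i hi (PhanWeak91.emb _ (PhanWeak91.ivf_injective j 2 (show j + 2 ≤ 4 by omega)) x)) ∈
        (PP (τ (i + j) h2)).map pr := by
      rw [hPP, map_phi O, ← supp_eq_range hF _ (show PhanWeak91.iv (i + j) 2 = _ from
        (hiv 2 (i + j) h2).symm.trans (hτ _ h2).symm), hφ2, PhanWeak91.win, PhanWeak91.emb_comp]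
      refine PhanWeak91.supp_mono ?_ (PhanWeak91.emb_mem_supp _ x)
      rintro _ ⟨a, rfl⟩
      simp [PhanWeak91.iv, PhanWeak91.ivf]
      omega
    obtain ⟨z, hz, e⟩ := hm
    exact injRR _ _ (hsub hz) _ (hφ1 i hi _) e ▸ hz
  have mapV : ∀ i (hi : i + 4 ≤ n) j, j ≤ 1 → ∀ B ∈ PhanWeak91.supp (F := F) (q := q)
      (PhanWeak91.iv j 3 : Set (Fin 4)), φ i hi B ∈ V (i + j) := by
    intro i hi j hj B hB
    have h2 : i + j + 2 < n := by omega
    simp only [V, dif_pos h2]
    rw [← PhanWeak91.range_ivf j 3 (show j + 3 ≤ 4 by omega), ← PhanWeak91.range_emb hF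
      (PhanWeak91.ivf_injective j 3 _)] at hB
    obtain ⟨x, rfl⟩ := hB
    have hsub : TT (π (i + j) h2) ≤ RR (σ i hi) := by
      refine tt_RR _ _ ?_
      rw [hπs, hσ, hiv, hiv]
      exact PhanWeak91.iv_sub (by omega) (by omega)
    have hm : pr (φ i hi (PhanWeak91.emb _ (PhanWeak91.ivf_injective j 3 (show j + 3 ≤ 4 by omega)) x)) ∈
        (TT (π (i + j) h2)).map pr := by
      rw [hTT, map_Phi O, ← supp_eq_range hF _ (show PhanWeak91.iv (i + j) 3 = _ from
        (hiv 3 (i + j) (by omega)).symm.trans (hπs _ h2).symm), hφ2, PhanWeak91.win, PhanWeak91.emb_comp]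
      refine PhanWeak91.supp_mono ?_ (PhanWeak91.emb_mem_supp _ x)
      rintro _ ⟨a, rfl⟩
      simp [PhanWeak91.iv, PhanWeak91.ivf]
      omega
    obtain ⟨z, hz, e⟩ := hm
    exact injRR _ _ (hsub hz) _ (hφ1 i hi _) e ▸ hz
  let D : PhanWeak91.Windows n F q G :=
    { h := φ
      U := U
      V := V
      mapU := mapU
      mapV := mapV
      agree := by
        intro i hi hi' B
        have m1 := mapV i hi 1 le_rfl _ (by
          rw [← PhanWeak91.range_ivf 1 3 (show 1 + 3 ≤ 4 by norm_num)]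
          exact PhanWeak91.emb_mem_supp (PhanWeak91.ivf_injective 1 3 (by norm_num)) B)
        have m2 := mapV (i + 1) hi' 0 (Nat.zero_le _) _ (by
          rw [← PhanWeak91.range_ivf 0 3 (show 0 + 3 ≤ 4 by norm_num)]
          exact PhanWeak91.emb_mem_supp (PhanWeak91.ivf_injective 0 3 (by norm_num)) B)
        have h2 : i + 1 + 2 < n := by omega
        change _ ∈ V (i + 1) at m2
        simp only [V, dif_pos h2] at m1 m2
        refine injOn_Phi O _ _ m1 _ m2 ?_
        rw [hφ2, hφ2, PhanWeak91.win, PhanWeak91.win, PhanWeak91.emb_comp, PhanWeak91.emb_comp]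
        congr 2
        funext a
        simp [PhanWeak91.ivf, Nat.add_assoc]
      commUV := by
        intro a c ha hc hac x hx y hy
        simp only [U, V, dif_pos ha, dif_pos (show c + 2 < n by omega)] at hx hy
        obtain ⟨x', rfl⟩ := hx
        obtain ⟨y', rfl⟩ := hy
        set πc := π c (show c + 2 < n by omega)
        have := W.uv (πc⁻¹ * τ a ha) (fun s b e => by
          have e' : (τ a ha).1 (pt n2 s) = πc.1 (pt n3 b) := by
            rw [← e]; simp [Perm.mul_apply]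
          have h1 : (τ a ha).1 (pt n2 s) ∈ PhanWeak91.iv (m := n) a 2 := by
            rw [← hiv 2 a ha, ← hτ a ha]; exact ⟨s, rfl⟩
          have h2 : πc.1 (pt n3 b) ∈ PhanWeak91.iv (m := n) c 3 := by
            rw [← hiv 3 c (by omega), ← hπs c (by omega)]; exact ⟨b, rfl⟩
          rw [e'] at h1
          simp only [PhanWeak91.iv, Set.mem_setOf_eq] at h1 h2
          omega) _ ⟨x', rfl⟩ _ ⟨embSU hF (ptEmb (le_refl 3)) y', rfl⟩
        have h' := congrArg (MulAut.conj (ρ πc)) this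
        simp only [map_mul, MulAut.conj_apply] at h'
        rw [Phi_apply, phi_apply]
        rw [phi_apply, map_mul, map_inv] at h'
        convert h' using 1 <;> group
      commVV := by
        intro a c hc hac x hx y hy
        simp only [V, dif_pos (show a + 2 < n by omega), dif_pos (show c + 2 < n by omega)] at hx hy
        obtain ⟨x', rfl⟩ := hx
        obtain ⟨y', rfl⟩ := hy
        set πa := π a (show a + 2 < n by omega)
        set πc := π c (show c + 2 < n by omega)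
        have := W.vv (πc⁻¹ * πa) (fun s b e => by
          have e' : πa.1 (pt n3 s) = πc.1 (pt n3 b) := by
            rw [← e]; simp [Perm.mul_apply]
          have h1 : πa.1 (pt n3 s) ∈ PhanWeak91.iv (m := n) a 3 := by
            rw [← hiv 3 a (by omega), ← hπs a (by omega)]; exact ⟨s, rfl⟩
          have h2 : πc.1 (pt n3 b) ∈ PhanWeak91.iv (m := n) c 3 := by
            rw [← hiv 3 c (by omega), ← hπs c (by omega)]; exact ⟨b, rfl⟩
          rw [e'] at h1
          simp only [PhanWeak91.iv, Set.mem_setOf_eq] at h1 h2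
          omega) _ ⟨x', rfl⟩ _ ⟨embSU hF (ptEmb (le_refl 3)) y', rfl⟩
        have h' := congrArg (MulAut.conj (ρ πc)) this
        simp only [map_mul, MulAut.conj_apply] at h'
        rw [Phi_apply, Phi_apply]
        rw [Phi_apply, map_mul, map_inv] at h'
        convert h' using 1 <;> group }
  obtain ⟨f, hf⟩ := D.exists_hom hF hn
  refine ⟨f, MonoidHom.range_eq_top.1 (eq_top_of_blocks R hgen _
    (fun h => (beta_le_Phi_one hF ρ β).trans h) fun c hc => ⟨π c hc, (hπ c hc).1, (hπ c hc).2, ?_⟩)⟩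
  intro y hy
  obtain ⟨i, j, hi, hj, hij⟩ : ∃ i j, i + 4 ≤ n ∧ j ≤ 1 ∧ i + j = c := by
    rcases Nat.lt_or_ge c (n - 3) with h | h
    · exact ⟨c, 0, by omega, Nat.zero_le _, rfl⟩
    · exact ⟨n - 4, 1, by omega, le_rfl, by omega⟩
  subst hij
  have hp : pr y ∈ (TT (π (i + j) hc)).map pr := Subgroup.mem_map_of_mem pr hy
  rw [hTT, map_Phi O, ← supp_eq_range hF _ (show PhanWeak91.iv (i + j) 3 = _ from
        (hiv 3 (i + j) (by omega)).symm.trans (hπs _ hc).symm),
    ← hiv 3 (i + j) (by omega)] at hp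
  have hcomp : ∀ a : Fin 3, ivEmb (i + j) (show i + j + 3 ≤ n by omega) a =
      PhanWeak91.ivf i 4 hi (PhanWeak91.ivf j 3 (show j + 3 ≤ 4 by omega) a) := fun a =>
    Fin.ext (by simp [ivEmb, Phan.sh, PhanWeak91.ivf, Nat.add_assoc])
  rw [show Set.range (ivEmb (i + j) (show i + j + 3 ≤ n by omega)) =
    Set.range (PhanWeak91.ivf i 4 hi ∘ PhanWeak91.ivf j 3 (show j + 3 ≤ 4 by omega)) from
      congrArg Set.range (funext hcomp), ← PhanWeak91.range_emb hF
        ((PhanWeak91.ivf_injective i 4 hi).comp (PhanWeak91.ivf_injective j 3 _))] at hp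
  obtain ⟨x, hx⟩ := hp
  rw [← PhanWeak91.emb_comp (PhanWeak91.ivf_injective i 4 hi)
    (PhanWeak91.ivf_injective j 3 (show j + 3 ≤ 4 by omega))] at hx
  refine ⟨PhanWeak91.win i hi (PhanWeak91.emb _ (PhanWeak91.ivf_injective j 3 (show j + 3 ≤ 4 by omega)) x), ?_⟩
  rw [hf]
  have hmem := mapV i hi j hj _ (by
    rw [← PhanWeak91.range_ivf j 3 (show j + 3 ≤ 4 by omega)]
    exact PhanWeak91.emb_mem_supp (PhanWeak91.ivf_injective j 3 _) x)
  simp only [V, dif_pos hc] at hmem
  exact injOn_Phi O _ _ hmem _ hy ((hφ2 i hi _).trans hx)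

end Cfsg.Agent.Lib.SUPres
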