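import Cfsg.Agent.Lib.SUPres.Window
import Cfsg.Agent.Lib.SUPres.Derived
import Cfsg.Agent.Lib.Semisimple.SUBasics
import Cfsg.Agent.Lib.Classical.UnitaryOrder
import Cfsg.Agent.Lib.CosetTable.Cover
import Cfsg.Agent.Lib.ShortPres.Main

/-!
Evaluation of words in small unitary groups, one coded vector at a time.
-/

set_option autoImplicit false
set_option linter.unusedSectionVars false

namespace Cfsg.Agent.Lib.SUPres

open Matrix Equiv Cfsg.Agent.Lib.BoundedPresentation

universe u

/-- An element of `SU₃` from an orthonormal matrix of determinant one. -/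
def mkSU {F : Type u} [Field F] [Fintype F] {q : ℕ} (hF : Fintype.card F = q ^ 2) (M : Matrix (Fin 3) (Fin 3) F)
    (hd : M 0 0 * M 1 1 * M 2 2 - M 0 0 * M 1 2 * M 2 1 - M 0 1 * M 1 0 * M 2 2
      + M 0 1 * M 1 2 * M 2 0 + M 0 2 * M 1 0 * M 2 1 - M 0 2 * M 1 1 * M 2 0 = 1)
    (hg : Semisimple.ct (Semisimple.qHom hF) M * M = 1) : Cfsg.SU 3 F q :=
  ⟨⟨M, (Matrix.det_fin_three M).trans hd⟩, (Semisimple.mem_SU_iff hF _).2 hg⟩

/-- A coding of vectors. -/
structure VecCode (F : Type u) (m : ℕ) where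
  enc : (Fin m → F) → ℕ
  dec : ℕ → Fin m → F
  dec_enc : ∀ v, dec (enc v) = v

section

variable {F : Type u} [Field F] [Fintype F] {m q : ℕ}

/-- Acting by a word on a coded vector, first letter first. -/
noncomputable def actW (K : VecCode F m) (M : ℕ → Matrix (Fin m) (Fin m) F) (w : List ℕ) : ℕ → ℕ :=
  List.rec (motive := fun _ => ℕ → ℕ) (fun c => c)
    (fun a _ ih c => CosetTable.force (K.enc (M a *ᵥ K.dec c)) ih) w

theorem dec_actW (K : VecCode F m) (f : ℕ → Cfsg.SU m F q) (M : ℕ → Matrix (Fin m) (Fin m) F)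
    (hM : ∀ i, mat (f i) = M i) : ∀ (w : List ℕ) (c : ℕ),
      K.dec (actW K M w c) = mat (CosetTable.eval f w) *ᵥ K.dec c
  | [], c => by
    show K.dec c = (1 : Matrix (Fin m) (Fin m) F) *ᵥ K.dec c
    rw [one_mulVec]
  | a :: w, c => by
    show K.dec (CosetTable.force (K.enc (M a *ᵥ K.dec c)) (actW K M w)) = _
    rw [CosetTable.force_eq, dec_actW K f M hM w, K.dec_enc, ← hM, mulVec_mulVec]
    rfl

/-- Two words are compared on the basis. -/
theorem eval_eq_of_actW (K : VecCode F m) (f : ℕ → Cfsg.SU m F q) (M : ℕ → Matrix (Fin m) (Fin m) F)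
    (hM : ∀ i, mat (f i) = M i) (w w' : List ℕ)
    (h : ∀ j, actW K M w (K.enc (Pi.single j 1)) = actW K M w' (K.enc (Pi.single j 1))) :
    CosetTable.eval f w = CosetTable.eval f w' := by
  refine su_ext (Matrix.ext_of_mulVec_single fun j => ?_)
  rw [← K.dec_enc (Pi.single j 1), ← dec_actW K f M hM, ← dec_actW K f M hM, h]

theorem eval_eq_elt_of_actW (K : VecCode F m) (f : ℕ → Cfsg.SU m F q) (M : ℕ → Matrix (Fin m) (Fin m) F)
    (hM : ∀ i, mat (f i) = M i) (w : List ℕ) (g : Cfsg.SU m F q)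
    (h : ∀ j, actW K M w (K.enc (Pi.single j 1)) = K.enc (mat g *ᵥ Pi.single j 1)) :
    CosetTable.eval f w = g := by
  refine su_ext (Matrix.ext_of_mulVec_single fun j => ?_)
  have e := congrArg K.dec (h j)
  rwa [dec_actW K f M hM, K.dec_enc, K.dec_enc] at e

theorem eval_eq_one_of_actW (K : VecCode F m) (f : ℕ → Cfsg.SU m F q) (M : ℕ → Matrix (Fin m) (Fin m) F)
    (hM : ∀ i, mat (f i) = M i) (w : List ℕ)
    (h : ∀ j, actW K M w (K.enc (Pi.single j 1)) = K.enc (Pi.single j 1)) :
    CosetTable.eval f w = 1 :=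
  eval_eq_of_actW K f M hM w [] h

end

theorem map_eval {G H : Type*} [Group G] [Group H] (φ : G →* H) (f : ℕ → G) :
    ∀ w, φ (CosetTable.eval f w) = CosetTable.eval (fun i => φ (f i)) w
  | [] => map_one φ
  | a :: w => by
    show φ (CosetTable.eval f w * f a) = CosetTable.eval (fun i => φ (f i)) w * φ (f a)
    rw [map_mul, map_eval φ f w]

/-- The double transposition fixing the split into pairs. -/
def b4 : alternatingGroup (Fin 4) := ⟨swap 0 1 * swap 2 3, even_swaps (by decide) (by decide)⟩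

theorem b4_mul_self : b4 * b4 = 1 := by decide +kernel

theorem closure_b4 : Subgroup.closure ({b4, cyc3 le34} : Set (alternatingGroup (Fin 4))) = ⊤ := by
  set K := Subgroup.closure ({b4, cyc3 le34} : Set (alternatingGroup (Fin 4)))
  have hb : b4 ∈ K := Subgroup.subset_closure (Set.mem_insert _ _)
  have hc : cyc3 le34 ∈ K := Subgroup.subset_closure (Set.mem_insert_of_mem _ rfl)
  refine eq_top_iff.2 fun g hg => ?_
  clear hg
  obtain ⟨a, b, c, rfl⟩ : ∃ (a : Fin 2) (b : Fin 3) (c : Fin 2),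
      g = b4 ^ (a : ℕ) * (cyc3 le34 * b4 * (cyc3 le34)⁻¹) ^ (c : ℕ) * (cyc3 le34) ^ (b : ℕ) := by
    revert g
    decide +kernel
  exact mul_mem (mul_mem (pow_mem hb _) (pow_mem (mul_mem (mul_mem hc hb) (inv_mem hc)) _)) (pow_mem hc _)

theorem eval_map {G : Type*} [Group G] (f : ℕ → G) (h : ℕ → ℕ) :
    ∀ w : List ℕ, CosetTable.eval f (w.map h) = CosetTable.eval (fun i => f (h i)) w
  | [] => rfl
  | a :: w => by
    show CosetTable.eval f (w.map h) * f (h a) = CosetTable.eval (fun i => f (h i)) w * f (h a)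
    rw [eval_map f h w]

theorem closure_getD {G : Type*} [Group G] (l : List G) (w : List ℕ) :
    CosetTable.eval (fun i => l.getD i 1) w ∈ Subgroup.closure {x | x ∈ l} := by
  refine CosetTable.eval_mem _ _ fun a _ => ?_
  rw [List.getD_eq_getElem?_getD]
  rcases hh : l[a]? with _ | g
  · exact one_mem _
  · exact Subgroup.subset_closure (List.mem_of_getElem? hh)

/-- A cover over the trivial subgroup gives a presentation. -/
theorem pres_of_cover {H : Type} [Group H] [Finite H] {k : ℕ} (s : Fin k → H)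
    (hs : Subgroup.closure (Set.range s) = ⊤) {C : CosetTable.Cert} {A : CosetTable.Table} {N : ℕ}
    (K : CosetTable.Cover C A N) (hk : C.k = k) (hsubs : C.subs = []) (hw : C.wordsOK = true)
    (hsq : ∀ g, g < k → [g, g] ∈ C.rels) (hn : A.n ≤ Nat.card H)
    (hrel : ∀ w ∈ C.rels, CosetTable.eval (fun i => if h : i < k then s ⟨i, h⟩ else 1) w = 1) :
    Pres s C.rels.length := by
  classical
  let tok : ℕ → FreeGroup (Fin k) := fun i => if h : i < k then FreeGroup.of ⟨i, h⟩ else 1
  refine ⟨(C.rels.map (CosetTable.eval tok)).toFinset, (List.toFinset_card_le _).trans (le_of_eq (List.length_map _)),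
    ?_, fun G _ y hy => ?_⟩
  · intro x hx
    obtain ⟨w, hw', rfl⟩ := List.mem_map.1 (List.mem_toFinset.1 hx)
    rw [map_eval]
    convert hrel w hw' using 2
    funext i
    simp only [tok]
    split_ifs <;> simp
  have hy' : ∀ w ∈ C.rels, CosetTable.eval (fun i => if h : i < k then y ⟨i, h⟩ else 1) w = 1 := by
    intro w hw'
    have := hy _ (List.mem_toFinset.2 (List.mem_map_of_mem hw'))
    rw [map_eval] at this
    convert this using 2
    funext i
    simp only [tok]
    split_ifs <;> simp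
  set D := Subgroup.closure (Set.range fun j => (s j, y j))
  let f : ℕ → D := fun i => if h : i < k then ⟨(s ⟨i, h⟩, y ⟨i, h⟩), Subgroup.subset_closure ⟨⟨i, h⟩, rfl⟩⟩ else 1
  have hf : ∀ w, ((CosetTable.eval f w : D) : H × G) =
      (CosetTable.eval (fun i => if h : i < k then s ⟨i, h⟩ else 1) w,
        CosetTable.eval (fun i => if h : i < k then y ⟨i, h⟩ else 1) w) := by
    intro w
    refine Prod.ext ?_ ?_
    · refine ((map_eval ((MonoidHom.fst H G).comp D.subtype) f w)).trans ?_
      congr 1; funext i; simp only [f]; split_ifs <;> rfl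
    · refine ((map_eval ((MonoidHom.snd H G).comp D.subtype) f w)).trans ?_
      congr 1; funext i; simp only [f]; split_ifs <;> rfl
  have hone : ∀ w ∈ C.rels, CosetTable.eval f w = 1 := fun w hw' =>
    Subtype.ext ((hf w).trans (Prod.ext (hrel w hw') (hy' w hw')))
  have M : CosetTable.Model f C := by
    refine ⟨hw, fun g hg => ?_, hone, ?_⟩
    · have := hone _ (hsq g (hk ▸ hg))
      simpa [CosetTable.eval] using this
    · apply Subgroup.map_injective D.subtype_injective
      rw [MonoidHom.map_closure, ← MonoidHom.range_eq_map, Subgroup.range_subtype]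
      show _ = Subgroup.closure _
      congr 1
      ext z
      constructor
      · rintro ⟨_, ⟨g, hg, rfl⟩, rfl⟩
        refine ⟨⟨g, hk ▸ hg⟩, ?_⟩
        simp [f, hk ▸ hg]
      · rintro ⟨j, rfl⟩
        exact ⟨_, ⟨j, hk.symm ▸ j.isLt, rfl⟩, by simp [f]⟩
  have hbot : CosetTable.wordSubgroup f C.subs = ⊥ := by
    simp [CosetTable.wordSubgroup, hsubs]
  obtain ⟨hfin, hcard⟩ := K.finite_card_le M (b := 1) (by rw [hbot]; exact ⟨inferInstance, by simp⟩)
  exact ShortPres.exists_hom_of_card hs y (Set.toFinite _) (hcard.trans (by rw [Nat.mul_one]; exact hn))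

/-- The recognition from a certified window, for `q ≥ 3`. -/
theorem recogEx_win {F : Type u} [Field F] [Fintype F] {n q : ℕ} {hF : Fintype.card F = q ^ 2} (C : WinCert hF)
    (hq : 3 ≤ q) (hn : 4 ≤ n) : RecogEx hF hn (le_refl 3) (le34.trans hn) (C.lift hn) := by
  intro G _ ρ β pr R O hgen hex
  exact surjective_of_windows hF hn R O hgen
    ⟨C.exists_window hn R O hex, tri_of_pairs hq R, uv_of_pairs hq R, vv_of_pairs hq R⟩

/-- A code of vectors with three entries. -/
def code3 {F : Type u} (num : F → ℕ) (ofNum : ℕ → F) (h : ∀ x, ofNum (num x) = x) (N : ℕ)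
    (hN : ∀ x, num x < N) : VecCode F 3 where
  enc v := num (v 0) + N * (num (v 1) + N * num (v 2))
  dec c := ![ofNum (c % N), ofNum (c / N % N), ofNum (c / N / N)]
  dec_enc v := by
    have h0 : 0 < N := lt_of_le_of_lt (Nat.zero_le _) (hN (v 0))
    have e : ∀ x m, (num x + N * m) % N = num x ∧ (num x + N * m) / N = m := fun x m =>
      ⟨by rw [Nat.add_mul_mod_self_left, Nat.mod_eq_of_lt (hN x)],
        by rw [Nat.add_mul_div_left _ _ h0, Nat.div_eq_of_lt (hN x), Nat.zero_add]⟩
    funext i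
    fin_cases i <;> simp [(e _ _).1, (e _ _).2, h]

/-- A code of vectors with four entries. -/
def code4 {F : Type u} (num : F → ℕ) (ofNum : ℕ → F) (h : ∀ x, ofNum (num x) = x) (N : ℕ)
    (hN : ∀ x, num x < N) : VecCode F 4 where
  enc v := num (v 0) + N * (num (v 1) + N * (num (v 2) + N * num (v 3)))
  dec c := ![ofNum (c % N), ofNum (c / N % N), ofNum (c / N / N % N), ofNum (c / N / N / N)]
  dec_enc v := by
    have h0 : 0 < N := lt_of_le_of_lt (Nat.zero_le _) (hN (v 0))
    have e : ∀ x m, (num x + N * m) % N = num x ∧ (num x + N * m) / N = m := fun x m =>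
      ⟨by rw [Nat.add_mul_mod_self_left, Nat.mod_eq_of_lt (hN x)],
        by rw [Nat.add_mul_div_left _ _ h0, Nat.div_eq_of_lt (hN x), Nat.zero_add]⟩
    funext i
    fin_cases i <;> simp [(e _ _).1, (e _ _).2, h]

/-- An element of the first pair block inside three coordinates. -/
def pairBlock {F : Type u} [Field F] (a b c d : F) : Matrix (Fin 3) (Fin 3) F :=
  !![a, b, 0; c, d, 0; 0, 0, 1]

theorem mat_embSU_pair {F : Type u} [Field F] [Fintype F] {q : ℕ} (hF : Fintype.card F = q ^ 2)
    (x : Cfsg.SU 2 F q) :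
    mat (embSU hF (ptEmb le23) x) = pairBlock (mat x 0 0) (mat x 0 1) (mat x 1 0) (mat x 1 1) := by
  ext i j
  show (1 + Schur.UnitMult.sel F (ptEmb le23) * (mat x - 1) * (Schur.UnitMult.sel F (ptEmb le23))ᵀ : Matrix (Fin 3) (Fin 3) F) i j = _
  fin_cases i <;> fin_cases j <;>
    simp [pairBlock, Schur.UnitMult.sel, Matrix.mul_apply, Fin.sum_univ_two, ptEmb_apply, pt, Fin.ext_iff]

/-- The letters of a window as abstract words. -/
def winTok {F : Type u} [Field F] [Fintype F] {q : ℕ} (f : ℕ → Cfsg.SU 3 F q) :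
    ℕ → FreeGroup (alternatingGroup (Fin 4) ⊕ Cfsg.SU 3 F q)
  | 0 => FreeGroup.of (Sum.inl b4)
  | i + 1 => FreeGroup.of (Sum.inr (f i))

end Cfsg.Agent.Lib.SUPres
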