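import Cfsg.Agent.Lib.SUPres.SmallCommon
import Cfsg.Agent.Lib.SUPres.Extra
import Cfsg.Agent.Lib.SUPres.Large
import Cfsg.Agent.Lib.Golay.PSL34
import Cfsg.Agent.Lib.Presentation.WordTable
import Cfsg.Agent.Lib.CosetTable.SUPresWinTwo.Cover

/-!
Presentations of `SU_n(2)`.
-/

set_option autoImplicit false
set_option maxRecDepth 10000

namespace Cfsg.Agent.Lib.SUPres.Two

open Matrix Equiv Cfsg.Agent.Lib.BoundedPresentation Cfsg.Agent.Lib.Golay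

theorem hF4 : Fintype.card Quad = 2 ^ 2 := card_quad

/-- A number as an element. -/
def ofNum (c : ℕ) : Quad := ⟨Fin.ofNat 4 c⟩

theorem ofNum_num (x : Quad) : ofNum x.num = x := by
  revert x; decide +kernel

/-- A matrix from numbers. -/
def ofQ (m : Fin 3 → Fin 3 → ℕ) : Matrix (Fin 3) (Fin 3) Quad := Matrix.of fun i j => ofNum (m i j)

/-- The matrix m0. -/
def m0 : Matrix (Fin 3) (Fin 3) Quad := ofQ ![![0, 0, 2], ![0, 1, 0], ![3, 0, 0]]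

/-- The matrix m1. -/
def m1 : Matrix (Fin 3) (Fin 3) Quad := ofQ ![![1, 0, 0], ![0, 0, 1], ![0, 1, 0]]

/-- The matrix m2. -/
def m2 : Matrix (Fin 3) (Fin 3) Quad := ofQ ![![0, 3, 0], ![2, 0, 0], ![0, 0, 1]]

/-- The matrix mX. -/
def mX : Matrix (Fin 3) (Fin 3) Quad := ofQ ![![2, 2, 2], ![3, 1, 2], ![1, 3, 2]]

/-- The matrix mY. -/
def mY : Matrix (Fin 3) (Fin 3) Quad := ofQ ![![1, 3, 3], ![2, 2, 3], ![2, 3, 2]]

/-- The matrix mC. -/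
def mC : Matrix (Fin 3) (Fin 3) Quad := ofQ ![![1, 2, 3], ![1, 3, 2], ![1, 1, 1]]

/-- The matrix mCi. -/
def mCi : Matrix (Fin 3) (Fin 3) Quad := ofQ ![![1, 1, 1], ![3, 2, 1], ![2, 3, 1]]

/-- The relators of `SU_3(2)`. -/
def relW : List (List ℕ) := [
  [0, 0, 0, 0],
  [1, 1, 1, 1],
  [0, 1, 0, 0, 1, 1, 1, 0, 1, 1, 0, 0],
  [1, 0, 1, 1, 0, 1, 0, 1, 1, 1, 0, 0, 0, 1]]

/-- Words for all elements. -/
def words : List (List ℕ) := [
  [], [0], [1], [0, 0], [0, 1], [1, 0],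
  [1, 1], [0, 0, 0], [0, 0, 1], [0, 1, 0], [0, 1, 1], [1, 0, 0],
  [1, 0, 1], [1, 1, 0], [1, 1, 1], [0, 0, 0, 1], [0, 0, 1, 0], [0, 0, 1, 1],
  [0, 1, 0, 0], [0, 1, 0, 1], [0, 1, 1, 0], [0, 1, 1, 1], [1, 0, 0, 0], [1, 0, 0, 1],
  [1, 0, 1, 0], [1, 0, 1, 1], [1, 1, 0, 0], [1, 1, 0, 1], [1, 1, 1, 0], [0, 0, 0, 1, 0],
  [0, 0, 0, 1, 1], [0, 0, 1, 0, 0], [0, 0, 1, 0, 1], [0, 0, 1, 1, 0], [0, 0, 1, 1, 1], [0, 1, 0, 0, 0],
  [0, 1, 0, 0, 1], [0, 1, 0, 1, 0], [0, 1, 0, 1, 1], [0, 1, 1, 0, 0], [0, 1, 1, 0, 1], [0, 1, 1, 1, 0],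
  [1, 0, 0, 0, 1], [1, 0, 0, 1, 0], [1, 0, 0, 1, 1], [1, 0, 1, 0, 0], [1, 0, 1, 0, 1], [1, 0, 1, 1, 0],
  [1, 0, 1, 1, 1], [1, 1, 0, 0, 0], [1, 1, 0, 0, 1], [1, 1, 0, 1, 0], [1, 1, 0, 1, 1], [1, 1, 1, 0, 0],
  [1, 1, 1, 0, 1], [0, 0, 0, 1, 0, 0], [0, 0, 0, 1, 0, 1], [0, 0, 0, 1, 1, 0], [0, 0, 0, 1, 1, 1], [0, 0, 1, 0, 0, 0],
  [0, 0, 1, 0, 0, 1], [0, 0, 1, 0, 1, 0], [0, 0, 1, 0, 1, 1], [0, 0, 1, 1, 0, 0], [0, 0, 1, 1, 0, 1], [0, 0, 1, 1, 1, 0],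
  [0, 1, 0, 0, 0, 1], [0, 1, 0, 0, 1, 0], [0, 1, 0, 0, 1, 1], [0, 1, 0, 1, 0, 0], [0, 1, 0, 1, 0, 1], [0, 1, 0, 1, 1, 0],
  [0, 1, 0, 1, 1, 1], [0, 1, 1, 0, 0, 0], [0, 1, 1, 0, 0, 1], [0, 1, 1, 0, 1, 1], [0, 1, 1, 1, 0, 0], [0, 1, 1, 1, 0, 1],
  [1, 0, 0, 0, 1, 0], [1, 0, 0, 0, 1, 1], [1, 0, 0, 1, 0, 0], [1, 0, 0, 1, 1, 0], [1, 0, 1, 0, 0, 0], [1, 0, 1, 0, 0, 1],
  [1, 0, 1, 0, 1, 1], [1, 0, 1, 1, 0, 0], [1, 0, 1, 1, 0, 1], [1, 0, 1, 1, 1, 0], [1, 1, 0, 1, 0, 1], [1, 1, 0, 1, 1, 0],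
  [1, 1, 0, 1, 1, 1], [1, 1, 1, 0, 0, 1], [1, 1, 1, 0, 1, 0], [0, 0, 0, 1, 0, 0, 0], [0, 0, 0, 1, 0, 0, 1], [0, 0, 0, 1, 0, 1, 0],
  [0, 0, 0, 1, 0, 1, 1], [0, 0, 0, 1, 1, 0, 0], [0, 0, 0, 1, 1, 1, 0], [0, 0, 1, 0, 0, 0, 1], [0, 0, 1, 0, 0, 1, 1], [0, 0, 1, 0, 1, 0, 0],
  [0, 0, 1, 0, 1, 0, 1], [0, 0, 1, 0, 1, 1, 0], [0, 0, 1, 1, 0, 0, 0], [0, 0, 1, 1, 0, 0, 1], [0, 0, 1, 1, 0, 1, 1], [0, 0, 1, 1, 1, 0, 0],
  [0, 0, 1, 1, 1, 0, 1], [0, 1, 0, 0, 0, 1, 0], [0, 1, 0, 0, 0, 1, 1], [0, 1, 0, 0, 1, 0, 0], [0, 1, 0, 0, 1, 1, 0], [0, 1, 0, 1, 0, 0, 0],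
  [0, 1, 0, 1, 0, 0, 1], [0, 1, 0, 1, 0, 1, 1], [0, 1, 0, 1, 1, 0, 0], [0, 1, 0, 1, 1, 0, 1], [0, 1, 0, 1, 1, 1, 0], [0, 1, 1, 0, 1, 1, 0],
  [0, 1, 1, 0, 1, 1, 1], [0, 1, 1, 1, 0, 0, 1], [0, 1, 1, 1, 0, 1, 0], [1, 0, 0, 0, 1, 1, 0], [1, 0, 0, 0, 1, 1, 1], [1, 0, 0, 1, 0, 0, 0],
  [1, 0, 0, 1, 0, 0, 1], [1, 0, 0, 1, 1, 0, 0], [1, 0, 0, 1, 1, 0, 1], [1, 0, 1, 0, 0, 0, 1], [1, 0, 1, 0, 0, 1, 0], [1, 0, 1, 0, 1, 1, 0],
  [1, 0, 1, 0, 1, 1, 1], [1, 0, 1, 1, 0, 0, 1], [1, 0, 1, 1, 0, 1, 1], [1, 0, 1, 1, 1, 0, 0], [1, 0, 1, 1, 1, 0, 1], [1, 1, 0, 1, 0, 1, 1],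
  [1, 1, 0, 1, 1, 0, 0], [1, 1, 0, 1, 1, 1, 0], [1, 1, 1, 0, 1, 0, 1], [0, 0, 0, 1, 0, 0, 0, 1], [0, 0, 0, 1, 0, 0, 1, 1], [0, 0, 0, 1, 0, 1, 0, 0],
  [0, 0, 0, 1, 0, 1, 0, 1], [0, 0, 0, 1, 0, 1, 1, 0], [0, 0, 0, 1, 1, 0, 0, 0], [0, 0, 0, 1, 1, 0, 0, 1], [0, 0, 0, 1, 1, 1, 0, 0], [0, 0, 0, 1, 1, 1, 0, 1],
  [0, 0, 1, 0, 0, 0, 1, 0], [0, 0, 1, 0, 0, 0, 1, 1], [0, 0, 1, 0, 0, 1, 1, 0], [0, 0, 1, 0, 1, 0, 0, 1], [0, 0, 1, 0, 1, 0, 1, 1], [0, 0, 1, 0, 1, 1, 0, 0],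
  [0, 0, 1, 0, 1, 1, 0, 1], [0, 0, 1, 1, 0, 1, 1, 0], [0, 0, 1, 1, 0, 1, 1, 1], [0, 0, 1, 1, 1, 0, 1, 0], [0, 1, 0, 0, 1, 0, 0, 0], [0, 1, 0, 0, 1, 0, 0, 1],
  [0, 1, 0, 0, 1, 1, 0, 0], [0, 1, 0, 0, 1, 1, 0, 1], [0, 1, 0, 1, 0, 0, 0, 1], [0, 1, 0, 1, 0, 0, 1, 0], [0, 1, 0, 1, 0, 1, 1, 0], [0, 1, 0, 1, 0, 1, 1, 1],
  [0, 1, 0, 1, 1, 0, 0, 1], [0, 1, 0, 1, 1, 0, 1, 1], [0, 1, 0, 1, 1, 1, 0, 0], [0, 1, 0, 1, 1, 1, 0, 1], [0, 1, 1, 0, 1, 1, 0, 0], [0, 1, 1, 0, 1, 1, 1, 0],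
  [0, 1, 1, 1, 0, 1, 0, 1], [1, 0, 0, 0, 1, 1, 0, 0], [1, 0, 0, 0, 1, 1, 1, 0], [1, 0, 0, 1, 1, 0, 0, 1], [1, 0, 1, 0, 0, 0, 1, 0], [1, 0, 1, 0, 0, 0, 1, 1],
  [1, 0, 1, 0, 0, 1, 0, 0], [1, 0, 1, 0, 1, 1, 0, 1], [1, 0, 1, 0, 1, 1, 1, 0], [1, 0, 1, 1, 0, 1, 1, 0], [1, 1, 0, 1, 0, 1, 1, 0], [1, 1, 0, 1, 1, 0, 0, 1],
  [1, 1, 0, 1, 1, 1, 0, 0], [1, 1, 0, 1, 1, 1, 0, 1], [0, 0, 0, 1, 0, 0, 0, 1, 0], [0, 0, 0, 1, 0, 0, 0, 1, 1], [0, 0, 0, 1, 0, 0, 1, 1, 0], [0, 0, 0, 1, 0, 1, 0, 1, 1],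
  [0, 0, 0, 1, 0, 1, 1, 0, 0], [0, 0, 0, 1, 0, 1, 1, 0, 1], [0, 0, 0, 1, 1, 1, 0, 1, 0], [0, 0, 1, 0, 0, 1, 1, 0, 1], [0, 0, 1, 0, 1, 0, 0, 1, 0], [0, 0, 1, 0, 1, 0, 1, 1, 0],
  [0, 0, 1, 0, 1, 0, 1, 1, 1], [0, 0, 1, 0, 1, 1, 0, 0, 1], [0, 0, 1, 0, 1, 1, 0, 1, 1], [0, 0, 1, 1, 0, 1, 1, 0, 0], [0, 0, 1, 1, 0, 1, 1, 1, 0], [0, 0, 1, 1, 1, 0, 1, 0, 1],
  [0, 1, 0, 0, 1, 1, 0, 0, 1], [0, 1, 0, 1, 0, 0, 0, 1, 1], [0, 1, 0, 1, 0, 0, 1, 0, 0], [0, 1, 0, 1, 0, 1, 1, 0, 1], [0, 1, 1, 0, 1, 1, 0, 0, 1], [0, 1, 1, 0, 1, 1, 1, 0, 0],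
  [0, 1, 1, 0, 1, 1, 1, 0, 1], [1, 1, 0, 1, 0, 1, 1, 0, 1], [0, 0, 0, 1, 0, 0, 1, 1, 0, 1], [0, 0, 0, 1, 0, 1, 0, 1, 1, 0], [0, 0, 0, 1, 0, 1, 1, 0, 0, 1], [0, 0, 1, 1, 0, 1, 1, 1, 0, 1]]

/-- The derivation. -/
def steps : List WordTable.Step := [
  (0, 0, 1, 0, 4, 0), (0, 1, 2, 0, 4, 0), (1, 0, 3, 0, 4, 0), (1, 1, 4, 0, 4, 0), (2, 0, 5, 0, 4, 0), (2, 1, 6, 0, 4, 0),
  (3, 0, 7, 0, 4, 0), (7, 0, 0, 7, 0, 0), (3, 1, 8, 0, 4, 0), (4, 0, 9, 0, 4, 0), (4, 1, 10, 0, 4, 0), (5, 0, 11, 0, 4, 0),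
  (5, 1, 12, 0, 4, 0), (6, 0, 13, 0, 4, 0), (6, 1, 14, 0, 4, 0), (14, 1, 0, 14, 1, 0), (7, 1, 15, 0, 4, 0), (8, 0, 16, 0, 4, 0),
  (8, 1, 17, 0, 4, 0), (9, 0, 18, 0, 4, 0), (9, 1, 19, 0, 4, 0), (10, 0, 20, 0, 4, 0), (10, 1, 21, 0, 4, 0), (21, 1, 1, 21, 1, 0),
  (11, 0, 22, 0, 4, 0), (22, 0, 2, 22, 0, 0), (11, 1, 23, 0, 4, 0), (12, 0, 24, 0, 4, 0), (12, 1, 25, 0, 4, 0), (13, 0, 26, 0, 4, 0),
  (13, 1, 27, 0, 4, 0), (14, 0, 28, 0, 4, 0), (15, 0, 29, 0, 4, 0), (15, 1, 30, 0, 4, 0), (16, 0, 31, 0, 4, 0), (16, 1, 32, 0, 4, 0),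
  (17, 0, 33, 0, 4, 0), (17, 1, 34, 0, 4, 0), (34, 1, 3, 34, 1, 0), (18, 0, 35, 0, 4, 0), (35, 0, 4, 35, 0, 0), (18, 1, 36, 0, 4, 0),
  (19, 0, 37, 0, 4, 0), (19, 1, 38, 0, 4, 0), (20, 0, 39, 0, 4, 0), (20, 1, 40, 0, 4, 0), (21, 0, 41, 0, 4, 0), (22, 1, 42, 0, 4, 0),
  (23, 0, 43, 0, 4, 0), (23, 1, 44, 0, 4, 0), (24, 0, 45, 0, 4, 0), (24, 1, 46, 0, 4, 0), (25, 0, 47, 0, 4, 0), (25, 1, 48, 0, 4, 0),
  (48, 1, 5, 48, 1, 0), (26, 0, 49, 0, 4, 0), (49, 0, 6, 49, 0, 0), (26, 1, 50, 0, 4, 0), (27, 0, 51, 0, 4, 0), (27, 1, 52, 0, 4, 0),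
  (28, 0, 53, 0, 4, 0), (28, 1, 54, 0, 4, 0), (29, 0, 55, 0, 4, 0), (29, 1, 56, 0, 4, 0), (30, 0, 57, 0, 4, 0), (30, 1, 58, 0, 4, 0),
  (58, 1, 7, 58, 1, 0), (31, 0, 59, 0, 4, 0), (59, 0, 8, 59, 0, 0), (31, 1, 60, 0, 4, 0), (32, 0, 61, 0, 4, 0), (32, 1, 62, 0, 4, 0),
  (33, 0, 63, 0, 4, 0), (33, 1, 64, 0, 4, 0), (34, 0, 65, 0, 4, 0), (35, 1, 66, 0, 4, 0), (36, 0, 67, 0, 4, 0), (36, 1, 68, 0, 4, 0),
  (37, 0, 69, 0, 4, 0), (37, 1, 70, 0, 4, 0), (38, 0, 71, 0, 4, 0), (38, 1, 72, 0, 4, 0), (72, 1, 9, 72, 1, 0), (39, 0, 73, 0, 4, 0),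
  (73, 0, 10, 73, 0, 0), (73, 1, 11, 39, 2, 1), (44, 1, 73, 44, 1, 0), (39, 1, 74, 0, 4, 0), (40, 1, 75, 0, 4, 0), (41, 0, 76, 0, 4, 0),
  (41, 1, 77, 0, 4, 0), (42, 0, 78, 0, 4, 0), (42, 1, 79, 0, 4, 0), (43, 0, 80, 0, 4, 0), (44, 0, 81, 0, 4, 0), (45, 0, 82, 0, 4, 0),
  (82, 0, 12, 82, 0, 0), (45, 1, 83, 0, 4, 0), (46, 1, 84, 0, 4, 0), (47, 0, 85, 0, 4, 0), (47, 1, 86, 0, 4, 0), (48, 0, 87, 0, 4, 0),
  (51, 1, 88, 0, 4, 0), (52, 0, 89, 0, 4, 0), (89, 1, 35, 2, 3, 5), (52, 1, 90, 0, 4, 0), (90, 1, 13, 90, 1, 0), (40, 0, 27, 14, 3, 6),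
  (53, 1, 91, 0, 4, 0), (54, 0, 92, 0, 4, 0), (55, 0, 93, 0, 4, 0), (93, 0, 15, 93, 0, 0), (49, 1, 55, 26, 2, 1), (55, 1, 94, 0, 4, 0),
  (56, 0, 95, 0, 4, 0), (56, 1, 96, 0, 4, 0), (57, 0, 97, 0, 4, 0), (58, 0, 98, 0, 4, 0), (59, 1, 99, 0, 4, 0), (60, 1, 100, 0, 4, 0),
  (61, 0, 101, 0, 4, 0), (61, 1, 102, 0, 4, 0), (62, 0, 103, 0, 4, 0), (63, 0, 104, 0, 4, 0), (104, 0, 17, 104, 0, 0), (104, 1, 18, 63, 2, 1),
  (68, 1, 104, 68, 1, 0), (63, 1, 105, 0, 4, 0), (64, 1, 106, 0, 4, 0), (65, 0, 107, 0, 4, 0), (65, 1, 108, 0, 4, 0), (66, 0, 109, 0, 4, 0),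
  (66, 1, 110, 0, 4, 0), (110, 1, 89, 110, 1, 0), (67, 0, 111, 0, 4, 0), (68, 0, 112, 0, 4, 0), (69, 0, 113, 0, 4, 0), (113, 0, 19, 113, 0, 0),
  (69, 1, 114, 0, 4, 0), (70, 1, 115, 0, 4, 0), (71, 0, 116, 0, 4, 0), (71, 1, 117, 0, 4, 0), (72, 0, 118, 0, 4, 0), (75, 0, 119, 0, 4, 0),
  (119, 1, 59, 4, 3, 5), (75, 1, 120, 0, 4, 0), (120, 1, 20, 120, 1, 0), (64, 0, 40, 21, 3, 6), (50, 1, 63, 17, 2, 9), (51, 0, 64, 51, 0, 0),
  (105, 0, 25, 22, 2, 7), (105, 1, 26, 105, 1, 0), (85, 0, 105, 85, 0, 0), (94, 0, 72, 105, 3, 4), (70, 0, 14, 55, 3, 6), (53, 0, 70, 53, 0, 0),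
  (108, 1, 28, 70, 2, 9), (54, 1, 65, 54, 1, 0), (86, 0, 54, 0, 3, 6), (107, 1, 82, 6, 3, 5), (76, 1, 121, 0, 4, 0), (77, 0, 122, 0, 4, 0),
  (79, 0, 123, 0, 4, 0), (79, 1, 124, 0, 4, 0), (124, 1, 22, 124, 1, 0), (80, 0, 125, 0, 4, 0), (125, 0, 23, 125, 0, 0), (62, 1, 43, 44, 3, 9),
  (43, 1, 16, 43, 1, 0), (50, 0, 62, 59, 2, 7), (60, 0, 48, 26, 3, 6), (91, 0, 32, 17, 3, 6), (101, 0, 91, 101, 0, 0), (102, 0, 21, 11, 3, 6),
  (76, 0, 102, 76, 0, 0), (80, 1, 126, 0, 4, 0), (81, 0, 127, 0, 4, 0), (81, 1, 128, 0, 4, 0), (82, 1, 129, 0, 4, 0), (83, 0, 130, 0, 4, 0),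
  (84, 0, 131, 0, 4, 0), (84, 1, 132, 0, 4, 0), (132, 1, 24, 132, 1, 0), (85, 1, 133, 0, 4, 0), (86, 1, 134, 0, 4, 0), (87, 0, 135, 0, 4, 0),
  (135, 0, 60, 135, 0, 0), (87, 1, 136, 0, 4, 0), (88, 1, 137, 0, 4, 0), (89, 0, 138, 0, 4, 0), (90, 0, 139, 0, 4, 0), (92, 1, 140, 0, 4, 0),
  (93, 1, 141, 0, 4, 0), (94, 1, 142, 0, 4, 0), (142, 1, 49, 142, 1, 0), (67, 1, 29, 50, 3, 5), (96, 1, 67, 96, 1, 0), (95, 0, 143, 0, 4, 0),
  (95, 1, 144, 0, 4, 0), (144, 0, 34, 18, 3, 6), (107, 0, 144, 107, 0, 0), (96, 0, 145, 0, 4, 0), (97, 0, 146, 0, 4, 0), (146, 0, 30, 146, 0, 0),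
  (146, 1, 31, 97, 2, 1), (46, 0, 58, 31, 3, 6), (74, 1, 97, 74, 3, 0), (100, 1, 146, 100, 1, 0), (137, 1, 57, 58, 3, 9), (57, 1, 51, 57, 1, 0),
  (88, 0, 124, 15, 3, 4), (97, 1, 147, 0, 4, 0), (147, 0, 38, 35, 2, 7), (147, 1, 39, 147, 1, 0), (74, 0, 96, 93, 2, 7), (116, 0, 147, 116, 0, 0),
  (135, 1, 71, 87, 2, 1), (78, 1, 116, 51, 3, 5), (98, 0, 148, 0, 4, 0), (148, 0, 46, 148, 0, 0), (77, 1, 98, 46, 2, 9), (148, 1, 113, 10, 3, 5),
  (98, 1, 149, 0, 4, 0), (149, 1, 41, 149, 1, 0), (117, 0, 77, 1, 3, 6), (121, 0, 56, 30, 3, 6), (143, 0, 121, 143, 0, 0), (140, 1, 143, 56, 2, 9),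
  (99, 0, 150, 0, 4, 0), (99, 1, 151, 0, 4, 0), (151, 1, 119, 151, 1, 0), (100, 0, 152, 0, 4, 0), (101, 1, 153, 0, 4, 0), (102, 1, 154, 0, 4, 0),
  (103, 0, 155, 0, 4, 0), (155, 0, 50, 155, 0, 0), (109, 1, 155, 27, 3, 5), (103, 1, 156, 0, 4, 0), (156, 0, 108, 3, 3, 6), (106, 0, 157, 0, 4, 0),
  (157, 1, 93, 8, 3, 5), (106, 1, 158, 0, 4, 0), (158, 1, 33, 158, 1, 0), (108, 0, 159, 0, 4, 0), (111, 0, 160, 0, 4, 0), (160, 0, 36, 160, 0, 0),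
  (160, 1, 47, 111, 2, 1), (134, 1, 160, 134, 1, 0), (128, 0, 86, 48, 3, 6), (92, 0, 128, 92, 0, 0), (111, 1, 161, 0, 4, 0), (112, 0, 162, 0, 4, 0),
  (112, 1, 163, 0, 4, 0), (113, 1, 164, 0, 4, 0), (114, 0, 165, 0, 4, 0), (115, 0, 166, 0, 4, 0), (166, 0, 42, 53, 2, 3), (78, 0, 115, 78, 0, 0),
  (115, 1, 167, 0, 4, 0), (167, 0, 132, 98, 2, 7), (167, 1, 37, 167, 1, 0), (116, 1, 168, 0, 4, 0), (117, 1, 169, 0, 4, 0), (169, 0, 134, 105, 2, 7),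
  (169, 1, 135, 169, 1, 0), (163, 0, 117, 72, 3, 6), (122, 0, 163, 122, 0, 0), (83, 1, 122, 117, 2, 9), (118, 0, 170, 0, 4, 0), (170, 0, 94, 170, 0, 0),
  (170, 1, 103, 118, 2, 1), (140, 0, 142, 103, 3, 6), (164, 0, 140, 69, 2, 2), (123, 1, 92, 42, 3, 2), (143, 1, 123, 143, 1, 0), (118, 1, 171, 0, 4, 0),
  (119, 0, 172, 0, 4, 0), (120, 0, 173, 0, 4, 0), (122, 1, 174, 0, 4, 0), (174, 0, 44, 2, 2, 7), (174, 1, 45, 174, 1, 0), (110, 0, 83, 66, 3, 1),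
  (127, 0, 174, 127, 0, 0), (130, 1, 78, 38, 2, 8), (168, 1, 130, 168, 1, 0), (91, 1, 127, 101, 2, 1), (133, 0, 168, 117, 3, 6), (123, 0, 175, 0, 4, 0),
  (124, 0, 176, 0, 4, 0), (127, 1, 177, 0, 4, 0), (177, 0, 52, 81, 2, 2), (177, 1, 53, 177, 1, 0), (138, 0, 177, 138, 0, 0), (171, 1, 138, 52, 2, 9),
  (126, 0, 90, 53, 3, 6), (129, 0, 178, 0, 4, 0), (178, 0, 100, 45, 2, 3), (178, 1, 101, 54, 3, 5), (152, 0, 129, 152, 0, 0), (129, 1, 179, 0, 4, 0),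
  (179, 0, 106, 104, 2, 7), (179, 1, 107, 179, 1, 0), (130, 0, 180, 0, 4, 0), (180, 0, 110, 180, 0, 0), (180, 1, 111, 130, 2, 1), (161, 0, 120, 111, 3, 1),
  (131, 1, 181, 0, 4, 0), (132, 0, 182, 0, 4, 0), (182, 1, 95, 65, 2, 8), (134, 0, 183, 0, 4, 0), (183, 1, 125, 12, 3, 5), (137, 0, 184, 0, 4, 0),
  (138, 1, 185, 0, 4, 0), (185, 1, 118, 185, 1, 0), (171, 0, 137, 40, 2, 7), (139, 0, 186, 0, 4, 0), (186, 0, 126, 186, 0, 0), (139, 1, 187, 0, 4, 0),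
  (141, 0, 188, 0, 4, 0), (188, 0, 84, 55, 2, 3), (188, 1, 85, 64, 3, 5), (131, 0, 141, 131, 0, 0), (175, 1, 188, 166, 2, 4), (133, 1, 175, 133, 1, 0),
  (141, 1, 189, 0, 4, 0), (189, 1, 157, 189, 1, 0), (185, 0, 189, 29, 2, 7), (142, 0, 190, 0, 4, 0), (190, 0, 164, 190, 0, 0), (187, 1, 190, 140, 2, 9),
  (144, 1, 191, 0, 4, 0), (191, 1, 182, 191, 1, 0), (150, 0, 191, 31, 2, 3), (145, 0, 192, 0, 4, 0), (192, 0, 74, 192, 0, 0), (125, 1, 145, 80, 2, 1),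
  (150, 1, 192, 40, 3, 5), (145, 1, 193, 0, 4, 0), (193, 0, 149, 163, 2, 7), (193, 1, 183, 193, 1, 0), (149, 0, 194, 0, 4, 0), (194, 1, 178, 32, 2, 8),
  (153, 1, 194, 153, 1, 0), (189, 0, 153, 89, 2, 3), (152, 1, 195, 0, 4, 0), (195, 0, 156, 100, 2, 2), (159, 0, 195, 159, 0, 0), (114, 1, 159, 156, 2, 9),
  (153, 0, 196, 0, 4, 0), (196, 0, 185, 196, 0, 0), (196, 1, 150, 96, 2, 8), (154, 0, 197, 0, 4, 0), (197, 0, 66, 76, 2, 3), (109, 0, 154, 109, 0, 0),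
  (181, 1, 197, 181, 3, 0), (186, 1, 131, 177, 2, 4), (197, 1, 186, 197, 1, 0), (154, 1, 198, 0, 4, 0), (198, 0, 167, 109, 2, 2), (198, 1, 61, 198, 1, 0),
  (182, 0, 198, 182, 0, 0), (155, 1, 199, 0, 4, 0), (156, 1, 200, 0, 4, 0), (200, 0, 169, 195, 2, 2), (200, 1, 170, 200, 1, 0), (183, 0, 200, 183, 0, 0),
  (157, 0, 201, 0, 4, 0), (201, 0, 179, 201, 0, 0), (201, 1, 180, 157, 2, 1), (136, 0, 158, 107, 3, 6), (161, 1, 201, 161, 1, 0), (181, 0, 136, 84, 2, 2),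
  (158, 0, 202, 0, 4, 0), (202, 0, 181, 202, 0, 0), (163, 1, 202, 136, 2, 9), (159, 1, 203, 0, 4, 0), (203, 0, 68, 4, 2, 7), (203, 1, 69, 203, 1, 0),
  (151, 0, 114, 99, 3, 1), (162, 0, 203, 162, 0, 0), (165, 1, 109, 62, 2, 8), (199, 1, 165, 199, 1, 0), (121, 1, 162, 143, 2, 1), (168, 0, 199, 47, 2, 3),
  (162, 1, 204, 0, 4, 0), (204, 0, 75, 112, 2, 2), (204, 1, 76, 204, 1, 0), (172, 0, 204, 172, 0, 0), (126, 1, 172, 186, 2, 1), (164, 1, 205, 0, 4, 0),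
  (205, 0, 88, 190, 2, 2), (205, 1, 148, 205, 1, 0), (176, 0, 205, 176, 0, 0), (136, 1, 176, 181, 2, 1), (165, 0, 206, 0, 4, 0), (206, 0, 151, 206, 0, 0),
  (206, 1, 87, 165, 2, 1), (176, 1, 206, 176, 1, 0), (166, 1, 207, 0, 4, 0), (207, 0, 171, 115, 2, 2), (184, 0, 207, 184, 0, 0), (195, 1, 184, 159, 2, 1),
  (172, 1, 208, 0, 4, 0), (208, 0, 79, 119, 2, 2), (208, 1, 80, 208, 1, 0), (175, 0, 208, 175, 0, 0), (173, 0, 209, 0, 4, 0), (209, 0, 161, 209, 0, 0),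
  (209, 1, 166, 173, 2, 1), (128, 1, 173, 92, 2, 1), (173, 1, 210, 0, 4, 0), (210, 1, 81, 210, 1, 0), (187, 0, 210, 20, 3, 6), (184, 1, 211, 0, 4, 0),
  (211, 0, 187, 137, 2, 2), (211, 1, 152, 211, 1, 0), (190, 1, 212, 0, 4, 0), (212, 0, 193, 142, 2, 2), (212, 1, 139, 212, 1, 0), (194, 0, 212, 194, 0, 0),
  (191, 0, 213, 0, 4, 0), (213, 0, 99, 213, 0, 0), (213, 1, 209, 191, 2, 1), (207, 1, 213, 207, 1, 0), (192, 1, 214, 0, 4, 0), (214, 0, 133, 145, 2, 2),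
  (214, 1, 196, 214, 1, 0), (199, 0, 214, 199, 0, 0), (202, 1, 215, 0, 4, 0), (215, 0, 211, 158, 2, 2), (215, 1, 112, 215, 1, 0), (210, 0, 215, 210, 0, 0)]

/-- Words for the monomial subgroup with their products by the generators. -/
def monoWords : List (List ℕ × List ℕ) := [
  ([], [1, 2, 3]), ([0], [0, 4, 5]), ([1], [6, 0, 7]),
  ([2], [8, 9, 0]), ([1, 0], [10, 1, 11]), ([2, 0], [12, 13, 1]),
  ([0, 1], [2, 10, 14]), ([2, 1], [15, 16, 2]), ([0, 2], [3, 17, 12]),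
  ([1, 2], [18, 3, 16]), ([0, 1, 0], [4, 6, 19]), ([2, 1, 0], [20, 21, 4]),
  ([0, 2, 0], [5, 22, 8]), ([1, 2, 0], [23, 5, 21]), ([2, 0, 1], [24, 25, 6]),
  ([0, 2, 1], [7, 26, 24]), ([1, 2, 1], [27, 7, 9]), ([1, 0, 2], [28, 8, 29]),
  ([0, 1, 2], [9, 28, 30]), ([2, 0, 1, 0], [31, 32, 10]), ([0, 2, 1, 0], [11, 33, 31]),
  ([1, 2, 1, 0], [34, 11, 13]), ([1, 0, 2, 0], [35, 12, 36]), ([0, 1, 2, 0], [13, 35, 37]),
  ([0, 2, 0, 1], [14, 38, 15]), ([1, 2, 0, 1], [39, 14, 32]), ([1, 0, 2, 1], [40, 15, 41]),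
  ([0, 1, 2, 1], [16, 40, 42]), ([0, 1, 0, 2], [17, 18, 43]), ([2, 1, 0, 2], [44, 36, 17]),
  ([2, 0, 1, 2], [42, 45, 18]), ([0, 2, 0, 1, 0], [19, 46, 20]), ([1, 2, 0, 1, 0], [47, 19, 25]),
  ([1, 0, 2, 1, 0], [48, 20, 49]), ([0, 1, 2, 1, 0], [21, 48, 50]), ([0, 1, 0, 2, 0], [22, 23, 51]),
  ([2, 1, 0, 2, 0], [52, 29, 22]), ([2, 0, 1, 2, 0], [50, 53, 23]), ([1, 0, 2, 0, 1], [51, 24, 52]),
  ([0, 1, 2, 0, 1], [25, 51, 53]), ([0, 1, 0, 2, 1], [26, 27, 48]), ([2, 1, 0, 2, 1], [49, 52, 26]),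
  ([2, 0, 1, 2, 1], [30, 50, 27]), ([2, 0, 1, 0, 2], [46, 47, 28]), ([0, 2, 1, 0, 2], [29, 49, 46]),
  ([1, 2, 0, 1, 2], [53, 30, 47]), ([1, 0, 2, 0, 1, 0], [43, 31, 44]), ([0, 1, 2, 0, 1, 0], [32, 43, 45]),
  ([0, 1, 0, 2, 1, 0], [33, 34, 40]), ([2, 1, 0, 2, 1, 0], [41, 44, 33]), ([2, 0, 1, 2, 1, 0], [37, 42, 34]),
  ([2, 0, 1, 0, 2, 0], [38, 39, 35]), ([0, 2, 1, 0, 2, 0], [36, 41, 38]), ([1, 2, 0, 1, 2, 0], [45, 37, 39])]

/-- The first generator as a word. -/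
def defX : List ℕ := [0, 4, 1, 4, 0, 1, 4, 0, 1, 4, 1, 0]

/-- The second generator as a word. -/
def defY : List ℕ := [4, 2, 1, 0, 4, 2, 0, 2, 1, 0]

/-- Coded vectors with three entries. -/
def K3 : VecCode Quad 3 := code3 (fun x => x.num) ofNum ofNum_num 4 fun x => x.num.isLt

/-- Coded vectors with four entries. -/
def K4 : VecCode Quad 4 := code4 (fun x => x.num) ofNum ofNum_num 4 fun x => x.num.isLt

/-- The monomial generators. -/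
noncomputable def gI : Fin 3 → Cfsg.SU 3 Quad 2 :=
  ![mkSU hF4 m0 (by decide +kernel) (by decide +kernel), mkSU hF4 m1 (by decide +kernel) (by decide +kernel),
    mkSU hF4 m2 (by decide +kernel) (by decide +kernel)]

/-- The two generators of `SU_3(2)`. -/
noncomputable def gens : Fin 2 → Cfsg.SU 3 Quad 2 :=
  ![mkSU hF4 mX (by decide +kernel) (by decide +kernel), mkSU hF4 mY (by decide +kernel) (by decide +kernel)]

/-- The conjugating element. -/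
noncomputable def gC : Cfsg.SU 3 Quad 2 := mkSU hF4 mC (by decide +kernel) (by decide +kernel)

/-- Its inverse. -/
noncomputable def gCi : Cfsg.SU 3 Quad 2 := mkSU hF4 mCi (by decide +kernel) (by decide +kernel)

theorem gC_inv : gCi = gC⁻¹ := by
  refine eq_inv_of_mul_eq_one_left (su_ext ?_)
  show mCi * mC = 1
  decide +kernel

/-- The monomial letters. -/
noncomputable def fI (i : ℕ) : Cfsg.SU 3 Quad 2 := if h : i < 3 then gI ⟨i, h⟩ else 1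

/-- Their matrices. -/
def matI : ℕ → Matrix (Fin 3) (Fin 3) Quad := fun i => [m0, m1, m2].getD i 1

theorem mat_fI : ∀ i, mat (fI i) = matI i
  | 0 | 1 | 2 => rfl
  | i + 3 => by
    rw [fI, dif_neg (by omega)]
    rfl

/-- The letters of `SU_3(2)`. -/
noncomputable def fX (i : ℕ) : Cfsg.SU 3 Quad 2 := if h : i < 2 then gens ⟨i, h⟩ else 1

/-- Their matrices. -/
def matX : ℕ → Matrix (Fin 3) (Fin 3) Quad := fun i => [mX, mY].getD i 1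

theorem mat_fX : ∀ i, mat (fX i) = matX i
  | 0 | 1 => rfl
  | i + 2 => by
    rw [fX, dif_neg (by omega)]
    rfl

theorem word_eval {G : Type*} [Group G] (f : ℕ → G) :
    ∀ w : List ℕ, CosetTable.eval f w.reverse = WordTable.eval f w
  | [] => rfl
  | a :: w => by
    rw [List.reverse_cons, CosetTable.eval_append, word_eval f w]
    show 1 * f a * _ = _
    rw [one_mul]
    simp [WordTable.eval]

theorem actW_enc {F : Type} [Field F] [Fintype F] {m q : ℕ} (K : VecCode F m) (f : ℕ → Cfsg.SU m F q)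
    (M : ℕ → Matrix (Fin m) (Fin m) F) (hM : ∀ i, mat (f i) = M i) :
    ∀ (w : List ℕ) (v : Fin m → F), actW K M w (K.enc v) = K.enc (mat (CosetTable.eval f w) *ᵥ v)
  | [], v => by
    show K.enc v = K.enc ((1 : Matrix (Fin m) (Fin m) F) *ᵥ v)
    rw [one_mulVec]
  | a :: w, v => by
    show CosetTable.force (K.enc (M a *ᵥ K.dec (K.enc v))) (actW K M w) = _
    rw [CosetTable.force_eq, K.dec_enc, actW_enc K f M hM w, mulVec_mulVec, ← hM]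
    rfl

theorem eval_replicate {G : Type*} [Group G] (f : ℕ → G) (k g : ℕ) :
    WordTable.eval f (List.replicate k g) = f g ^ k := by
  simp [WordTable.eval, List.prod_replicate]

theorem relW_check : ∀ w ∈ relW, ∀ j, actW K3 matX w.reverse (K3.enc (Pi.single j 1)) =
    K3.enc (Pi.single j 1) := by decide +kernel

theorem eval_relW (w : List ℕ) (hw : w ∈ relW) : WordTable.eval fX w = 1 := by
  rw [← word_eval]
  exact eval_eq_one_of_actW K3 fX matX mat_fX _ (relW_check w hw)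

theorem table_checked : WordTable.check relW words steps 216 2 = true := by decide +kernel

theorem card_three : Nat.card (Cfsg.SU 3 Quad 2) = 216 := by
  have h := Classical.succ_mul_natCard_SU hF4 3 (by norm_num)
  rw [Classical.natCard_GU hF4 3] at h
  norm_num [Finset.prod_range_succ, Nat.even_add_one] at h
  omega

theorem card_four : Nat.card (Cfsg.SU 4 Quad 2) = 25920 := by
  have h := Classical.succ_mul_natCard_SU hF4 4 (by norm_num)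
  rw [Classical.natCard_GU hF4 4] at h
  norm_num [Finset.prod_range_succ, Nat.even_add_one] at h
  omega

/-- The code of an element given by a word. -/
noncomputable def wordCode (w : List ℕ) : ℕ × ℕ :=
  (actW K3 matX w.reverse (K3.enc (Pi.single 0 1)), actW K3 matX w.reverse (K3.enc (Pi.single 1 1)))

theorem codes_nodup : (words.map wordCode).Nodup := by decide +kernel

theorem words_length : words.length = 216 := by decide +kernel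

theorem closure_gens : Subgroup.closure (Set.range gens) = ⊤ := by
  set K := Subgroup.closure (Set.range gens)
  have hmem : ∀ w, CosetTable.eval fX w ∈ K := fun w => by
    refine CosetTable.eval_mem _ _ fun a _ => ?_
    rw [fX]
    split_ifs
    · exact Subgroup.subset_closure ⟨_, rfl⟩
    · exact one_mem _
  let c : Fin words.length → K := fun i => ⟨CosetTable.eval fX (words[i]).reverse, hmem _⟩
  have hc : Function.Injective c := by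
    intro i j e
    have e' : ∀ w v : List ℕ, CosetTable.eval fX w.reverse = CosetTable.eval fX v.reverse →
        wordCode w = wordCode v := by
      intro w v h
      simp only [wordCode, actW_enc K3 fX matX mat_fX, h]
    have := e' _ _ (congrArg Subtype.val e)
    exact Fin.ext (codes_nodup.getElem_inj_iff.1 (show
      (words.map wordCode)[i.val]'(by simp) = (words.map wordCode)[j.val]'(by simp) by simpa using this))
  refine Subgroup.eq_top_of_le_card K ?_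
  rw [card_three]
  calc 216 = Nat.card (Fin words.length) := by rw [Nat.card_fin, words_length]
    _ ≤ Nat.card K := Nat.card_le_card_of_injective c hc

theorem pres_three : Pres gens 4 := by
  classical
  let tok : ℕ → FreeGroup (Fin 2) := fun i => if h : i < 2 then FreeGroup.of ⟨i, h⟩ else 1
  have hlift : ∀ {X : Type} [Group X] (y : Fin 2 → X) (w : List ℕ),
      FreeGroup.lift y (WordTable.eval tok w) = WordTable.eval (fun i => if h : i < 2 then y ⟨i, h⟩ else 1) w := by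
    intro X _ y w
    rw [WordTable.eval, map_list_prod, List.map_map]
    refine congrArg List.prod (List.map_congr_left fun i _ => ?_)
    simp only [Function.comp_apply, tok]
    split_ifs <;> simp
  refine ⟨(relW.map (WordTable.eval tok)).toFinset, (List.toFinset_card_le _).trans (by simp [relW]), ?_,
    fun G _ y hy => ?_⟩
  · intro x hx
    obtain ⟨w, hw, rfl⟩ := List.mem_map.1 (List.mem_toFinset.1 hx)
    rw [hlift]
    exact eval_relW w hw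
  set D := Subgroup.closure (Set.range fun j => (gens j, y j))
  let f : ℕ → D := fun i => if h : i < 2 then ⟨(gens ⟨i, h⟩, y ⟨i, h⟩), Subgroup.subset_closure ⟨⟨i, h⟩, rfl⟩⟩ else 1
  have hone : ∀ w ∈ relW, WordTable.eval f w = 1 := by
    intro w hw
    have e1 : ∀ {X : Type} [Group X] (φ : D →* X), φ (WordTable.eval f w) = WordTable.eval (fun i => φ (f i)) w :=
      fun φ => by rw [WordTable.eval, map_list_prod, List.map_map]; rfl
    refine Subtype.ext (Prod.ext ?_ ?_)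
    · refine (e1 ((MonoidHom.fst _ G).comp D.subtype)).trans (Eq.trans ?_ (eval_relW w hw))
      congr 1; funext i; simp only [f, fX]; split_ifs <;> rfl
    · refine (e1 ((MonoidHom.snd _ G).comp D.subtype)).trans ?_
      have := hy _ (List.mem_toFinset.2 (List.mem_map_of_mem hw))
      rw [hlift] at this
      refine Eq.trans ?_ this
      congr 1; funext i; simp only [f]; split_ifs <;> rfl
  have hgen : Subgroup.closure (f '' Set.Iio 2) = ⊤ := by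
    apply Subgroup.map_injective D.subtype_injective
    rw [MonoidHom.map_closure, ← MonoidHom.range_eq_map, Subgroup.range_subtype]
    show _ = Subgroup.closure _
    congr 1
    ext z
    constructor
    · rintro ⟨_, ⟨g, hg, rfl⟩, rfl⟩
      refine ⟨⟨g, hg⟩, ?_⟩
      have e : f g = ⟨(gens ⟨g, hg⟩, y ⟨g, hg⟩), Subgroup.subset_closure ⟨⟨g, hg⟩, rfl⟩⟩ := dif_pos hg
      exact (congrArg Subtype.val e).symm
    · rintro ⟨j, rfl⟩
      exact ⟨_, ⟨j, j.isLt, rfl⟩, congrArg Subtype.val (dif_pos j.isLt : f j = _)⟩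
  have hord : ∀ g < 2, IsOfFinOrder (f g) := by
    intro g hg
    rw [isOfFinOrder_iff_pow_eq_one]
    refine ⟨4, by norm_num, ?_⟩
    have h4 : List.replicate 4 g ∈ relW := by
      revert g; decide +kernel
    exact (eval_replicate f 4 g).symm.trans (hone _ h4)
  obtain ⟨hfin, hcard⟩ := WordTable.finite_and_card_le f (n := 216) (k := 2) (by norm_num) hone hgen hord table_checked
  exact ShortPres.exists_hom_of_card closure_gens y (Set.toFinite _) (hcard.trans card_three.ge)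

/-- The letters of the window. -/
noncomputable def tok4 : ℕ → FreeGroup (alternatingGroup (Fin 4) ⊕ Cfsg.SU 3 Quad 2)
  | 4 => FreeGroup.of (Sum.inr gC) * FreeGroup.of (Sum.inl b4) * FreeGroup.of (Sum.inr gCi)
  | i => winTok fI i

/-- The letters of the window in `SU_4(2)`. -/
noncomputable def f4 : ℕ → Cfsg.SU 4 Quad 2 :=
  fun i => glueEval (permSU (F := Quad) (q := 2)) (embSU hF4 (ptEmb le34)) (tok4 i)

/-- The block matrix on four coordinates. -/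
def emb4 (m : Matrix (Fin 3) (Fin 3) Quad) : Matrix (Fin 4) (Fin 4) Quad :=
  1 + Schur.UnitMult.sel Quad (ptEmb le34) * (m - 1) * (Schur.UnitMult.sel Quad (ptEmb le34))ᵀ

/-- Their matrices. -/
def mat4 : ℕ → Matrix (Fin 4) (Fin 4) Quad
  | 0 => pMat Quad b4.1
  | 4 => emb4 mC * pMat Quad b4.1 * emb4 mCi
  | i + 1 => emb4 (matI i)

theorem f4_four : f4 4 = embSU hF4 (ptEmb le34) gC * permSU b4 * embSU hF4 (ptEmb le34) gCi := by
  simp [f4, tok4]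

theorem f4_succ (i : ℕ) (hi : i + 1 ≠ 4) : f4 (i + 1) = embSU hF4 (ptEmb le34) (fI i) := by
  have : tok4 (i + 1) = FreeGroup.of (Sum.inr (fI i)) := by
    unfold tok4
    split
    · omega
    · rfl
  simp [f4, this]

theorem mat_f4 : ∀ i, mat (f4 i) = mat4 i := by
  intro i
  have emb_eq : ∀ g, mat (embSU hF4 (ptEmb le34) g) = emb4 (mat g) := fun g => rfl
  rcases i with _ | i
  · simp [f4, tok4, winTok]; rfl
  by_cases h : i + 1 = 4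
  · obtain rfl : i = 3 := by omega
    rw [f4_four, mat_mul, mat_mul, emb_eq, emb_eq]
    rfl
  · rw [f4_succ i h, emb_eq, mat_fI]
    unfold mat4
    split
    · omega
    · omega
    · rename_i j hj _
      obtain rfl : i = j := by omega
      rfl

/-- The extra relators of the window. -/
noncomputable def winRels : List (List ℕ) := CosetTable.SUPresWinTwo.relsL.drop 10

theorem win_check : ∀ w ∈ winRels, ∀ j, actW K4 mat4 w (K4.enc (Pi.single j 1)) =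
    K4.enc (Pi.single j 1) := by decide +kernel

theorem def_check : ∀ p ∈ [(defX, mX), (defY, mY)], ∀ j, actW K4 mat4 p.1 (K4.enc (Pi.single j 1)) =
    K4.enc (emb4 p.2 *ᵥ Pi.single j 1) := by decide +kernel

theorem mono_rels : ∀ w ∈ [[0, 0], [1, 1], [2, 2]] ++
    ((CosetTable.SUPresWinTwo.relsL.drop 5).take 4).map (List.map (· - 1)),
    ∀ j, actW K3 matI w (K3.enc (Pi.single j 1)) = K3.enc (Pi.single j 1) := by decide +kernel

theorem relsL_sub :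
    ∀ w ∈ CosetTable.SUPresWinTwo.relsL, w ∈ [0, 0] :: [4, 4] ::
    (([[0, 0], [1, 1], [2, 2]] ++ ((CosetTable.SUPresWinTwo.relsL.drop 5).take 4).map (List.map (· - 1))).map
      (List.map (· + 1))) ++
    [([1, 2, 1, 3, 2, 1] ++ [0]) ++ (([1, 2, 1, 3, 2, 1] ++ [0]) ++ ([1, 2, 1, 3, 2, 1] ++ [0]))] ++ winRels := by
  decide +kernel

theorem cyc_b4 : (b4 * (cyc3 le34)⁻¹) * (b4 * (cyc3 le34)⁻¹) * (b4 * (cyc3 le34)⁻¹) = 1 := by decide +kernel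

theorem aw_check : ∀ j, actW K3 matI [0, 1, 0, 2, 1, 0] (K3.enc (Pi.single j 1)) =
    K3.enc (pMat Quad ((cyc3 (le_refl 3))⁻¹).1 *ᵥ Pi.single j 1) := by decide +kernel

theorem eval_aw : CosetTable.eval fI [0, 1, 0, 2, 1, 0] = (permSU (cyc3 (le_refl 3)) : Cfsg.SU 3 Quad 2)⁻¹ := by
  rw [← map_inv]
  exact eval_eq_elt_of_actW K3 fI matI mat_fI _ _ aw_check

theorem mono_closed : ∀ e ∈ monoWords, ∀ i < 3, ∃ e' ∈ monoWords, ∀ j,
    actW K3 matI (i :: e.1) (K3.enc (Pi.single j 1)) = actW K3 matI e'.1 (K3.enc (Pi.single j 1)) := by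
  have key : ∀ e ∈ monoWords, ∀ i < 3, e.2.getD i 0 < monoWords.length ∧ ∀ j,
      actW K3 matI (i :: e.1) (K3.enc (Pi.single j 1)) =
        actW K3 matI (monoWords.getD (e.2.getD i 0) ([], [])).1 (K3.enc (Pi.single j 1)) := by decide +kernel
  intro e he i hi
  obtain ⟨hl, h⟩ := key e he i hi
  exact ⟨_, by rw [List.getD_eq_getElem _ _ hl]; exact List.getElem_mem hl, h⟩

/-- The monomial subgroup. -/
noncomputable def mono : Subgroup (Cfsg.SU 3 Quad 2) := Subgroup.closure {x | ∃ i < 3, fI i = x}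

theorem card_mono : Nat.card mono ≤ 54 := by
  classical
  have h1 : ([] : List ℕ) ∈ monoWords.map Prod.fst := by decide +kernel
  have hinv : ∀ i < 3, fI i * fI i = 1 := fun i hi => by
    have hm : [i, i] ∈ [[0, 0], [1, 1], [2, 2]] ++
        ((CosetTable.SUPresWinTwo.relsL.drop 5).take 4).map (List.map (· - 1)) := by
      refine List.mem_append_left _ ?_
      revert i; decide +kernel
    simpa [CosetTable.eval] using eval_eq_one_of_actW K3 fI matI mat_fI _ (mono_rels _ hm)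
  set S : Set (Cfsg.SU 3 Quad 2) := {x | ∃ e ∈ monoWords, CosetTable.eval fI e.1 = x}
  have hstep : ∀ x ∈ S, ∀ i < 3, x * fI i ∈ S := by
    rintro _ ⟨e, he, rfl⟩ i hi
    obtain ⟨e', he', h⟩ := mono_closed e he i hi
    exact ⟨e', he', (eval_eq_of_actW K3 fI matI mat_fI _ _ h).symm⟩
  have hsub : ∀ x ∈ mono, ∀ y ∈ S, y * x ∈ S := by
    intro x hx
    induction hx using Subgroup.closure_induction'' with
    | one => simp
    | mem x hx => obtain ⟨i, hi, rfl⟩ := hx; exact fun y hy => hstep y hy i hi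
    | inv_mem x hx =>
      obtain ⟨i, hi, rfl⟩ := hx
      rw [inv_eq_of_mul_eq_one_right (hinv i hi)]
      exact fun y hy => hstep y hy i hi
    | mul x z _ _ hx hz => exact fun y hy => by rw [← mul_assoc]; exact hz _ (hx y hy)
  have hS : ∀ x : mono, ∃ e : Fin monoWords.length, CosetTable.eval fI (monoWords[e]).1 = x.1 := by
    rintro ⟨x, hx⟩
    obtain ⟨⟨w, _⟩, he, e0⟩ := List.mem_map.1 h1
    obtain rfl : w = [] := e0
    obtain ⟨e', he', h⟩ := hsub x hx 1 ⟨_, he, rfl⟩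
    obtain ⟨m, hm, rfl⟩ := List.getElem_of_mem he'
    exact ⟨⟨m, hm⟩, by simpa using h⟩
  choose g hg using hS
  have hinj : Function.Injective g := fun a b e => Subtype.ext (by rw [← hg a, ← hg b, e])
  calc Nat.card mono ≤ Nat.card (Fin monoWords.length) := Nat.card_le_card_of_injective g hinj
    _ = 54 := by rw [Nat.card_fin]; decide +kernel

/-- The window. -/
noncomputable def winCert : WinCert hF4 where
  wl := winRels.map (CosetTable.eval tok4) ++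
    [CosetTable.eval tok4 defX * (FreeGroup.of (Sum.inr (gens 0)))⁻¹,
      CosetTable.eval tok4 defY * (FreeGroup.of (Sum.inr (gens 1)))⁻¹]
  valid := by
    intro z hz
    have hd : ∀ p ∈ [(defX, mX), (defY, mY)], ∀ g : Cfsg.SU 3 Quad 2, mat g = p.2 →
        glueEval (permSU (F := Quad) (q := 2)) (embSU hF4 (ptEmb le34))
          (CosetTable.eval tok4 p.1 * (FreeGroup.of (Sum.inr g))⁻¹) = 1 := by
      intro p hp g hg
      rw [map_mul, map_inv, glueEval_inr, map_eval, mul_inv_eq_one]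
      refine eval_eq_elt_of_actW K4 f4 mat4 mat_f4 _ _ fun j => ?_
      rw [def_check p hp j, ← hg]
      rfl
    rcases List.mem_append.1 hz with hz | hz
    · obtain ⟨w, hw, rfl⟩ := List.mem_map.1 hz
      rw [map_eval]
      exact eval_eq_one_of_actW K4 f4 mat4 mat_f4 w (win_check w hw)
    · simp only [List.mem_cons, List.not_mem_nil, or_false] at hz
      rcases hz with rfl | rfl
      · exact hd (defX, mX) (by simp) _ rfl
      · exact hd (defY, mY) (by simp) _ rfl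
  bound := by
    intro G _ ρ β hc hz hsup
    let f : ℕ → G := fun i => glueEval ρ β (tok4 i)
    have f0 : f 0 = ρ b4 := by simp [f, tok4, winTok]
    have f4' : f 4 = β gC * ρ b4 * (β gC)⁻¹ := by
      simp [f, tok4, gC_inv]
    have fs : ∀ i, i < 3 → f (i + 1) = β (fI i) := fun i hi => by
      interval_cases i <;> simp [f, tok4, winTok]
    have hsh : ∀ w : List ℕ, (∀ a ∈ w, a < 3) → CosetTable.eval f (w.map (· + 1)) = β (CosetTable.eval fI w) := by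
      intro w hw
      rw [eval_map, map_eval]
      induction w with
      | nil => rfl
      | cons a w ih =>
        show CosetTable.eval _ w * f (a + 1) = CosetTable.eval _ w * β (fI a)
        rw [ih fun b hb => hw b (List.mem_cons_of_mem _ hb), fs a (hw a List.mem_cons_self)]
    have hrel : ∀ w ∈ CosetTable.SUPresWinTwo.relsL, CosetTable.eval f w = 1 := by
      intro w hw
      have hw := relsL_sub w hw
      rcases List.mem_append.1 hw with hw | hw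
      · rcases List.mem_append.1 hw with hw | hw
        · rcases List.mem_cons.1 hw with rfl | hw
          · show 1 * f 0 * f 0 = 1
            rw [one_mul, f0, ← map_mul, b4_mul_self, map_one]
          rcases List.mem_cons.1 hw with rfl | hw
          · show 1 * f 4 * f 4 = 1
            rw [one_mul, f4', show β gC * ρ b4 * (β gC)⁻¹ * (β gC * ρ b4 * (β gC)⁻¹) =
              β gC * (ρ b4 * ρ b4) * (β gC)⁻¹ by group, ← map_mul, b4_mul_self, map_one, mul_one, mul_inv_cancel]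
          obtain ⟨v, hv, rfl⟩ := List.mem_map.1 hw
          have hlt : ∀ a ∈ v, a < 3 := by
            have : ∀ v ∈ [[0, 0], [1, 1], [2, 2]] ++
                ((CosetTable.SUPresWinTwo.relsL.drop 5).take 4).map (List.map (· - 1)), ∀ a ∈ v, a < 3 := by
              decide +kernel
            exact this v hv
          rw [hsh v hlt, eval_eq_one_of_actW K3 fI matI mat_fI v (mono_rels v hv), map_one]
        · rw [List.mem_singleton.1 hw]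
          have e : CosetTable.eval f ([1, 2, 1, 3, 2, 1] ++ [0]) = ρ (b4 * (cyc3 le34)⁻¹) := by
            rw [CosetTable.eval_append, show ([1, 2, 1, 3, 2, 1] : List ℕ) = List.map (· + 1) [0, 1, 0, 2, 1, 0]
              from rfl, hsh _ (by decide), eval_aw, map_inv, ← hc]
            show (1 * f 0) * _ = _
            rw [one_mul, f0, map_mul, map_inv]
          rw [CosetTable.eval_append, CosetTable.eval_append, e, ← map_mul, ← map_mul, cyc_b4, map_one]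
      · rw [← hz _ (List.mem_append_left _ (List.mem_map_of_mem hw)), map_eval]
    have hinv : ∀ g, g < 5 → f g * f g = 1 := fun g hg => by
      have hm : [g, g] ∈ CosetTable.SUPresWinTwo.relsL := by
        revert g
        decide +kernel
      simpa [CosetTable.eval] using hrel _ hm
    have M : CosetTable.Model f CosetTable.SUPresWinTwo.cert := by
      refine ⟨CosetTable.SUPresWinTwo.words_ok, hinv, hrel, ?_⟩
      set K := Subgroup.closure {x | ∃ g, g < CosetTable.SUPresWinTwo.cert.k ∧ f g = x}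
      have hgm : ∀ g, g < 5 → f g ∈ K := fun g hg => Subgroup.subset_closure ⟨g, hg, rfl⟩
      have hmemw : ∀ w : List ℕ, (∀ a ∈ w, a < 5) → CosetTable.eval f w ∈ K := fun w hw =>
        CosetTable.eval_mem _ _ fun a ha => hgm a (hw a ha)
      have hX : ∀ (w : List ℕ) (g : Cfsg.SU 3 Quad 2), (∀ a ∈ w, a < 5) →
          glueEval ρ β (CosetTable.eval tok4 w * (FreeGroup.of (Sum.inr g))⁻¹) = 1 → β g ∈ K := by
        intro w g hw h
        rw [map_mul, map_inv, glueEval_inr, map_eval, mul_inv_eq_one] at h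
        exact h ▸ hmemw w hw
      have hβ : β.range ≤ K := by
        rw [MonoidHom.range_eq_map, ← closure_gens, MonoidHom.map_closure, Subgroup.closure_le]
        rintro _ ⟨_, ⟨j, rfl⟩, rfl⟩
        fin_cases j
        · exact hX defX _ (by decide) (hz _ (List.mem_append_right _ (by simp)))
        · exact hX defY _ (by decide) (hz _ (List.mem_append_right _ (by simp)))
      rw [eq_top_iff, ← hsup, sup_le_iff]
      refine ⟨?_, hβ⟩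
      rw [MonoidHom.range_eq_map, ← closure_b4, MonoidHom.map_closure, Subgroup.closure_le]
      rintro _ ⟨x, rfl | rfl, rfl⟩
      · exact f0 ▸ hgm 0 (by norm_num)
      · rw [hc]; exact hβ ⟨_, rfl⟩
    have hsub : CosetTable.wordSubgroup f CosetTable.SUPresWinTwo.cert.subs ≤ mono.map β := by
      rw [CosetTable.wordSubgroup, Subgroup.closure_le]
      rintro _ ⟨w, hw, rfl⟩
      refine CosetTable.eval_mem _ _ fun a ha => ?_
      have hpos : ∀ w ∈ CosetTable.SUPresWinTwo.subsL, ∀ a ∈ w, a = a - 1 + 1 ∧ a - 1 < 3 := by decide +kernel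
      obtain ⟨ha1, ha2⟩ := hpos w hw a ha
      rw [ha1, fs _ ha2]
      exact Subgroup.mem_map_of_mem _ (Subgroup.subset_closure ⟨_, ha2, rfl⟩)
    have hmap : Finite (mono.map β) ∧ Nat.card (mono.map β) ≤ 54 := by
      have hs : Function.Surjective (β.subgroupMap mono) := β.subgroupMap_surjective mono
      exact ⟨Finite.of_surjective _ hs, (Nat.card_le_card_of_surjective _ hs).trans card_mono⟩
    have := hmap.1
    obtain ⟨hfin, hcard⟩ := CosetTable.SUPresWinTwo.cover.finite_card_le M (b := 54)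
      ⟨Finite.of_injective _ (Subgroup.inclusion_injective hsub),
        (Nat.card_le_card_of_injective _ (Subgroup.inclusion_injective hsub)).trans hmap.2⟩
    refine ⟨hfin, hcard.trans (le_of_eq ?_)⟩
    rw [card_four]
    rfl

theorem hasSUPres {n : ℕ} (hn : 4 ≤ n) : HasSUPres n Quad 2 := by
  classical
  obtain ⟨u, v, huv⟩ := exists_su2_gens hF4
  obtain ⟨ex, hexl, hexv, hexR⟩ := exists_tri_rels.{0, 0} hn hF4 (us := [u, v]) (by
    rw [← huv]; congr 1; ext z; simp) (ws := [gens 0, gens 1]) (by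
    rw [← closure_gens]; congr 1; ext z; simp [Fin.exists_fin_two, eq_comm])
  have hlen : (winCert.lift hn).length = 5 := by
    rw [WinCert.lift, List.length_map]
    show (winRels.map _ ++ _).length = 5
    rw [List.length_append, List.length_map]
    have : winRels.length = 3 := by decide +kernel
    rw [this]; rfl
  have hrec : RecogEx hF4 hn (le_refl 3) (le34.trans hn) (winCert.lift hn ++ ex) := by
    intro G _ ρ β pr R O hgen hz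
    obtain ⟨t1, t2, t3⟩ := hexR G ρ β R fun z h => hz z (List.mem_append_right _ h)
    exact surjective_of_windows hF4 hn R O hgen
      ⟨winCert.exists_window hn R O fun z h => hz z (List.mem_append_left _ h), t1, t2, t3⟩
  have hex : ∀ z ∈ winCert.lift hn ++ ex,
      glueEval (permSU (F := Quad) (q := 2)) (embSU hF4 (ptEmb (le34.trans hn))) z = 1 :=
    fun z hz => (List.mem_append.1 hz).elim (winCert.valid_lift hn z) (hexv z)
  simp only [List.length_cons, List.length_nil] at hexl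
  rcases (show n = 4 ∨ n = 5 ∨ 6 ≤ n by omega) with rfl | rfl | h6
  · obtain ⟨NA, hA, cA⟩ := pres_alt_four
    obtain ⟨N, hN, cN⟩ := pres_su_ex hF4 hn (le_refl 3) (le34.trans hn) _ hex hrec hA cA pres_three closure_gens
    obtain ⟨N', h', c'⟩ := Pres.exists_fin 2 hN cN 6 (by simp)
    simp at hexl
    exact ⟨N', _, by simp [hlen, hexl], by simp [hlen, hexl], h', c'⟩
  · obtain ⟨N, hN, cN⟩ := pres_su_ex hF4 hn (le_refl 3) (le34.trans hn) _ hex hrec AltFive.pres_five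
      AltFive.closure_gens pres_three closure_gens
    obtain ⟨N', h', c'⟩ := Pres.exists_fin 2 hN cN 6 (by simp)
    norm_num at hexl
    refine ⟨N', _, ?_, fun _ => ?_, h', c'⟩ <;> simp [hlen] <;> omega
  · obtain ⟨R, hR, ⟨e⟩⟩ := ThreeGenPres.pres_three_alt (n := n) (by omega)
    obtain ⟨hA, cA⟩ := Pres.of_presented hR e
    obtain ⟨N, hN, cN⟩ := pres_su_ex hF4 hn (le_refl 3) (le34.trans hn) _ hex hrec hA cA pres_three closure_gens
    obtain ⟨N', h', c'⟩ := Pres.exists_fin 1 hN cN 6 (by simp)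
    refine ⟨N', _, ?_, fun h => absurd h (by omega), h', c'⟩
    rw [List.length_append, hlen]
    split_ifs at hexl ⊢ <;> omega

end Cfsg.Agent.Lib.SUPres.Two
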