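import Cfsg.Agent.Lib.Schur.UnitCoord
import Cfsg.Prelude.Def_PhanSystems

/-!
Permutation matrices and coordinate blocks inside `SU_n(q)`.
-/

set_option autoImplicit false
set_option linter.unusedSectionVars false

namespace Cfsg.Agent.Lib.SUPres

open Matrix Equiv Cfsg.Agent.Lib.Schur.UnitMult Cfsg.Agent.Lib.UnitaryMax

variable {F : Type*} [Field F] [Fintype F] {n m k q : ℕ}

/-- Permutation matrices. -/
def pMat (F : Type*) [Field F] (π : Perm (Fin n)) : Matrix (Fin n) (Fin n) F := monoMat π fun _ => 1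

theorem pMat_mul (π σ : Perm (Fin n)) : pMat F (π * σ) = pMat F π * pMat F σ := by
  refine Matrix.ext_of_mulVec_single fun a => ?_
  simp only [pMat, ← mulVec_mulVec, monoMat_single, one_smul, Perm.coe_mul, Function.comp_apply]

theorem pMat_one : pMat F (1 : Perm (Fin n)) = 1 := by
  refine Matrix.ext_of_mulVec_single fun a => ?_
  simp only [pMat, monoMat_single, one_smul, one_mulVec, Perm.coe_one, id]

theorem det_pMat {π : Perm (Fin n)} (h : π ∈ alternatingGroup (Fin n)) : (pMat F π).det = 1 := by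
  rw [pMat, det_monoMat, Perm.mem_alternatingGroup.1 h]; simp

theorem pMat_sel (π : Perm (Fin n)) (f : Fin m ↪ Fin n) :
    pMat F π * sel F f = sel F (f.trans π.toEmbedding) := by
  refine Matrix.ext_of_mulVec_single fun a => ?_
  rw [← mulVec_mulVec, sel_single, sel_single, pMat, monoMat_single, one_smul]
  rfl

theorem sel_pMat_symm (π : Perm (Fin n)) (f : Fin m ↪ Fin n) :
    (sel F f)ᵀ * pMat F π⁻¹ = (sel F (f.trans π.toEmbedding))ᵀ := by
  have : (pMat F π⁻¹)ᵀ = pMat F π := by
    ext i j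
    simp only [pMat, monoMat, transpose_apply, Matrix.of_apply]
    refine if_congr ?_ rfl rfl
    rw [Perm.eq_inv_iff_eq, eq_comm]
  rw [← pMat_sel, transpose_mul, ← this, transpose_transpose]

theorem sel_trans (g : Fin k ↪ Fin m) (f : Fin m ↪ Fin n) : sel F f * sel F g = sel F (g.trans f) := by
  refine Matrix.ext_of_mulVec_single fun a => ?_
  rw [← mulVec_mulVec, sel_single, sel_single, sel_single]
  rfl

variable (hF : Fintype.card F = q ^ 2)

/-- Even permutations as elements of `SU_n(q)`. -/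
noncomputable def permSU : alternatingGroup (Fin n) →* Cfsg.SU n F q where
  toFun π := ⟨⟨pMat F π.1, det_pMat π.2⟩, fun u v => by
    show ∑ i, (pMat F π.1 *ᵥ u) i * (pMat F π.1 *ᵥ v) i ^ q = ∑ i, u i * v i ^ q
    rw [← Equiv.sum_comp π.1]
    simp [pMat, monoMat_mulVec]⟩
  map_one' := Subtype.ext (Subtype.ext pMat_one)
  map_mul' π σ := Subtype.ext (Subtype.ext (pMat_mul π.1 σ.1))

/-- The matrix of an element of `SU_n(q)`. -/
abbrev mat (g : Cfsg.SU n F q) : Matrix (Fin n) (Fin n) F := g.1.1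

theorem mat_mul (a b : Cfsg.SU n F q) : mat (a * b) = mat a * mat b := rfl

theorem su_ext {a b : Cfsg.SU n F q} (e : mat a = mat b) : a = b := Subtype.ext (Subtype.ext e)

include hF in
theorem embMat_herm (f : Fin m ↪ Fin n) (g : Cfsg.SU m F q) (u v : Fin n → F) :
    Cfsg.hermForm n F q (embMat F f (mat g) *ᵥ u) (embMat F f (mat g) *ᵥ v) = Cfsg.hermForm n F q u v := by
  have h0 : embGL F f (suEquiv m F q g : GL (Fin m) F) ∈ SUS F q (Finset.univ.map f) :=
    map_suGL hF f ▸ Subgroup.mem_map_of_mem _ (suEquiv m F q g).2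
  exact apply_K h0.1 u v

/-- The block embedding along an injection. -/
noncomputable def embSU (f : Fin m ↪ Fin n) : Cfsg.SU m F q →* Cfsg.SU n F q where
  toFun g := ⟨⟨embMat F f (mat g), by rw [det_embMat]; exact g.1.2⟩, embMat_herm hF f g⟩
  map_one' := su_ext (map_one (embMat F f))
  map_mul' a b := su_ext (map_mul (embMat F f) _ _)

theorem mat_embSU (f : Fin m ↪ Fin n) (g : Cfsg.SU m F q) : mat (embSU hF f g) = embMat F f (mat g) := rfl

theorem mat_embSU' (f : Fin m ↪ Fin n) (g : Cfsg.SU m F q) :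
    ((embSU hF f g : Cfsg.SU n F q).1 : Matrix (Fin n) (Fin n) F) =
      1 + sel F f * (mat g - 1) * (sel F f)ᵀ := rfl

theorem suEquiv_embSU (f : Fin m ↪ Fin n) (g : Cfsg.SU m F q) :
    ((suEquiv n F q (embSU hF f g)) : GL (Fin n) F) = embGL F f (suEquiv m F q g) := Units.ext rfl

theorem embSU_injective (f : Fin m ↪ Fin n) : Function.Injective (embSU hF f) := fun a b e => by
  have h1 := congrArg (fun x : Cfsg.SU n F q => ((suEquiv n F q x) : GL (Fin n) F)) e
  simp only [suEquiv_embSU] at h1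
  exact (suEquiv m F q).injective (Subtype.ext (embGL_injective f h1))

theorem conj_embSU (f : Fin m ↪ Fin n) (π : alternatingGroup (Fin n)) (g : Cfsg.SU m F q) :
    permSU π * embSU hF f g * (permSU π)⁻¹ = embSU hF (f.trans (π.1).toEmbedding) g := by
  rw [← map_inv]
  apply su_ext
  rw [mat_mul, mat_mul, mat_embSU, mat_embSU]
  show pMat F π.1 * (1 + sel F f * (mat g - 1) * (sel F f)ᵀ) * pMat F (π.1)⁻¹ = _
  rw [Matrix.mul_add, Matrix.add_mul, Matrix.mul_one, ← pMat_mul, mul_inv_cancel, pMat_one,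
    show pMat F π.1 * (sel F f * (mat g - 1) * (sel F f)ᵀ) * pMat F (π.1)⁻¹ =
      (pMat F π.1 * sel F f) * (mat g - 1) * ((sel F f)ᵀ * pMat F (π.1)⁻¹) by simp only [Matrix.mul_assoc],
    pMat_sel, sel_pMat_symm]
  rfl

theorem embSU_trans (g : Fin k ↪ Fin m) (f : Fin m ↪ Fin n) :
    (embSU (q := q) hF f).comp (embSU hF g) = embSU hF (g.trans f) := by
  refine MonoidHom.ext fun a => su_ext ?_
  show embMat F f (embMat F g (mat a)) = embMat F (g.trans f) (mat a)
  show 1 + sel F f * (1 + sel F g * (mat a - 1) * (sel F g)ᵀ - 1) * (sel F f)ᵀ =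
    1 + sel F (g.trans f) * (mat a - 1) * (sel F (g.trans f))ᵀ
  rw [← sel_trans g f, transpose_mul, add_sub_cancel_left]
  simp only [Matrix.mul_assoc]

theorem embSU_permSU (f : Fin m ↪ Fin n) (σ : alternatingGroup (Fin m)) (π : alternatingGroup (Fin n))
    (hon : ∀ a, π.1 (f a) = f (σ.1 a)) (hoff : ∀ i ∉ Finset.univ.map f, π.1 i = i) :
    embSU hF f (permSU σ) = (permSU π : Cfsg.SU n F q) := by
  refine su_ext (Matrix.ext_of_mulVec_single fun i => ?_)
  show embMat F f (pMat F σ.1) *ᵥ Pi.single i 1 = pMat F π.1 *ᵥ Pi.single i 1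
  rw [embMat_mulVec, pMat, pMat, monoMat_single, one_smul]
  by_cases hi : i ∈ Finset.univ.map f
  · obtain ⟨a, -, rfl⟩ := Finset.mem_map.1 hi
    have hc : (Pi.single (f a) (1 : F) : Fin n → F) ∘ f = Pi.single a 1 := funext fun b => by
      simp [Pi.single_apply]
    rw [hc, monoMat_single, one_smul, mulVec_sub, sel_single, sel_single, add_sub_cancel, hon]
  · have hc : (Pi.single i (1 : F) : Fin n → F) ∘ f = 0 := funext fun b => by
      have : f b ≠ i := fun e => hi (by simp [← e])
      simp [this]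
    rw [hc, mulVec_zero, sub_self, mulVec_zero, add_zero, hoff i hi]

theorem embSU_commute (f : Fin m ↪ Fin n) (g : Fin k ↪ Fin n) (hd : ∀ a b, f a ≠ g b)
    (x : Cfsg.SU m F q) (y : Cfsg.SU k F q) : Commute (embSU hF f x) (embSU hF g y) := by
  have h1 : embGL F f (suEquiv m F q x) ∈ SUS F q (Finset.univ.map f) :=
    map_suGL hF f ▸ Subgroup.mem_map_of_mem _ (suEquiv m F q x).2
  have h2 : embGL F g (suEquiv k F q y) ∈ SUS F q (Finset.univ.map g) :=
    map_suGL hF g ▸ Subgroup.mem_map_of_mem _ (suEquiv k F q y).2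
  have hdis : Disjoint (Finset.univ.map f) (Finset.univ.map g) := by
    rw [Finset.disjoint_left]
    intro i hi hi'
    obtain ⟨a, -, rfl⟩ := Finset.mem_map.1 hi
    obtain ⟨b, -, e⟩ := Finset.mem_map.1 hi'
    exact hd a b e.symm
  have h := commute_of_disjoint hF hdis h1 h2
  rw [← suEquiv_embSU hF, ← suEquiv_embSU hF] at h
  refine (suEquiv n F q).injective ?_
  rw [map_mul, map_mul]
  exact Subtype.ext h

theorem range_embSU_eq (f : Fin m ↪ Fin n) {g : Fin m ↪ Fin n} (h : Set.range f = Set.range g) :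
    (embSU (q := q) hF f).range = (embSU hF g).range := by
  have hm : Finset.univ.map f = Finset.univ.map g := by
    apply Finset.coe_injective
    simpa using h
  have key : ∀ e : Fin m ↪ Fin n, ((embSU (q := q) hF e).range.map (suEquiv n F q).toMonoidHom).map
      (suGL n F q).subtype = SUS F q (Finset.univ.map e) := by
    intro e
    rw [← map_suGL hF e, MonoidHom.range_eq_map, Subgroup.map_map, Subgroup.map_map]
    ext z
    simp only [Subgroup.mem_map, Subgroup.mem_top, true_and]
    constructor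
    · rintro ⟨a, rfl⟩
      exact ⟨_, (suEquiv m F q a).2, (suEquiv_embSU hF e a).symm⟩
    · rintro ⟨b, hb, rfl⟩
      exact ⟨(suEquiv m F q).symm ⟨b, hb⟩, (suEquiv_embSU hF e _).trans (by rw [MulEquiv.apply_symm_apply])⟩
  apply Subgroup.map_injective (f := (suEquiv n F q).toMonoidHom) (suEquiv n F q).injective
  apply Subgroup.map_injective (suGL n F q).subtype_injective
  rw [key, key, hm]

theorem suBlock_eq (f : Fin m ↪ Fin n) {s : Set (Fin n)} (hs : s = Set.range f) :
    Cfsg.suBlock n F q s = (embSU hF f).range := by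
  subst hs
  apply le_antisymm
  · rw [Cfsg.suBlock, Subgroup.closure_le]
    intro A hA
    have h0 : ((suEquiv n F q A) : GL (Fin n) F) ∈ SUS F q (Finset.univ.map f) := by
      refine ⟨(suEquiv n F q A).2, fun i hi => ?_⟩
      have hi' : i ∉ Set.range f := by simpa using hi
      funext l
      show (mat A *ᵥ Pi.single i 1) l = _
      rw [mulVec_single_one, Pi.single_apply]
      rcases eq_or_ne l i with rfl | hl
      · simpa using (hA l hi').1
      · simpa [hl] using ((hA i hi').2 l hl).2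
    rw [← map_suGL hF f] at h0
    obtain ⟨g, hg, e⟩ := h0
    refine ⟨(suEquiv m F q).symm ⟨g, hg⟩, (suEquiv n F q).injective (Subtype.ext ?_)⟩
    rw [suEquiv_embSU, MulEquiv.apply_symm_apply]
    exact e
  · rintro _ ⟨g, rfl⟩
    refine Subgroup.subset_closure fun i hi => ?_
    have hi' : i ∉ Finset.univ.map f := by simpa using hi
    have hzero : ∀ a, sel F f i a = 0 := fun a => by
      have : i ≠ f a := fun e => hi' (by simp [e])
      simp [sel, this]
    refine ⟨?_, fun l hl => ⟨?_, ?_⟩⟩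
    · rw [mat_embSU' hF]; simp [Matrix.mul_apply, Matrix.add_apply, hzero]
    · rw [mat_embSU' hF]; simp [Matrix.mul_apply, Matrix.add_apply, hzero, hl.symm]
    · rw [mat_embSU' hF]; simp [Matrix.mul_apply, Matrix.add_apply, hzero, hl]

end Cfsg.Agent.Lib.SUPres
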