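import Cfsg.Agent.Lib.SUPres.RecogWindows
import Cfsg.Agent.Lib.CosetTable.Sound

/-!
The window of four coordinates from a certified bound.
-/

set_option autoImplicit false
set_option linter.unusedSectionVars false

namespace Cfsg.Agent.Lib.SUPres

open Equiv Cfsg.Agent.Lib.BoundedPresentation

universe u v

/-- A bound on all groups satisfying the relations gives the homomorphism. -/
theorem exists_hom_of_bound {G₁ G₂ : Type*} [Group G₁] [Group G₂] {H : Type u} [Group H] [Finite H]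
    (φ₁ : G₁ →* H) (φ₂ : G₂ →* H) (hgen : φ₁.range ⊔ φ₂.range = ⊤) (gl : List (FreeGroup (G₁ ⊕ G₂)))
    (hgl : ∀ z ∈ gl, glueEval φ₁ φ₂ z = 1)
    (bound : ∀ (G : Type u) [Group G] (ψ₁ : G₁ →* G) (ψ₂ : G₂ →* G), (∀ z ∈ gl, glueEval ψ₁ ψ₂ z = 1) →
      ψ₁.range ⊔ ψ₂.range = ⊤ → Finite G ∧ Nat.card G ≤ Nat.card H)
    {G : Type u} [Group G] (ψ₁ : G₁ →* G) (ψ₂ : G₂ →* G) (h : ∀ z ∈ gl, glueEval ψ₁ ψ₂ z = 1) :
    ∃ Ψ : H →* G, (∀ g, Ψ (φ₁ g) = ψ₁ g) ∧ ∀ g, Ψ (φ₂ g) = ψ₂ g := by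
  classical
  set θ₁ : G₁ →* H × G := φ₁.prod ψ₁
  set θ₂ : G₂ →* H × G := φ₂.prod ψ₂
  set Γ : Subgroup (H × G) := θ₁.range ⊔ θ₂.range
  let χ₁ : G₁ →* Γ := θ₁.codRestrict Γ fun g => Subgroup.mem_sup_left ⟨g, rfl⟩
  let χ₂ : G₂ →* Γ := θ₂.codRestrict Γ fun g => Subgroup.mem_sup_right ⟨g, rfl⟩
  have hχ : ∀ z ∈ gl, glueEval χ₁ χ₂ z = 1 := by
    intro z hz
    have e1 := map_glueEval ((MonoidHom.fst H G).comp Γ.subtype) χ₁ χ₂ z
    have e2 := map_glueEval ((MonoidHom.snd H G).comp Γ.subtype) χ₁ χ₂ z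
    apply Subtype.ext
    exact Prod.ext (e1.trans (hgl z hz)) (e2.trans (h z hz))
  have htop : χ₁.range ⊔ χ₂.range = ⊤ := by
    apply Subgroup.map_injective Γ.subtype_injective
    rw [Subgroup.map_sup, MonoidHom.map_range, MonoidHom.map_range, ← MonoidHom.range_eq_map,
      Subgroup.range_subtype]
    rfl
  obtain ⟨hfin, hcard⟩ := bound Γ χ₁ χ₂ hχ htop
  let π : Γ →* H := (MonoidHom.fst H G).comp Γ.subtype
  have hsurj : Function.Surjective π := by
    rw [← MonoidHom.range_eq_top, eq_top_iff, ← hgen, sup_le_iff]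
    exact ⟨fun _ ⟨g, hg⟩ => ⟨χ₁ g, hg⟩, fun _ ⟨g, hg⟩ => ⟨χ₂ g, hg⟩⟩
  let e := MulEquiv.ofBijective π (Function.Surjective.bijective_of_nat_card_le hsurj hcard)
  refine ⟨((MonoidHom.snd H G).comp Γ.subtype).comp e.symm.toMonoidHom, fun g => ?_, fun g => ?_⟩
  · have : e.symm (φ₁ g) = χ₁ g := e.symm_apply_eq.2 rfl
    simp only [MonoidHom.comp_apply, MulEquiv.coe_toMonoidHom, this]; rfl
  · have : e.symm (φ₂ g) = χ₂ g := e.symm_apply_eq.2 rfl
    simp only [MonoidHom.comp_apply, MulEquiv.coe_toMonoidHom, this]; rfl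

variable {F : Type u} [Field F] [Fintype F] {n q : ℕ}

/-- Relators on four points bounding every group by the order of `SU_4(q)`. -/
structure WinCert (hF : Fintype.card F = q ^ 2) where
  wl : List (FreeGroup (alternatingGroup (Fin 4) ⊕ Cfsg.SU 3 F q))
  valid : ∀ z ∈ wl, glueEval (permSU (F := F) (q := q)) (embSU hF (ptEmb le34)) z = 1
  bound : ∀ (G : Type u) [Group G] (ρ : alternatingGroup (Fin 4) →* G) (β : Cfsg.SU 3 F q →* G),
    ρ (cyc3 le34) = β (permSU (cyc3 (le_refl 3))) → (∀ z ∈ wl, glueEval ρ β z = 1) →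
      ρ.range ⊔ β.range = ⊤ → Finite G ∧ Nat.card G ≤ Nat.card (Cfsg.SU 4 F q)

/-- The relators moved to more points. -/
noncomputable def WinCert.lift {hF : Fintype.card F = q ^ 2} (C : WinCert hF) (hn : 4 ≤ n) :
    List (FreeGroup (alternatingGroup (Fin n) ⊕ Cfsg.SU 3 F q)) :=
  C.wl.map (FreeGroup.map (Sum.map (liftAlt hn) id))

theorem glueEval_lift {G : Type*} [Group G] (hn : 4 ≤ n) (A : alternatingGroup (Fin n) →* G)
    {X : Type*} (B : X → G) (z : FreeGroup (alternatingGroup (Fin 4) ⊕ X)) :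
    glueEval A B (FreeGroup.map (Sum.map (liftAlt hn) id) z) = glueEval (A.comp (liftAlt hn)) B z := by
  rw [glueEval, lift_map_comp]
  refine congrArg (fun f => FreeGroup.lift f z) ?_
  funext a
  cases a <;> rfl

theorem liftAlt_cyc (hn : 4 ≤ n) : liftAlt hn (cyc3 le34) = cyc3 (le34.trans hn) := by
  refine Subtype.ext (Equiv.ext fun x => ?_)
  by_cases h : ∃ i, pt hn i = x
  · obtain ⟨i, rfl⟩ := h
    rw [liftAlt_pt]
    fin_cases i
    · exact (congrArg (pt hn) (cyc3_apply le34 0)).trans (cyc3_apply (le34.trans hn) 0).symm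
    · exact (congrArg (pt hn) (cyc3_apply le34 1)).trans (cyc3_apply (le34.trans hn) 1).symm
    · exact (congrArg (pt hn) (cyc3_apply le34 2)).trans (cyc3_apply (le34.trans hn) 2).symm
    · rw [cyc3_off, cyc3_off]
      · intro i e; fin_cases i <;> simp [pt, Fin.ext_iff] at e
      · intro i e; fin_cases i <;> simp [pt, Fin.ext_iff] at e
  · push Not at h
    rw [liftAlt_off hn _ h, cyc3_off]
    intro i e
    exact h (pt le34 i) e

theorem embSU_liftAlt (hF : Fintype.card F = q ^ 2) (hn : 4 ≤ n) (g : alternatingGroup (Fin 4)) :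
    embSU hF (ptEmb hn) (permSU g) = (permSU (liftAlt hn g) : Cfsg.SU n F q) :=
  embSU_permSU hF (ptEmb hn) g (liftAlt hn g) (fun a => liftAlt_pt hn g a) fun i hi =>
    liftAlt_off hn g fun j e => hi (Finset.mem_map.2 ⟨j, Finset.mem_univ _, e⟩)

theorem WinCert.valid_lift {hF : Fintype.card F = q ^ 2} (C : WinCert hF) (hn : 4 ≤ n) :
    ∀ z ∈ C.lift hn, glueEval (permSU (F := F) (q := q)) (embSU hF (ptEmb (le34.trans hn))) z = 1 := by
  intro z hz
  obtain ⟨w, hw, rfl⟩ := List.mem_map.1 hz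
  rw [glueEval_lift]
  have e := congrArg (embSU hF (ptEmb hn)) (C.valid w hw)
  rw [map_glueEval, map_one] at e
  convert e using 3
  · funext g; exact (embSU_liftAlt hF hn g).symm
  · funext x
    rw [← MonoidHom.comp_apply (embSU hF (ptEmb hn)), embSU_trans, ptEmb_trans]

theorem WinCert.exists_window {hF : Fintype.card F = q ^ 2} (C : WinCert hF) (hn : 4 ≤ n) {G : Type u} [Group G]
    {ρ : alternatingGroup (Fin n) →* G} {β : Cfsg.SU 3 F q →* G} {pr : G →* Cfsg.SU n F q}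
    (R : Rels hF hn (le_refl 3) ρ β) (O : Over hF (le34.trans hn) ρ β pr)
    (hex : ∀ z ∈ C.lift hn, glueEval ρ β z = 1) :
    ∃ Θ : Cfsg.SU 4 F q →* G, (∀ x, pr (Θ x) = embSU hF (ptEmb hn) x) ∧ β.range ≤ Θ.range ∧
      ∀ g, ρ (liftAlt hn g) ∈ Θ.range := by
  have htop := sup_eq_top hF (le_refl 4) (le_refl 3) le34
  let cw : FreeGroup (alternatingGroup (Fin 4) ⊕ Cfsg.SU 3 F q) :=
    FreeGroup.of (Sum.inl (cyc3 le34)) * (FreeGroup.of (Sum.inr (permSU (cyc3 (le_refl 3)))))⁻¹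
  have hcw : ∀ (X : Type u) [Group X] (A : alternatingGroup (Fin 4) →* X) (B : Cfsg.SU 3 F q →* X),
      glueEval A B cw = 1 ↔ A (cyc3 le34) = B (permSU (cyc3 (le_refl 3))) := fun X _ A B => by
    simp only [cw, map_mul, map_inv, glueEval_inl, glueEval_inr, mul_inv_eq_one]
  obtain ⟨Θ, h1, h2⟩ := exists_hom_of_bound (permSU (F := F) (q := q)) (embSU hF (ptEmb le34)) htop (cw :: C.wl)
    (List.forall_mem_cons.2 ⟨(hcw _ _ _).2 (embSU_permSU hF (ptEmb le34) _ _ (fun a => by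
      rw [ptEmb_apply, cyc3_apply]
      exact congrArg (pt le34) (cyc3_apply (le_refl 3) a).symm) (fun i hi => cyc3_off _ fun j e =>
        hi (Finset.mem_map.2 ⟨j, Finset.mem_univ _, e⟩))).symm, C.valid⟩)
    (fun X _ A B h hsup => C.bound X A B ((hcw _ _ _).1 (h _ List.mem_cons_self))
      (fun z hz => h z (List.mem_cons_of_mem _ hz)) hsup)
    (ρ.comp (liftAlt hn)) β (List.forall_mem_cons.2 ⟨(hcw _ _ _).2 (by
      rw [MonoidHom.comp_apply, liftAlt_cyc]; exact R.cyc), fun z hz => by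
        rw [← glueEval_lift]; exact hex _ (List.mem_map_of_mem hz)⟩)
  refine ⟨Θ, fun x => ?_, ?_, fun g => ⟨_, h1 g⟩⟩
  · have : (⊤ : Subgroup (Cfsg.SU 4 F q)) ≤ (pr.comp Θ).eqLocus (embSU hF (ptEmb hn)) := by
      rw [← htop, sup_le_iff]
      constructor
      · rintro _ ⟨g, rfl⟩
        show pr (Θ (permSU g)) = _
        rw [h1, MonoidHom.comp_apply, O.alt, embSU_liftAlt]
      · rintro _ ⟨g, rfl⟩
        show pr (Θ (embSU hF (ptEmb le34) g)) = _
        rw [h2, O.blk, ← MonoidHom.comp_apply (embSU hF (ptEmb hn)), embSU_trans, ptEmb_trans]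
    exact this (Subgroup.mem_top x)
  · rintro _ ⟨x, rfl⟩
    exact ⟨_, h2 x⟩

end Cfsg.Agent.Lib.SUPres
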